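import Cfsg.Agent.Lib.Recog.FiM24.Common

set_option autoImplicit false
set_option maxRecDepth 20000

/-!
The twelve letters of a group of type M(24) satisfy the relators of Fi24 other than the long one, so Fi23 lifts to
the centraliser of the chart's member (owner: helper13).
-/

namespace CfsgLib.Recog.FiM24

open Cfsg CfsgLib.ThreeTrans CfsgLib.ThreeTrans.CosetIndex CfsgLib.Recog.FiM22.Factor CfsgLib.Recog.SporBound
open CfsgLib.Recog.FiThree (gg zz)
open CfsgLib.Recog.FiTypes (tr)
open CfsgLib.Recog.FiFour (gens24 bLetters tW sevenW ySides yExtra yGens yMap spider hLetters)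
open CfsgLib.Recog.BitPerm (closed_bits)

attribute [local instance] FiThree.finite_fi23'

universe u

/-- The edges among the twelve letters. -/
def edge24 (x y : ℕ) : Bool :=
  [(0, 10), (10, 0), (10, 11), (11, 10)].contains (x, y) || Model.edge x y

/-- The relator of a pair of letters. -/
def pairW (x y : ℕ) : List ℕ := if edge24 x y then [x, y, x, y, x, y] else [x, y, x, y]

theorem rels24_kinds : ((relWords Spor.Fi24.edges Spor.Fi24.extra gens24).all fun w =>
    (List.range 12).any (fun x => w == [x, x] || (List.range 12).any fun y => w == pairW x y) ||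
      (w == [11] ++ sevenW.reverse || Nat.blt 100 w.length)) = true := by decide +kernel

theorem rels23_short : ((relWords Spor.Fi23.edges Spor.Fi23.extra FiThree.gens).all fun w =>
    Nat.ble w.length 100) = true := by decide +kernel

theorem rels_y_short : ((relWords ySides yExtra yGens).all fun w => Nat.ble w.length 100) = true := by
  decide +kernel

theorem seven_ninth : sevenW = ESeven.ninth := by decide +kernel

theorem spider_shape : (spider.all (hLetters.contains ·) && Nat.beq (spider.length % 2) 0) = true := by decide +kernel

variable {G : Type u} [Group G] [Finite G] {D : Set G} {d k : G}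

namespace Chart

variable (C : Chart D d)
include C

/-- The twelve letters. -/
noncomputable def letter (k : G) (x : ℕ) : G := if x = 10 then k else if x = 11 then d else C.up (gg x)

theorem letter_lt (k : G) {x : ℕ} (hx : x < 10) : C.letter k x = C.up (gg x) := by
  rw [letter, if_neg (by omega), if_neg (by omega)]

theorem letter_ten (k : G) : C.letter k 10 = k := if_pos rfl

theorem letter_eleven (k : G) : C.letter k 11 = d := by rw [letter, if_neg (by omega), if_pos rfl]

theorem upW_letter (k : G) {w : List ℕ} (hw : ∀ x ∈ w, x < 10) : (w.map (C.letter k)).prod = C.upW w :=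
  congrArg List.prod (List.map_congr_left fun x hx => C.letter_lt k (hw x hx))

end Chart

/-- Twisting the letters by a commuting involution. -/
theorem twist_prod {M : Type u} [Group M] {L : ℕ → M} {a : M} (ha : a * a = 1) :
    ∀ {w : List ℕ}, (∀ x ∈ w, Commute a (L x)) →
      (w.map fun x => L x * a).prod = (w.map L).prod * if w.length % 2 = 1 then a else 1
  | [], _ => by simp
  | x :: w, h => by
    have hw : ∀ y ∈ w, Commute a (L y) := fun y hy => h y (List.mem_cons_of_mem _ hy)
    have hc : Commute a (w.map L).prod := Commute.list_prod_right _ _ fun z hz => by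
      obtain ⟨y, hy, rfl⟩ := List.mem_map.1 hz
      exact hw y hy
    rw [List.map_cons, List.prod_cons, twist_prod ha hw, List.map_cons, List.prod_cons, List.length_cons]
    rcases Nat.mod_two_eq_zero_or_one w.length with e | e
    · rw [if_neg (by omega), if_pos (by omega), mul_one, mul_assoc, hc.eq, ← mul_assoc]
    · rw [if_pos e, if_neg (by omega), mul_one, mul_assoc (L x) a, ← mul_assoc a, hc.eq, mul_assoc _ a a, ha, mul_one]

namespace Far

variable {C : Chart D d} (F : Far C k)
include F

theorem letter_mem {x : ℕ} (hx : x < 12) : C.letter k x ∈ D := by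
  rcases (show x < 10 ∨ x = 10 ∨ x = 11 by omega) with h | rfl | rfl
  · rw [C.letter_lt k h]; exact C.up_mem (Model.gg_mem_trans h)
  · rw [C.letter_ten]; exact F.mem
  · rw [C.letter_eleven]; exact C.mem

theorem letter_comm {x y : ℕ} (hx : x < 12) (hy : y < 12) :
    Commute (C.letter k x) (C.letter k y) ↔ edge24 x y = false := by
  have low : ∀ {a b : ℕ}, a < 10 → b < 10 → edge24 a b = Model.edge a b := fun {a b} ha hb =>
    (show ∀ i < 10, ∀ j < 10, edge24 i j = Model.edge i j by decide) a ha b hb
  have hd : ∀ {a : ℕ}, a < 10 → Commute d (C.up (gg a)) := fun ha => (C.up_nb (Model.gg_mem_trans ha)).2.2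
  have hk : ∀ {a : ℕ}, a < 10 → (Commute k (C.up (gg a)) ↔ edge24 10 a = false) := fun {a} ha => by
    by_cases h0 : a = 0
    · subst h0; exact iff_of_false F.notA (by decide)
    · exact iff_of_true (F.comm a ((show ∀ b < 10, b ≠ 0 → b ∈ bLetters by decide) a ha h0))
        ((show ∀ b < 10, b ≠ 0 → edge24 10 b = false by decide) a ha h0)
  have hsymm : ∀ {a b : ℕ}, a < 12 → b < 12 → edge24 a b = edge24 b a := fun {a b} ha hb =>
    (show ∀ i < 12, ∀ j < 12, edge24 i j = edge24 j i by decide) a ha b hb
  have e11 : ∀ i < 10, edge24 i 11 = false ∧ edge24 11 i = false := by decide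
  rcases (show x < 10 ∨ x = 10 ∨ x = 11 by omega) with hx' | rfl | rfl
  · rw [C.letter_lt k hx']
    rcases (show y < 10 ∨ y = 10 ∨ y = 11 by omega) with hy' | rfl | rfl
    · rw [C.letter_lt k hy', C.up_comm (Model.gg_mem_trans hx') (Model.gg_mem_trans hy'), Model.gg_comm_iff hx' hy',
        low hx' hy']
    · rw [C.letter_ten, hsymm hx (by omega), ← hk hx']
      exact ⟨fun h => h.symm, fun h => h.symm⟩
    · rw [C.letter_eleven]; exact iff_of_true (hd hx').symm (e11 x hx').1
  · rw [C.letter_ten]
    rcases (show y < 10 ∨ y = 10 ∨ y = 11 by omega) with hy' | rfl | rfl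
    · rw [C.letter_lt k hy']; exact hk hy'
    · rw [C.letter_ten]; exact iff_of_true (Commute.refl _) (by decide)
    · rw [C.letter_eleven]; exact iff_of_false (fun h => F.far h.symm) (by decide)
  · rw [C.letter_eleven]
    rcases (show y < 10 ∨ y = 10 ∨ y = 11 by omega) with hy' | rfl | rfl
    · rw [C.letter_lt k hy']; exact iff_of_true (hd hy') (e11 y hy').2
    · rw [C.letter_ten]; exact iff_of_false F.far (by decide)
    · rw [C.letter_eleven]; exact iff_of_true (Commute.refl _) (by decide)

theorem relG {w : List ℕ} (hw : w ∈ relWords Spor.Fi24.edges Spor.Fi24.extra gens24) (hlen : w.length ≤ 100) :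
    (w.map (C.letter k)).prod = 1 := by
  have h := List.all_eq_true.1 rels24_kinds w hw
  simp only [Bool.or_eq_true, List.any_eq_true, List.mem_range, beq_iff_eq] at h
  rcases h with ⟨x, hx, h⟩ | h | h
  · rcases h with rfl | ⟨y, hy, rfl⟩
    · simp [mul_self C.set3 (F.letter_mem hx)]
    · have hxx := mul_self C.set3 (F.letter_mem hx)
      have hyy := mul_self C.set3 (F.letter_mem hy)
      have hc := F.letter_comm hx hy
      unfold pairW
      cases he : edge24 x y
      · have c := (hc.2 he).eq
        simp only [Bool.false_eq_true, if_false, List.map_cons, List.map_nil, List.prod_cons, List.prod_nil, mul_one]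
        calc C.letter k x * (C.letter k y * (C.letter k x * C.letter k y))
            = C.letter k x * (C.letter k y * C.letter k x) * C.letter k y := by group
          _ = C.letter k x * C.letter k x * (C.letter k y * C.letter k y) := by rw [← c]; group
          _ = 1 := by rw [hxx, hyy, one_mul]
      · have c : ¬ Commute (C.letter k x) (C.letter k y) := fun h => by simp [hc.1 h] at he
        have b := braid C.set3 (F.letter_mem hx) (F.letter_mem hy) c
        simp only [if_true, List.map_cons, List.map_nil, List.prod_cons, List.prod_nil, mul_one]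
        calc C.letter k x * (C.letter k y * (C.letter k x * (C.letter k y * (C.letter k x * C.letter k y))))
            = (C.letter k x * C.letter k y * C.letter k x) * (C.letter k y * C.letter k x * C.letter k y) := by group
          _ = (C.letter k y * C.letter k x * C.letter k y) * (C.letter k y * C.letter k x * C.letter k y) := by rw [b]
          _ = C.letter k y * C.letter k x * (C.letter k y * C.letter k y) * C.letter k x * C.letter k y := by group
          _ = C.letter k y * (C.letter k x * C.letter k x) * C.letter k y := by rw [hyy]; group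
          _ = 1 := by rw [hxx, mul_one, hyy]
  · have hsq : ∀ x ∈ sevenW, C.letter k x * C.letter k x = 1 := fun x hx =>
      mul_self C.set3 (F.letter_mem ((show ∀ y ∈ sevenW, y < 12 by decide +kernel) x hx))
    have hd : (sevenW.map (C.letter k)).prod = d := by
      rw [C.upW_letter k (by decide +kernel), seven_ninth, C.seven]
    have hrev : (sevenW.reverse.map (C.letter k)).prod = d⁻¹ := by
      have e : (sevenW.reverse.map (C.letter k)).prod = ((sevenW.map (C.letter k)).prod)⁻¹ := by
        rw [List.prod_inv_reverse, ← List.map_reverse, ← List.map_reverse, List.map_map]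
        exact congrArg List.prod (List.map_congr_left fun x hx =>
          (inv_eq_of_mul_eq_one_right (hsq x (List.mem_reverse.1 hx))).symm)
      rw [e, hd]
    rw [h, List.map_append, List.prod_append, hrev, List.map_singleton, List.prod_singleton, C.letter_eleven,
      mul_inv_cancel]
  · exact absurd (Nat.le_of_ble_eq_true h) (by omega)

theorem spiderG : (spider.map (C.letter k)).prod = 1 := by
  let ψ : Spor.CoxPresented (Fin 10) ySides yExtra →* G :=
    PresentedGroup.toGroup (f := fun y => C.letter k (yMap (yGens.idxOf y))) (by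
      intro r hr
      rw [hom_eq_prod yGens _ (fun x => if yMap x < 12 then C.letter k (yMap x) else 1) (fun y => by
          rw [FreeGroup.lift_apply_of, if_pos]
          exact (show ∀ z : Fin 10, yMap (yGens.idxOf z) < 12 by decide) y)
        (fun x => by
          split_ifs with hx
          · exact mul_self C.set3 (F.letter_mem hx)
          · exact one_mul _)]
      have hw : letters yGens r ∈ relWords ySides yExtra yGens := by
        rw [relWords, List.mem_append]
        rcases hr with ⟨x, hx, y, hy, rfl⟩ | hr
        · exact Or.inl (List.mem_flatMap.2 ⟨x, hx, List.mem_map.2 ⟨y, hy, rfl⟩⟩)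
        · exact Or.inr (List.mem_map.2 ⟨r, hr, rfl⟩)
      have h := List.contains_iff_mem.1 (List.all_eq_true.1 FiFour.y_rels24 _ hw)
      have h1 := F.relG h (by rw [List.length_map]; exact Nat.le_of_ble_eq_true (List.all_eq_true.1 rels_y_short _ hw))
      rw [List.map_map] at h1
      rw [← h1]
      refine congrArg List.prod (List.map_congr_left fun x hx => if_pos ?_)
      have := List.all_eq_true.1 (show ((relWords ySides yExtra yGens).all fun w => w.all fun x => Nat.blt (yMap x) 12)
        = true by decide +kernel) _ hw
      exact Nat.le_of_ble_eq_true (List.all_eq_true.1 this x hx))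
  have h := congrArg ψ FiFour.y_spider
  rw [map_one, map_list_prod, List.map_map] at h
  rw [← h, spider, List.map_map]
  refine congrArg List.prod (List.map_congr_left fun x hx => ?_)
  have hx10 : x < 10 := (show ∀ y ∈ FiFour.ySpider, y < 10 by decide +kernel) x hx
  have hlen : x < yGens.length := by simpa [yGens] using hx10
  show C.letter k (yMap x) = ψ (gen ySides yExtra yGens x)
  unfold gen
  rw [List.getElem?_eq_getElem hlen]
  show _ = ψ (PresentedGroup.of yGens[x])
  rw [PresentedGroup.toGroup.of, (show yGens.Nodup from List.nodup_finRange 10).idxOf_getElem _ hlen]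

/-- The lift of Fi23 to the centraliser of the chart's member. -/
theorem exists_iota : ∃ ι : Spor.Fi23 →* G, (∀ x < 10, ι (gg x) = C.up (gg x) * d) ∧
    ∀ u, ∃ h : ι u ∈ Subgroup.closure (nb D d), (QuotientGroup.mk ⟨ι u, h⟩ : SecG D d) = C.iso u := by
  have hd2 := mul_self C.set3 C.mem
  have hcomm : ∀ x ∈ hLetters, Commute d (C.letter k x) := fun x hx => by
    have h1 := (F.letter_comm (x := 11) (by norm_num) ((show ∀ y ∈ hLetters, y < 12 by decide) x hx)).2
      ((show ∀ y ∈ hLetters, edge24 11 y = false by decide) x hx)
    rwa [C.letter_eleven] at h1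
  have hsq : ∀ x, (if x ∈ hLetters then C.letter k x * d else 1) * (if x ∈ hLetters then C.letter k x * d else 1) = 1 := by
    intro x
    split_ifs with hx
    · calc C.letter k x * d * (C.letter k x * d) = C.letter k x * (d * C.letter k x) * d := by group
        _ = C.letter k x * C.letter k x * (d * d) := by rw [(hcomm x hx).eq]; group
        _ = 1 := by rw [mul_self C.set3 (F.letter_mem ((show ∀ y ∈ hLetters, y < 12 by decide) x hx)), hd2, one_mul]
    · exact one_mul _
  let ι : Spor.Fi23 →* G := PresentedGroup.toGroup (f := fun y => C.letter k (FiThree.gens.idxOf y) * d) (by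
    intro r hr
    rw [hom_eq_prod FiThree.gens _ (fun x => if x ∈ hLetters then C.letter k x * d else 1) (fun y => by
      rw [FreeGroup.lift_apply_of, if_pos]
      exact (show ∀ z : Spor.Fi23.Gen, FiThree.gens.idxOf z ∈ hLetters by intro z; cases z <;> decide) y) hsq]
    have hw : letters FiThree.gens r ∈ relWords Spor.Fi23.edges Spor.Fi23.extra FiThree.gens := by
      rw [relWords, List.mem_append]
      rcases hr with ⟨x, hx, y, hy, rfl⟩ | hr
      · exact Or.inl (List.mem_flatMap.2 ⟨x, hx, List.mem_map.2 ⟨y, hy, rfl⟩⟩)
      · exact Or.inr (List.mem_map.2 ⟨r, hr, rfl⟩)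
    have h := List.all_eq_true.1 FiFour.rels23_ok _ hw
    simp only [Bool.and_eq_true, Bool.or_eq_true, List.all_eq_true, List.contains_iff_mem, beq_iff_eq] at h
    obtain ⟨hl, h⟩ := h
    rw [List.map_congr_left (g := fun x => C.letter k x * d) fun x hx => if_pos (hl x hx),
      twist_prod hd2 fun x hx => hcomm x (hl x hx)]
    rcases h with ⟨he, h2⟩ | h2
    · rw [if_neg (by omega), mul_one]
      rcases h2 with h2 | h2
      · exact F.relG h2 (Nat.le_of_ble_eq_true (List.all_eq_true.1 rels23_short _ hw))
      · rw [h2]; exact F.spiderG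
    · rw [h2, if_pos (by decide +kernel), C.upW_letter k (by decide +kernel), seven_ninth, C.seven, hd2])
  have hgg : ∀ x < 10, ι (gg x) = C.up (gg x) * d := by
    intro x hx
    have hlen : x < FiThree.gens.length := hx
    unfold FiThree.gg gen
    rw [List.getElem?_eq_getElem hlen]
    show ι (PresentedGroup.of FiThree.gens[x]) = _
    rw [PresentedGroup.toGroup.of, (show FiThree.gens.Nodup by decide).idxOf_getElem _ hlen, C.letter_lt k hx]
    congr 1
    show C.up (gg x) = C.up (PresentedGroup.of FiThree.gens[x])
    congr 1
    unfold FiThree.gg gen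
    rw [List.getElem?_eq_getElem hlen]
    rfl
  refine ⟨ι, hgg, fun u => ?_⟩
  have hu : u ∈ Subgroup.closure {g | ∃ x < 10, g = gg x} := FiThree.closure_gg_lt ▸ Subgroup.mem_top u
  have hdc : (QuotientGroup.mk ⟨d, C.mem_closure⟩ : SecG D d) = 1 :=
    (QuotientGroup.eq_one_iff _).2 (Subgroup.mem_center_iff.2 fun z => Subtype.ext (C.closure_comm z.2).eq.symm)
  induction hu using Subgroup.closure_induction with
  | mem _ hx =>
    obtain ⟨x, hx, rfl⟩ := hx
    rw [hgg x hx]
    have ht := Model.gg_mem_trans hx
    refine ⟨mul_mem (Subgroup.subset_closure (C.up_nb ht)) C.mem_closure, ?_⟩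
    rw [← C.im_up ht]
    show (QuotientGroup.mk (⟨C.up (gg x), Subgroup.subset_closure (C.up_nb ht)⟩ * ⟨d, C.mem_closure⟩) : SecG D d) = _
    rw [QuotientGroup.mk_mul, hdc, mul_one]
    rfl
  | one =>
    refine ⟨by rw [map_one]; exact one_mem _, ?_⟩
    simp only [map_one]
    rfl
  | mul a b _ _ ia ib =>
    obtain ⟨ha, ea⟩ := ia
    obtain ⟨hb, eb⟩ := ib
    refine ⟨by rw [map_mul]; exact mul_mem ha hb, ?_⟩
    simp only [map_mul]
    rw [← ea, ← eb]
    rfl
  | inv a _ ia =>
    obtain ⟨ha, ea⟩ := ia
    refine ⟨by rw [map_inv]; exact inv_mem ha, ?_⟩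
    simp only [map_inv]
    rw [← ea]
    rfl

end Far

end CfsgLib.Recog.FiM24
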