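import Cfsg.Agent.Lib.Recog.FiM24.Sys
import Cfsg.Agent.Lib.Recog.FiM24.Iota
import Cfsg.Agent.Lib.Recog.FiTypes.Type24

set_option autoImplicit false
set_option maxRecDepth 20000
set_option linter.style.haveILetI false

/-!
A primitive group of type M(24) is Fi24 with its transpositions (owner: helper13).

The letters of the group and those of Fi24, taken in pairs, generate the graph of a homomorphism: the members of the
three kinds are kept by the pairs, and the second component of a member determines the first.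
-/

namespace CfsgLib.Recog.FiM24

open Cfsg CfsgLib.ThreeTrans CfsgLib.Recog.FiM22.Factor
open CfsgLib.Recog.FiThree (gg zz)
open CfsgLib.Recog.FiTypes (tr exists_tr tr_mem tr_conj)
open CfsgLib.Recog.FiFour (bLetters tW)
open CfsgLib.Recog.BitPerm (closed_bits)

attribute [local instance] FiThree.finite_fi23' FiFour.finite_fi24

open scoped commutatorElement

universe u

variable {G : Type u} [Group G] [Finite G] {D : Set G}

/-- A system of a type M(24) group. -/
structure Standard (D : Set G) where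
  d : G
  chart : Chart D d
  sys : Sys G
  d_eq : sys.L 11 = d
  k_mem : sys.L 10 ∈ D
  k_far : ¬ Commute d (sys.L 10)
  up_eq : ∀ t ∈ FiThree.trans, sys.up t = chart.up t

theorem exists_standard (hD : IsThreeTranspositionGroup D) (hprim : IsPrimitiveUnderConj D) (h : IsOfTypeM24 G D) :
    Nonempty (Standard D) := by
  obtain ⟨⟨d, C, k, hk1, hk2, hk3, hk4, hk5⟩⟩ := exists_frame hD hprim h
  have F : Far C k := ⟨hk1, hk2, hk3, hk4, hk5⟩
  obtain ⟨ι, hι, hιmk⟩ := F.exists_iota
  have hd2 : d * d = 1 := mul_self C.set3 C.mem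
  have hdι : ∀ u, Commute d (ι u) := fun u => C.closure_comm (hιmk u).1
  have hconj : ∀ u, ∀ t ∈ FiThree.trans, ι u * C.up t * (ι u)⁻¹ = C.up (u * t * u⁻¹) := by
    intro u t ht
    obtain ⟨hu, e⟩ := hιmk u
    refine (C.up_eq (Model.conj_mem_trans ht u) (C.conj_nb (hdι u).symm (C.up_nb ht)) ?_).symm
    rw [map_mul, map_mul, map_inv, ← e, ← C.im_up ht]
    rfl
  have hup : ∀ t ∈ FiThree.trans, ι t * d = C.up t := by
    intro t ht
    obtain ⟨g, rfl⟩ := FiThree.mem_trans.1 ht
    have e : g * zz * g⁻¹ = (g * (FiThree.word FiThree.ga)⁻¹) * gg 0 * (g * (FiThree.word FiThree.ga)⁻¹)⁻¹ := by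
      rw [← FiThree.ga_zz]; group
    rw [e, ← hconj _ _ (Model.gg_mem_trans (by norm_num))]
    generalize g * (FiThree.word FiThree.ga)⁻¹ = v
    rw [map_mul, map_mul, map_inv, hι 0 (by norm_num)]
    calc ι v * (C.up (gg 0) * d) * (ι v)⁻¹ * d = ι v * C.up (gg 0) * (d * (ι v)⁻¹) * d := by group
      _ = ι v * C.up (gg 0) * (ι v)⁻¹ * (d * d) := by rw [(hdι v).inv_right.eq]; group
      _ = _ := by rw [hd2, mul_one]
  have hlow : ∀ {x : ℕ}, x < 10 → ι (gg x) = C.letter k x * C.letter k 11 := fun hx => by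
    rw [C.letter_lt k hx, C.letter_eleven, hι _ hx]
  have hkeven : ∀ w : List ℕ, w.all (bLetters.contains ·) = true → w.length % 2 = 0 →
      Commute (ι (FiThree.word w)) k := by
    intro w hw he
    have hw' : ∀ x ∈ w, x ∈ bLetters := fun x hx => List.contains_iff_mem.1 (List.all_eq_true.1 hw x hx)
    have hlt : ∀ x ∈ w, x < 10 := fun x hx => (show ∀ y ∈ bLetters, y < 10 by decide) x (hw' x hx)
    have e : ι (FiThree.word w) = C.upW w := by
      rw [map_list_prod, List.map_map, List.map_congr_left (f := ⇑ι ∘ gg) (g := fun x => C.up (gg x) * d) fun x hx => hι x (hlt x hx),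
        twist_prod hd2 fun x hx => (C.up_nb (Model.gg_mem_trans (hlt x hx))).2.2, if_neg (by omega), mul_one]
      rfl
    rw [e]
    refine (Commute.list_prod_right _ _ fun z hz => ?_).symm
    obtain ⟨x, hx, rfl⟩ := List.mem_map.1 hz
    exact F.comm x (hw' x hx)
  have htW : Commute (ι (FiThree.word tW)) k := by
    set t := FiThree.word tW with ht
    set k' := ι t * k * (ι t)⁻¹ with hk'
    have hdt : ι t * d * (ι t)⁻¹ = d := by rw [← (hdι t).eq, mul_inv_cancel_right]
    have hcomm : ∀ c < 31671, commonPts.testBit c = true → Commute k' (C.up (tr c)) := by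
      intro c hc hb
      have hc' : FiThree.act t⁻¹ c < 31671 := FiTypes.act_lt _ hc
      have hb' : commonPts.testBit (FiThree.act t⁻¹ c) = true := by
        have hmem : FiThree.act t⁻¹ ∈
            Subgroup.closure {p | ∃ w ∈ tW :: Checks.bWords, p = BitPerm.wordPerm FiThree.net w} := by
          rw [map_inv]
          exact inv_mem (Subgroup.subset_closure ⟨tW, List.mem_cons_self, FiThree.act_word tW⟩)
        exact (closed_bits FiThree.acts.valid Checks.big_closed hmem c).trans hb
      have h1 := (F.comm_iff h hc').2 hb'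
      rw [← commute_conj_iff (g := ι t), hconj t _ (tr_mem hc'), tr_conj t hc', ← Equiv.Perm.mul_apply, ← map_mul,
        mul_inv_cancel, map_one] at h1
      exact h1
    have hz : Commute k' (C.up zz) := by
      rw [← FiTypes.tr_zero]
      exact hcomm 0 (by norm_num) ((F.comm_iff h (by norm_num)).1 (by rw [FiTypes.tr_zero]; exact F.z))
    have hsame : ∀ e ∈ nb D d, Commute k e → Commute k' e := by
      intro e he hke
      obtain ⟨s, hs, rfl⟩ := C.exists_up he
      obtain ⟨c, hc, rfl⟩ := exists_tr hs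
      exact hcomm c hc ((F.comm_iff h hc).1 hke)
    have hfar : ¬ Commute d k' := fun hc => F.far (by
      rw [← hdt, hk', commute_conj_iff] at hc; exact hc)
    rcases C.pair_of_common F.mem (C.sec.setting.grp.2.1 _ _ F.mem) F.far hfar (C.up_nb Model.zz_mem_trans) F.z.symm
      hz.symm hsame with e | e
    · exact mul_inv_eq_iff_eq_mul.1 e
    · exfalso
      have hdi := inv_eq C.set3 C.mem
      have e2 : ι t * (ι t * k * (ι t)⁻¹) * (ι t)⁻¹ = k := by
        calc ι t * (ι t * k * (ι t)⁻¹) * (ι t)⁻¹ = ι t * (d * k * d⁻¹) * (ι t)⁻¹ := by rw [e, hdi]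
          _ = (ι t * d * (ι t)⁻¹) * (ι t * k * (ι t)⁻¹) * (ι t * d * (ι t)⁻¹)⁻¹ := by group
          _ = k := by
            rw [hdt, e, hdi, show d * (d * k * d) * d = (d * d) * k * (d * d) by group, hd2, one_mul, mul_one]
      have e3 : ι t * k * (ι t)⁻¹ = k := by
        calc ι t * k * (ι t)⁻¹ = ι t * (ι t * (ι t * k * (ι t)⁻¹) * (ι t)⁻¹) * (ι t)⁻¹ := by rw [e2]
          _ = ι (t * t * t) * k * (ι (t * t * t))⁻¹ := by rw [map_mul, map_mul]; group
          _ = k := by rw [tW_cube, map_one, one_mul, inv_one, mul_one]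
      refine F.far ?_
      rw [e] at e3
      exact mul_inv_eq_iff_eq_mul.1 (by rw [hdi]; exact e3)
  have hstab : ∀ u ∈ kFix, Commute (ι u) k := by
    have hle : kFix ≤ (Subgroup.centralizer ({k} : Set G)).comap ι := kFix_le_of
      (Subgroup.mem_centralizer_singleton_iff.2 htW.eq)
      (fun w hw he => Subgroup.mem_centralizer_singleton_iff.2 (hkeven w hw he).eq)
    exact fun u hu => Subgroup.mem_centralizer_singleton_iff.1 (hle hu)
  obtain ⟨f, fd, fp, fj, fy⟩ := F.exists_flip h
  have hki := inv_eq C.set3 F.mem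
  let S : Sys G :=
    { L := C.letter k
      iota := ι
      flip := f
      iota_gg := fun x hx => hlow hx
      d_sq := by rw [C.letter_eleven]; exact hd2
      d_comm := fun u => by rw [C.letter_eleven]; exact hdι u
      k_sq := by rw [C.letter_ten]; exact mul_self C.set3 F.mem
      dk := by rw [C.letter_eleven, C.letter_ten]; exact braid C.set3 C.mem F.mem F.far
      k_near := fun c hc hb => by
        rw [C.letter_ten, C.letter_eleven, hup _ (tr_mem hc)]; exact (F.comm_iff h hc).2 hb
      k_far := fun c hc hb => by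
        rw [C.letter_ten, C.letter_eleven, hup _ (tr_mem hc)]
        exact braid C.set3 F.mem (C.up_mem (tr_mem hc)) fun hh => by
          rw [(F.comm_iff h hc).1 hh] at hb; exact Bool.noConfusion hb
      k_stab := fun u hu => by rw [C.letter_ten]; exact hstab u hu
      flip_d := by rw [C.letter_eleven, hup _ Model.zz_mem_trans]; exact fd
      flip_p := by rw [C.letter_eleven, hup _ Model.zz_mem_trans]; exact fp
      flip_j := by rw [C.letter_lt k (by norm_num), C.letter_ten]; exact fj
      flip_y := fun x hx => by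
        rw [C.letter_lt k (by omega), C.letter_lt k (Nat.lt_succ_of_lt (rv_spec x hx).1)]; exact fy x hx }
  refine ⟨⟨d, C, S, C.letter_eleven k, ?_, ?_, fun t ht => ?_⟩⟩
  · show C.letter k 10 ∈ D
    rw [C.letter_ten]; exact F.mem
  · show ¬ Commute d (C.letter k 10)
    rw [C.letter_ten]; exact F.far
  · show ι t * C.letter k 11 = C.up t
    rw [C.letter_eleven]; exact hup t ht

namespace Standard

variable (T : Standard D)
include T

theorem d_mem : T.sys.L 11 ∈ D := by rw [T.d_eq]; exact T.chart.mem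

theorem far_not_comm (u : Spor.Fi23) : ¬ Commute (T.sys.L 11) (T.sys.far u) := by
  intro h
  have e : T.sys.iota u * T.sys.L 11 * (T.sys.iota u)⁻¹ = T.sys.L 11 := by
    rw [← (T.sys.d_comm u).eq, mul_inv_cancel_right]
  refine T.k_far ?_
  rw [← T.d_eq]
  refine (commute_conj_iff (g := T.sys.iota u)).1 ?_
  rw [e]; exact h

theorem closure_letters : Subgroup.closure (T.sys.L '' {x | x < 12}) = ⊤ := by
  set H := Subgroup.closure (T.sys.L '' {x | x < 12}) with hH
  have hL : ∀ x < 12, T.sys.L x ∈ H := fun x hx => Subgroup.subset_closure ⟨x, hx, rfl⟩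
  have hι : ∀ u, T.sys.iota u ∈ H := by
    intro u
    have hu : u ∈ Subgroup.closure {g | ∃ x < 10, g = gg x} := FiThree.closure_gg_lt ▸ Subgroup.mem_top u
    induction hu using Subgroup.closure_induction with
    | mem _ hx =>
      obtain ⟨x, hx, rfl⟩ := hx
      rw [T.sys.iota_gg x hx]
      exact mul_mem (hL x (by omega)) (hL 11 (by norm_num))
    | one => rw [map_one]; exact one_mem _
    | mul a b _ _ ia ib => rw [map_mul]; exact mul_mem ia ib
    | inv a _ ia => rw [map_inv]; exact inv_mem ia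
  have htop := T.chart.sec.setting.max T.chart.mem T.k_mem T.k_far
  rw [eq_top_iff, ← htop, Subgroup.closure_le]
  rintro y (⟨hyD, hyc⟩ | rfl)
  · by_cases hy : y = T.d
    · rw [hy, ← T.d_eq]; exact hL 11 (by norm_num)
    · obtain ⟨t, ht, rfl⟩ := T.chart.exists_up (⟨hyD, hy, hyc⟩ : y ∈ nb D T.d)
      rw [← T.up_eq t ht]
      exact mul_mem (hι t) (hL 11 (by norm_num))
  · exact hL 10 (by norm_num)

theorem mem_kinds {m : G} (hm : m ∈ D) : T.sys.InU m := by
  obtain ⟨g, hg⟩ := class_trans T.chart.sec.setting.cls T.d_mem hm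
  rw [← hg]
  exact T.sys.keeps_closure (T.closure_letters ▸ Subgroup.mem_top g) _ (Or.inl rfl)

theorem stab_index_le : D.ncard ≤ 31672 + ((Subgroup.centralizer ({T.sys.L 10} : Set G)).comap T.sys.iota).index := by
  classical
  set Y := (Subgroup.centralizer ({T.sys.L 10} : Set G)).comap T.sys.iota with hY
  let F : (Unit ⊕ FiThree.trans) ⊕ (Spor.Fi23 ⧸ Y) → G := fun z => match z with
    | Sum.inl (Sum.inl _) => T.sys.L 11
    | Sum.inl (Sum.inr t) => T.sys.up t
    | Sum.inr q => T.sys.far q.out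
  have hsub : D ⊆ Set.range F := by
    intro m hm
    rcases T.mem_kinds hm with rfl | ⟨t, ht, rfl⟩ | ⟨u, rfl⟩
    · exact ⟨Sum.inl (Sum.inl ()), rfl⟩
    · exact ⟨Sum.inl (Sum.inr ⟨t, ht⟩), rfl⟩
    · refine ⟨Sum.inr (QuotientGroup.mk u), ?_⟩
      obtain ⟨y, hy⟩ := QuotientGroup.mk_out_eq_mul Y u
      have hc : T.sys.iota y * T.sys.L 10 = T.sys.L 10 * T.sys.iota y :=
        Subgroup.mem_centralizer_singleton_iff.1 y.2
      show T.sys.far _ = T.sys.far u
      rw [hy, Sys.far, Sys.far, map_mul, mul_assoc (T.sys.iota u), hc]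
      group
  refine (Set.ncard_le_ncard hsub).trans ((Finite.card_range_le F).trans_eq' ?_ |>.trans ?_)
  · exact (Nat.card_coe_set_eq _).symm
  · rw [Nat.card_sum, Nat.card_sum, Nat.card_unique, FiThree.card_trans, Subgroup.index_eq_card]

end Standard

/-- The second component of a member determines the first. -/
theorem comp_fst {H : Type} [Group H] [Finite H] {E : Set H} (T : Standard D) (U : Standard E)
    (hstab : ∀ u, Commute (U.sys.iota u) (U.sys.L 10) → u ∈ kFix) {m m' : G × H}
    (hm : (T.sys.prod U.sys).InU m) (hm' : (T.sys.prod U.sys).InU m') (e : m.2 = m'.2) : m = m' := by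
  have hne : ∀ t ∈ FiThree.trans, U.sys.up t ≠ U.sys.L 11 := fun t ht h => by
    rw [U.up_eq t ht, U.d_eq] at h
    exact (U.chart.up_nb ht).2.1 h
  have hcu : ∀ t, Commute (U.sys.L 11) (U.sys.up t) := fun t => (U.sys.d_comm t).mul_right (Commute.refl _)
  rcases hm with rfl | ⟨t, ht, rfl⟩ | ⟨u, rfl⟩ <;> rcases hm' with rfl | ⟨s, hs, rfl⟩ | ⟨v, rfl⟩
  · rfl
  · exact absurd e.symm (hne s hs)
  · exact absurd (by rw [← show U.sys.L 11 = U.sys.far v from e]) (U.far_not_comm v)
  · exact absurd e (hne t ht)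
  · have h : U.sys.up t = U.sys.up s := e
    rw [U.up_eq t ht, U.up_eq s hs] at h
    rw [U.chart.up_inj ht hs h]
  · exact absurd ((show U.sys.up t = U.sys.far v from e) ▸ hcu t) (U.far_not_comm v)
  · exact absurd (by rw [show U.sys.far u = U.sys.L 11 from e]) (U.far_not_comm u)
  · exact absurd ((show U.sys.far u = U.sys.up s from e).symm ▸ hcu s) (U.far_not_comm u)
  · have h : U.sys.far u = U.sys.far v := e
    have hc : v⁻¹ * u ∈ kFix := hstab _ (by
      rw [Sys.far, Sys.far] at h
      refine mul_inv_eq_iff_eq_mul.1 ?_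
      calc U.sys.iota (v⁻¹ * u) * U.sys.L 10 * (U.sys.iota (v⁻¹ * u))⁻¹
          = (U.sys.iota v)⁻¹ * (U.sys.iota u * U.sys.L 10 * (U.sys.iota u)⁻¹) * U.sys.iota v := by
            rw [map_mul, map_inv]; group
        _ = U.sys.L 10 := by rw [h]; group)
    have hk := ((T.sys.prod U.sys).k_stab _ hc).eq
    set P := T.sys.prod U.sys with hP
    show P.far u = P.far v
    calc P.far u = P.iota v * (P.iota (v⁻¹ * u) * P.L 10 * (P.iota (v⁻¹ * u))⁻¹) * (P.iota v)⁻¹ := by
          rw [Sys.far, map_mul, map_inv]; group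
      _ = P.far v := by rw [hk, mul_inv_cancel_right, Sys.far]

theorem card_trans24 : 306936 ≤ (FiTypes.D24).ncard := by
  choose s hs using fun c : Fin FiFour.numPts => FiFour.exists_point c.2
  let F : Fin FiFour.numPts → FiTypes.D24 := fun c =>
    ⟨s c * FiFour.gg 11 * (s c)⁻¹, isConj_iff.2 ⟨s c, rfl⟩⟩
  have hF : Function.Injective F := by
    intro a b e
    have e' : s a * FiFour.gg 11 * (s a)⁻¹ = s b * FiFour.gg 11 * (s b)⁻¹ := congrArg Subtype.val e
    have h : ((s b)⁻¹ * s a) * FiFour.gg 11 = FiFour.gg 11 * ((s b)⁻¹ * s a) := by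
      calc (s b)⁻¹ * s a * FiFour.gg 11 = (s b)⁻¹ * (s a * FiFour.gg 11 * (s a)⁻¹) * s a := by group
        _ = _ := by rw [e']; group
    have h0 := FiFour.Aut.comm_l_iff.1 h
    rw [map_mul, Equiv.Perm.mul_apply, map_inv, Equiv.Perm.inv_eq_iff_eq, hs, hs] at h0
    exact Fin.ext h0
  have := Nat.card_le_card_of_injective F hF
  rwa [Nat.card_fin, FiFour.numPts_eq, Nat.card_coe_set_eq] at this

theorem standard24_stab (U : Standard FiTypes.D24) {u : Spor.Fi23}
    (hu : Commute (U.sys.iota u) (U.sys.L 10)) : u ∈ kFix := by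
  set Y := (Subgroup.centralizer ({U.sys.L 10} : Set Spor.Fi24)).comap U.sys.iota with hY
  have hle : kFix ≤ Y := fun v hv => Subgroup.mem_centralizer_singleton_iff.2 (U.sys.k_stab v hv).eq
  have h1 := card_trans24.trans U.stab_index_le
  have h2 := Subgroup.card_mul_index Y
  rw [FiThree.card_fi23] at h2
  have h3 : Nat.card Y ≤ 14856539443200 := by
    refine Nat.le_of_mul_le_mul_right ?_ (show 0 < 275264 by decide +kernel)
    calc Nat.card Y * 275264 ≤ Nat.card Y * Y.index := Nat.mul_le_mul_left _ (by rw [← hY] at h1; omega)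
      _ ≤ _ := by rw [h2]
  have h4 : 14856539443200 ≤ Nat.card kFix := by
    have hφ : ∀ l ∈ FiFour.sLevels, ∀ w ∈ l.gens,
        BitPerm.wordPerm FiThree.net w ∈ (FiThree.act.comp kFix.subtype).range := by
      intro l hl w hw
      have h := List.all_eq_true.1 Checks.words_fix w (List.mem_flatMap.2 ⟨l, hl, hw⟩)
      simp only [Bool.or_eq_true, decide_eq_true_eq, Bool.and_eq_true] at h
      refine ⟨⟨FiThree.word w, ?_⟩, FiThree.act_word w⟩
      rcases h with rfl | ⟨h1, h2⟩
      · exact tW_kFix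
      · exact word_kFix h1 (Nat.eq_of_beq_eq_true h2)
    have h := BitPerm.total_mul_ker_le_card FiThree.acts.valid _ hφ FiFour.s_chain
    rw [FiFour.s_total] at h
    exact (Nat.le_mul_of_pos_right _ Nat.card_pos).trans h
  rw [Subgroup.eq_of_le_of_card_ge hle (h3.trans h4)]
  exact Subgroup.mem_centralizer_singleton_iff.2 hu.eq

/-- **A primitive group of type M(24) is Fi24 with its transpositions.** -/
theorem identify24 (hD : IsThreeTranspositionGroup D) (hprim : IsPrimitiveUnderConj D) (h : IsOfTypeM24 G D) :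
    ∃ e : Spor.Fi24 ≃* G, e '' FiTypes.D24 = D := by
  obtain ⟨T⟩ := exists_standard hD hprim h
  obtain ⟨U⟩ := exists_standard (G := Spor.Fi24) (group_of_class FiTypes.class24) FiTypes.primitive24 FiTypes.type24
  set P := T.sys.prod U.sys with hP
  set H := Subgroup.closure (P.L '' {x | x < 12}) with hH
  let π₁ : H →* G := (MonoidHom.fst _ _).comp H.subtype
  let π₂ : H →* Spor.Fi24 := (MonoidHom.snd _ _).comp H.subtype
  have s1 : Function.Surjective π₁ := by
    rw [← MonoidHom.range_eq_top, eq_top_iff, ← T.closure_letters, Subgroup.closure_le]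
    rintro _ ⟨x, hx, rfl⟩
    exact ⟨⟨P.L x, Subgroup.subset_closure ⟨x, hx, rfl⟩⟩, rfl⟩
  have s2 : Function.Surjective π₂ := by
    rw [← MonoidHom.range_eq_top, eq_top_iff, ← U.closure_letters, Subgroup.closure_le]
    rintro _ ⟨x, hx, rfl⟩
    exact ⟨⟨P.L x, Subgroup.subset_closure ⟨x, hx, rfl⟩⟩, rfl⟩
  have i2 : Function.Injective π₂ := by
    refine (MonoidHom.ker_eq_bot_iff _).1 ((Subgroup.eq_bot_iff_forall _).2 fun x hx => ?_)
    have hx2 : (x : G × Spor.Fi24).2 = 1 := hx
    refine Subtype.ext (Prod.ext (T.chart.center_G fun y hy => ?_) hx2)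
    obtain ⟨g, hg⟩ := class_trans T.chart.sec.setting.cls T.d_mem hy
    obtain ⟨z, rfl⟩ := s1 g
    have hm := P.keeps_closure z.2 _ (Or.inl rfl : P.InU (P.L 11))
    have hm' := P.keeps_closure x.2 _ hm
    have he := congrArg Prod.fst (comp_fst T U (fun u hu => standard24_stab U hu) hm' hm (by
      show (x : G × Spor.Fi24).2 * _ * ((x : G × Spor.Fi24).2)⁻¹ = _
      rw [hx2, one_mul, inv_one, mul_one]))
    rw [← hg]
    exact mul_inv_eq_iff_eq_mul.1 he
  let e2 : H ≃* Spor.Fi24 := MulEquiv.ofBijective π₂ ⟨i2, s2⟩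
  let ψ : Spor.Fi24 →* G := π₁.comp e2.symm.toMonoidHom
  have sψ : Function.Surjective ψ := s1.comp e2.symm.surjective
  have hψd : ψ (U.sys.L 11) = T.sys.L 11 := by
    have e : e2.symm (U.sys.L 11) = ⟨P.L 11, Subgroup.subset_closure ⟨11, by decide, rfl⟩⟩ :=
      e2.symm_apply_eq.2 rfl
    show π₁ (e2.symm (U.sys.L 11)) = _
    rw [e]; rfl
  have hψk : ψ (U.sys.L 10) = T.sys.L 10 := by
    have e : e2.symm (U.sys.L 10) = ⟨P.L 10, Subgroup.subset_closure ⟨10, by decide, rfl⟩⟩ :=
      e2.symm_apply_eq.2 rfl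
    show π₁ (e2.symm (U.sys.L 10)) = _
    rw [e]; rfl
  have iψ : Function.Injective ψ := by
    refine (MonoidHom.ker_eq_bot_iff _).1 ?_
    haveI := FiFour.isSimple_even
    have hnc : ∀ (M : Subgroup Spor.Fi24), M ≤ ψ.ker → ¬ commutator Spor.Fi24 ≤ M := fun M hM hc => by
      refine T.k_far ?_
      rw [← T.d_eq, ← hψd, ← hψk]
      refine commutatorElement_eq_one_iff_mul_comm.1 ?_
      rw [← map_commutatorElement]
      exact hM (hc (Subgroup.commutator_mem_commutator (Subgroup.mem_top _) (Subgroup.mem_top _)))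
    rcases ((ψ.normal_ker).subgroupOf FiFour.parity.ker).eq_bot_or_eq_top with hb | ht
    · rw [eq_bot_iff, ← FiTypes.center24]
      intro n hn
      rw [Subgroup.mem_center_iff]
      intro g
      refine (commutatorElement_eq_one_iff_mul_comm.1 ?_).symm
      have h1 : ⁅n, g⁆ ∈ ψ.ker := by
        rw [MonoidHom.mem_ker, map_commutatorElement, MonoidHom.mem_ker.1 hn, commutatorElement_one_left]
      have h2 : ⁅n, g⁆ ∈ FiFour.parity.ker := by
        rw [← FiFour.derived_eq]
        exact Subgroup.commutator_mem_commutator (Subgroup.mem_top _) (Subgroup.mem_top _)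
      have h3 : (⟨⁅n, g⁆, h2⟩ : FiFour.parity.ker) ∈ ψ.ker.subgroupOf FiFour.parity.ker :=
        Subgroup.mem_subgroupOf.2 h1
      rw [hb, Subgroup.mem_bot] at h3
      exact congrArg Subtype.val h3
    · exact absurd (FiFour.derived_eq ▸ Subgroup.subgroupOf_eq_top.1 ht) (hnc _ le_rfl)
  refine ⟨MulEquiv.ofBijective ψ ⟨iψ, sψ⟩, ?_⟩
  have hclsU := U.chart.sec.setting.cls
  ext y
  constructor
  · rintro ⟨z, hz, rfl⟩
    obtain ⟨g, hg⟩ := class_trans hclsU U.d_mem hz
    show ψ z ∈ D
    rw [← hg, map_mul, map_mul, map_inv, hψd]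
    exact hD.2.1 _ _ T.d_mem
  · intro hy
    obtain ⟨g, hg⟩ := class_trans T.chart.sec.setting.cls T.d_mem hy
    obtain ⟨z, rfl⟩ := sψ g
    exact ⟨z * U.sys.L 11 * z⁻¹, U.chart.sec.setting.grp.2.1 _ _ U.d_mem, by
      show ψ _ = y
      rw [map_mul, map_mul, map_inv, hψd, hg]⟩

end CfsgLib.Recog.FiM24
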