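import Cfsg.Agent.Lib.Recog.FiM22Two.SectionPrim
import Cfsg.Agent.Lib.Recog.FiM22.Geometry
import Cfsg.Agent.Lib.Recog.FiM22.Classify

set_option autoImplicit false
set_option maxRecDepth 20000

/-!
Blocks of pairwise non-commuting members pass to the section at a commuting member, and there are none in PSU(6, 2)
(owner: helper13).
-/

namespace CfsgLib.Recog.FiM24

open Cfsg CfsgLib.ThreeTrans CfsgLib.Recog.FiM22.Factor

universe u

variable {G : Type u} [Group G] {D : Set G}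

/-- A block of pairwise non-commuting members. -/
structure FarBlock (D B : Set G) : Prop where
  sub : B ⊆ D
  far : ∀ x ∈ B, ∀ y ∈ B, x ≠ y → ¬ Commute x y
  block : ∀ g : G, ∀ x ∈ B, g * x * g⁻¹ ∈ B → ∀ y ∈ B, g * y * g⁻¹ ∈ B

theorem FarBlock.conj {B : Set G} (h : FarBlock D B) (hconj : ∀ g : G, ∀ d ∈ D, g * d * g⁻¹ ∈ D) (k : G) :
    FarBlock D ((fun x => k * x * k⁻¹) '' B) := by
  refine ⟨?_, ?_, ?_⟩
  · rintro _ ⟨x, hx, rfl⟩; exact hconj k x (h.sub hx)
  · rintro _ ⟨x, hx, rfl⟩ _ ⟨y, hy, rfl⟩ hne hc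
    exact h.far x hx y hy (fun e => hne (by rw [e])) (commute_conj_iff.1 hc)
  · rintro g _ ⟨x, hx, rfl⟩ ⟨z, hz, e⟩ _ ⟨y, hy, rfl⟩
    refine ⟨k⁻¹ * g * k * y * (k⁻¹ * g * k)⁻¹, h.block _ x hx ?_ y hy, by group⟩
    have e' : k⁻¹ * g * k * x * (k⁻¹ * g * k)⁻¹ = z := by
      calc _ = k⁻¹ * (g * (k * x * k⁻¹) * g⁻¹) * k := by group
        _ = k⁻¹ * (k * z * k⁻¹) * k := by rw [← e]
        _ = z := by group
    rwa [e']

/-- Two noncommuting members of a block with a common neighbour give such members in the section there. -/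
theorem FarBlock.down {B : Set G} (h : FarBlock D B) (hD : IsThreeTranspositionGroup D) {z : G}
    (hnon : ∀ e ∈ nb D z, Noncentral D z e) {x y : G} (hx : x ∈ B) (hy : y ∈ B) (hxy : x ≠ y)
    (hxz : x ∈ nb D z) (hyz : y ∈ nb D z) :
    ∃ B' : Set (SecG D z), FarBlock (secSet D z) B' ∧ im hxz ∈ B' ∧ im hyz ∈ B' ∧ im hxz ≠ im hyz := by
  refine ⟨{q | ∃ (e : G) (he : e ∈ nb D z), e ∈ B ∧ im he = q}, ⟨?_, ?_, ?_⟩, ⟨x, hxz, hx, rfl⟩, ⟨y, hyz, hy, rfl⟩,
    fun e => hxy (im_inj hD.1 (hnon x hxz) hyz e)⟩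
  · rintro _ ⟨e, he, -, rfl⟩; exact ⟨⟨e, _⟩, he, rfl⟩
  · rintro _ ⟨e, he, heB, rfl⟩ _ ⟨f, hf, hfB, rfl⟩ hne hc
    exact h.far e heB f hfB (fun eq => hne (by subst eq; rfl)) ((im_commute hD.1 (hnon e he) hf).1 hc)
  · rintro g _ ⟨e, he, heB, rfl⟩ ⟨e', he', he'B, heq⟩ _ ⟨f, hf, hfB, rfl⟩
    obtain ⟨⟨k, hk⟩, rfl⟩ := QuotientGroup.mk_surjective g
    have hkz : k * z * k⁻¹ = z := by
      rw [← (RankThree.commute_closure (fun _ hw => hw.2.2) hk).eq, mul_inv_cancel_right]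
    have hin : ∀ {w : G}, w ∈ nb D z → k * w * k⁻¹ ∈ nb D z := fun {w} hw =>
      ⟨hD.2.1 k w hw.1, fun eq => hw.2.1 (mul_left_cancel (mul_right_cancel (eq.trans hkz.symm))),
        by rw [← hkz]; exact commute_conj_iff.2 hw.2.2⟩
    have e1 : e' = k * e * k⁻¹ := im_inj hD.1 (hnon e' he') (hin he) heq
    exact ⟨k * f * k⁻¹, hin hf, h.block k e heB (e1 ▸ he'B) f hfB, rfl⟩

/-- Members of a class pairwise non-commuting and closed under each other generate a solvable group. -/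
theorem solvable_of_far [Finite G] (hS : IsThreeTranspositionSet D) {T : Set G} (hT : T ⊆ D)
    (hconj : ∀ s ∈ T, ∀ t ∈ T, s * t * s⁻¹ ∈ T) (hfar : ∀ s ∈ T, ∀ t ∈ T, Commute s t → t = s) :
    Group.IsSolvable ↥(Subgroup.closure T) := by
  rcases T.eq_empty_or_nonempty with rfl | ⟨i, hiT⟩
  · rw [Subgroup.closure_empty]
    exact Group.isSolvable_of_comm fun p q => Subsingleton.elim _ _
  set L := Subgroup.closure T
  haveI : Fact (Nat.Prime 3) := ⟨Nat.prime_three⟩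
  let E : Set ↥L := {x | (x : G) ∈ T}
  have hE : IsThreeTranspositionGroup E := by
    refine ⟨⟨fun x hx => ?_, fun x hx z hz => ?_⟩, fun k x hx => ?_, ?_⟩
    · rw [← Subgroup.orderOf_coe]; exact hS.1 _ (hT hx)
    · exact (hS.2 _ (hT hx) _ (hT hz)).imp (fun e => Subtype.ext e) fun e => Subtype.ext e
    · obtain ⟨k, hk⟩ := k
      show k * (x : G) * k⁻¹ ∈ T
      have : ∀ k ∈ Subgroup.closure T, ∀ z ∈ T, k * z * k⁻¹ ∈ T := by
        intro k hk
        induction hk using Subgroup.closure_induction_left with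
        | one => intro z hz; simpa using hz
        | mul_left u hu v hv ih =>
          intro z hz
          rw [show u * v * z * (u * v)⁻¹ = u * (v * z * v⁻¹) * u⁻¹ by group]
          exact hconj u hu _ (ih z hz)
        | inv_mul_cancel u hu v hv ih =>
          intro z hz
          rw [inv_eq hS (hT hu), show u * v * z * (u * v)⁻¹ = u * (v * z * v⁻¹) * u⁻¹ by group]
          exact hconj u hu _ (ih z hz)
      exact this k hk _ hx
    · exact Subgroup.closure_closure_coe_preimage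
  have hprod := widthOne ↥L E hE fun x hx z hz hc =>
    Subtype.ext (hfar _ hx _ hz (congrArg Subtype.val hc.eq)).symm
  let π := QuotientGroup.mk' (Cfsg.pCore 3 ↥L)
  let i' : ↥L := ⟨i, Subgroup.subset_closure hiT⟩
  have hgen : ∀ q : ↥L ⧸ Cfsg.pCore 3 ↥L, q ∈ Subgroup.zpowers (π i') := by
    intro q
    obtain ⟨x, rfl⟩ := QuotientGroup.mk'_surjective (Cfsg.pCore 3 ↥L) q
    have hx : x ∈ Subgroup.closure E := hE.2.2 ▸ Subgroup.mem_top x
    induction hx using Subgroup.closure_induction with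
    | mem z hz =>
      have h1 : π (i' * z) = 1 := (QuotientGroup.eq_one_iff _).2 (hprod i' hiT z hz)
      rw [map_mul] at h1
      show π z ∈ _
      rw [eq_inv_of_mul_eq_one_right h1]
      exact inv_mem (Subgroup.mem_zpowers _)
    | one => exact one_mem _
    | mul u v _ _ hu hv => rw [map_mul]; exact mul_mem hu hv
    | inv u _ hu => rw [map_inv]; exact inv_mem hu
  haveI : Group.IsSolvable (↥L ⧸ Cfsg.pCore 3 ↥L) := Group.isSolvable_of_comm fun p q => by
    obtain ⟨m, rfl⟩ := Subgroup.mem_zpowers_iff.1 (hgen p)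
    obtain ⟨n, rfl⟩ := Subgroup.mem_zpowers_iff.1 (hgen q)
    exact (Commute.refl (π i')).zpow_zpow m n
  haveI := (CfsgLib.Core.isPGroup_pCore 3 ↥L).isNilpotent
  exact Group.isSolvable_of_ker_le_range (Cfsg.pCore 3 ↥L).subtype π (by simp [π])

/-- Two commuting solvable subgroups generate a solvable one. -/
theorem solvable_of_union {S T : Set G} (hc : ∀ s ∈ S, ∀ t ∈ T, Commute s t)
    (hS : Group.IsSolvable ↥(Subgroup.closure S)) (hT : Group.IsSolvable ↥(Subgroup.closure T)) :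
    Group.IsSolvable ↥(Subgroup.closure (S ∪ T)) := by
  have hcomm : ∀ (a : ↥(Subgroup.closure S)) (b : ↥(Subgroup.closure T)),
      Commute ((Subgroup.closure S).subtype a) ((Subgroup.closure T).subtype b) := fun a b =>
    RankThree.commute_closure (fun t ht => (RankThree.commute_closure (fun s hs => (hc s hs t ht).symm) a.2).symm) b.2
  let f := ((Subgroup.closure S).subtype).noncommCoprod (Subgroup.closure T).subtype hcomm
  have hr : f.range = Subgroup.closure (S ∪ T) := by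
    rw [MonoidHom.noncommCoprod_range, Subgroup.range_subtype, Subgroup.range_subtype, Subgroup.closure_union]
  haveI := hS
  haveI := hT
  rw [← hr]
  exact Group.isSolvable_of_surjective (f := f.rangeRestrict) f.rangeRestrict_surjective

/-- Conjugation inside PSU(6, 2) to the first point. -/
theorem exists_conj_zero {r : ℕ} (hr : r < 693) :
    ∃ g : FiM22.Q6, g * FiM22.T r * g⁻¹ = FiM22.T 0 := by
  have happ : ∀ (w : List ℕ), (∀ s ∈ w, s < 693) → ∀ t < 693,
      ∃ g : FiM22.Q6, g * FiM22.T t * g⁻¹ = FiM22.T (FiM22.app w t) := by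
    intro w
    induction w with
    | nil => exact fun _ t _ => ⟨1, by rw [FiM22.app_nil]; group⟩
    | cons s w ih =>
      intro hw t ht
      have hw' : ∀ x ∈ w, x < 693 := fun x hx => hw x (List.mem_cons_of_mem _ hx)
      obtain ⟨g, hg⟩ := ih hw' t ht
      refine ⟨FiM22.T s * g, ?_⟩
      rw [FiM22.app_cons, ← FiM22.T_conj (hw s List.mem_cons_self) ((FiM22.isAut_app hw').lt t ht), ← hg]
      group
  refine FiM22.point_induction (P := fun r => ∃ g : FiM22.Q6, g * FiM22.T r * g⁻¹ = FiM22.T 0) ?_ ?_ hr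
  · intro j hj
    obtain ⟨g, hg⟩ := happ _ (FiM22.zero_spec hj).1 _ (FiM22.gens_lt hj)
    exact ⟨g, by rw [hg, (FiM22.zero_spec hj).2]⟩
  · rintro j hj t ht ⟨g, hg⟩
    refine ⟨g * (FiM22.T (FiM22.gensL.getD j 0))⁻¹, ?_⟩
    rw [← FiM22.T_conj (FiM22.gens_lt hj) ht, ← hg]
    group

/-- A conjugate of a point is a point. -/
theorem conj_T (g : FiM22.Q6) {q : ℕ} (hq : q < 693) : ∃ r < 693, g * FiM22.T q * g⁻¹ = FiM22.T r := by
  have hg : g ∈ Subgroup.closure {x : FiM22.Q6 | ∃ r < 693, x = FiM22.T r} := by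
    rw [FiM22.closure_T]
    exact Subgroup.mem_top g
  induction hg using Subgroup.closure_induction_left generalizing q with
  | one => exact ⟨q, hq, by group⟩
  | mul_left u hu v _ ih =>
    obtain ⟨s, hs, rfl⟩ := hu
    obtain ⟨r, hr, e⟩ := ih hq
    exact ⟨FiM22.mul s r, FiM22.mul_lt hs hr, by rw [← FiM22.T_conj hs hr, ← e]; group⟩
  | inv_mul_cancel u hu v _ ih =>
    obtain ⟨s, hs, rfl⟩ := hu
    obtain ⟨r, hr, e⟩ := ih hq
    exact ⟨FiM22.mul s r, FiM22.mul_lt hs hr, by rw [← FiM22.T_conj hs hr, ← e, FiM22.T_inv hs, mul_inv_rev, FiM22.T_inv hs]; group⟩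

/-- Non-commuting pairs in PSU(6, 2) are conjugate. -/
theorem exists_conj_pair {p q : ℕ} (hp : p < 693) (hq : q < 693) (h : ¬ Commute (FiM22.T p) (FiM22.T q)) :
    ∃ g : FiM22.Q6, g * FiM22.T p * g⁻¹ = FiM22.T 0 ∧ g * FiM22.T q * g⁻¹ = FiM22.T FiM22.second := by
  obtain ⟨g, hg⟩ := exists_conj_zero hp
  have hback : ∀ (w : List ℕ), (∀ s ∈ w, s < 693 ∧ FiM22.com s 0 = true) → ∀ t < 693,
      ∃ k : FiM22.Q6, k * FiM22.T 0 * k⁻¹ = FiM22.T 0 ∧ k * FiM22.T t * k⁻¹ = FiM22.T (FiM22.app w t) := by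
    intro w
    induction w with
    | nil => exact fun _ t _ => ⟨1, by group, by rw [FiM22.app_nil]; group⟩
    | cons s w ih =>
      intro hw t ht
      have hw' : ∀ x ∈ w, x < 693 ∧ FiM22.com x 0 = true := fun x hx => hw x (List.mem_cons_of_mem _ hx)
      obtain ⟨k, h0, hk⟩ := ih hw' t ht
      obtain ⟨hs, hs0⟩ := hw s List.mem_cons_self
      refine ⟨FiM22.T s * k, ?_, ?_⟩
      · rw [show FiM22.T s * k * FiM22.T 0 * (FiM22.T s * k)⁻¹ = FiM22.T s * (k * FiM22.T 0 * k⁻¹) * (FiM22.T s)⁻¹ by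
          group, h0, ((FiM22.com_iff hs (by norm_num)).1 hs0).eq, mul_inv_cancel_right]
      · rw [FiM22.app_cons, ← FiM22.T_conj hs ((FiM22.isAut_app fun x hx => (hw' x hx).1).lt t ht), ← hk]
        group
  -- the image of the second point
  obtain ⟨r, hr, hrT⟩ := conj_T g hq
  have hc0 : FiM22.com 0 r = false := by
    refine Bool.eq_false_iff.2 fun hc => h ?_
    have := (FiM22.com_iff (by norm_num) hr).1 hc
    rw [← hg, ← hrT] at this
    exact commute_conj_iff.1 this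
  have hk := CfsgLib.ThreeTrans.CosetIndex.forallFrom_elim FiM22.pair_cover (Nat.zero_le r) (by omega)
  simp only [Bool.or_eq_true, Nat.beq_eq, List.any_eq_true] at hk
  rcases hk with (hk | hk) | ⟨e, he, heq⟩
  · rw [hk, FiM22.com_self (by norm_num)] at hc0; exact absurd hc0 (by simp)
  · rw [hk] at hc0; exact absurd hc0 (by simp)
  have hw := List.all_eq_true.1 FiM22.pair_ok e he
  simp only [FiM22.pairOK, Bool.and_eq_true, List.all_eq_true, Nat.beq_eq] at hw
  obtain ⟨k, h0, h1⟩ := hback e.2 (fun s hs => ⟨by simpa using (hw.1 s hs).1, (hw.1 s hs).2⟩) e.1 (heq ▸ hr)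
  refine ⟨k * g, ?_, ?_⟩
  · rw [← h0, ← hg]; group
  · rw [show k * g * FiM22.T q * (k * g)⁻¹ = k * (g * FiM22.T q * g⁻¹) * k⁻¹ by group, hrT, ← heq, h1, hw.2]

theorem second_pair : (FiM22.com 0 FiM22.second == false && (List.range 693).any fun t =>
    !(FiM22.com 0 t) && !(Nat.beq t FiM22.second) && FiM22.com FiM22.second t) = true := by decide +kernel

/-- There is no far block in PSU(6, 2). -/
theorem no_block {B : Set FiM22.Q6} (hB : ∀ x ∈ B, ∃ r < 693, x = FiM22.T r) {S : Set FiM22.Q6}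
    (h : FarBlock S B) {x y : FiM22.Q6} (hx : x ∈ B) (hy : y ∈ B) (hxy : x ≠ y) : False := by
  obtain ⟨p, hp, rfl⟩ := hB x hx
  obtain ⟨q, hq, rfl⟩ := hB y hy
  obtain ⟨g, g0, g1⟩ := exists_conj_pair hp hq (h.far _ hx _ hy hxy)
  have hs := second_pair
  simp only [Bool.and_eq_true, beq_iff_eq, List.any_eq_true, Bool.not_eq_true', List.mem_range] at hs
  obtain ⟨-, t, ht, ⟨ht0, hts⟩, htc⟩ := hs
  have hlt : FiM22.second < 693 := by decide +kernel
  obtain ⟨k, k0, k1⟩ := exists_conj_pair (p := 0) (q := t) (by norm_num) ht fun hc => by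
    rw [← FiM22.com_iff (by norm_num) ht, ht0] at hc; exact Bool.false_ne_true hc
  -- the member mapping to `T t`
  have m0 : k⁻¹ * g * FiM22.T p * (k⁻¹ * g)⁻¹ = FiM22.T 0 := by
    rw [show k⁻¹ * g * FiM22.T p * (k⁻¹ * g)⁻¹ = k⁻¹ * (g * FiM22.T p * g⁻¹) * k by group, g0]
    conv_lhs => rw [← k0]
    group
  have mt : k⁻¹ * g * FiM22.T q * (k⁻¹ * g)⁻¹ = FiM22.T t := by
    rw [show k⁻¹ * g * FiM22.T q * (k⁻¹ * g)⁻¹ = k⁻¹ * (g * FiM22.T q * g⁻¹) * k by group, g1, ← k1]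
    group
  -- both pairs lie in one translate
  have hstab : g⁻¹ * (k⁻¹ * g) * FiM22.T p * (g⁻¹ * (k⁻¹ * g))⁻¹ = FiM22.T p := by
    rw [show g⁻¹ * (k⁻¹ * g) * FiM22.T p * (g⁻¹ * (k⁻¹ * g))⁻¹ =
      g⁻¹ * (k⁻¹ * g * FiM22.T p * (k⁻¹ * g)⁻¹) * g by group, m0, ← g0]
    group
  have hz := h.block _ _ hx (hstab.symm ▸ hx) _ hy
  rw [show g⁻¹ * (k⁻¹ * g) * FiM22.T q * (g⁻¹ * (k⁻¹ * g))⁻¹ =
    g⁻¹ * (k⁻¹ * g * FiM22.T q * (k⁻¹ * g)⁻¹) * g by group, mt] at hz
  by_cases e : g⁻¹ * FiM22.T t * g = FiM22.T q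
  · have h' : FiM22.T t = FiM22.T FiM22.second := by rw [← g1, ← e]; group
    exact Bool.false_ne_true (hts ▸ (by rw [FiM22.T_inj ht hlt h']; exact Nat.beq_refl _))
  · refine h.far _ hz _ hy e ?_
    rw [← commute_conj_iff (g := g), g1, show g * (g⁻¹ * FiM22.T t * g) * g⁻¹ = FiM22.T t by group]
    exact ((FiM22.com_iff hlt ht).1 htc).symm

end CfsgLib.Recog.FiM24
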