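import Cfsg.Agent.Lib.ThreeTrans.CosetIndex.Presented

set_option autoImplicit false
set_option maxRecDepth 20000

/-!
The ninth power of the Coxeter element of type E7 is the product of seven orthogonal reflections: a rewriting by
cancellations, commutations and braid moves, checked by the kernel (owner: helper13).
-/

namespace CfsgLib.Recog.FiM24.ESeven

/-- The letters of the diagram. -/
def sevenLetters : List ℕ := [0, 1, 2, 3, 4, 5, 7]

/-- The joined letters. -/
def joined (x y : ℕ) : Bool :=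
  [(0, 1), (1, 2), (2, 3), (3, 4), (4, 5), (3, 7)].any fun e => (e.1 == x && e.2 == y) || (e.1 == y && e.2 == x)

/-- The seven reflections. -/
def refls : List (List ℕ) := [[0],
  [2],
  [4],
  [7],
  [3, 7, 4, 3, 2, 3, 4, 7, 3],
  [1, 2, 3, 7, 4, 3, 2, 1, 0, 1, 2, 3, 4, 7, 3, 2, 1],
  [5, 4, 3, 7, 2, 3, 4, 1, 2, 3, 7, 5, 4, 3, 2, 1, 0, 1, 2, 3, 4, 5, 7, 3, 2, 1, 4, 3, 2, 7, 3, 4, 5]]

/-- The ninth power of the Coxeter element. -/
def ninth : List ℕ := (List.replicate 9 sevenLetters).flatten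

/-- The moves: the kind times 64 plus the place; 0 cancels, 1 commutes, 2 braids. -/
def moves : List ℕ := [
  76, 75, 74, 73, 141, 76, 75, 79, 141, 80, 145, 143, 78, 140, 138, 136, 71, 70, 69, 68,
  67, 66, 74, 136, 71, 70, 76, 75, 74, 136, 142, 77, 76, 75, 81, 80, 142, 77, 83, 82,
  81, 80, 142, 140, 138, 73, 135, 133, 68, 67, 129, 71, 133, 137, 72, 76, 75, 137, 135, 70,
  132, 67, 68, 93, 92, 91, 90, 94, 93, 95, 97, 100, 99, 98, 160, 158, 156, 91, 153, 88,
  87, 86, 85, 84, 98, 97, 101, 163, 98, 160, 95, 94, 156, 91, 153, 88, 87, 86, 95, 165,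
  100, 99, 98, 160, 158, 93, 92, 91, 153, 88, 87, 149, 147, 82, 81, 80, 79, 78, 77, 83,
  85, 93, 92, 94, 96, 104, 105, 167, 102, 101, 100, 99, 98, 97, 159, 157, 155, 90, 89, 88,
  87, 86, 148, 146, 81, 80, 100, 99, 101, 105, 104, 166, 164, 162, 97, 96, 95, 94, 93, 92,
  154, 89, 88, 87, 98, 97, 100, 106, 168, 103, 102, 101, 163, 98, 160, 95, 94, 156, 91, 90,
  95, 103, 102, 107, 106, 168, 103, 165, 100, 99, 98, 160, 158, 93, 92, 91, 153, 88, 150, 85,
  84, 146, 81, 143, 78, 140, 75, 74, 85, 99, 98, 97, 100, 108, 107, 106, 168, 103, 165, 163,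
  98, 160, 95, 94, 93, 92, 91, 153, 88, 150, 148, 83, 82, 81, 143, 78, 140, 75, 137, 72,
  71, 70, 69, 135, 70, 92, 91, 90, 89, 88, 87, 86, 85, 84, 93, 92, 91, 158, 93, 92,
  154, 89, 88, 87, 86, 96, 158, 93, 92, 154, 89, 88, 97, 96, 158, 93, 92, 154, 98, 101,
  163, 161, 96, 95, 94, 93, 165, 100, 99, 161, 96, 95, 100, 103, 165, 163, 98, 97, 104, 103,
  102, 105, 170, 168, 103, 165, 100, 99, 98, 160, 158, 156, 91, 153, 151, 149, 147, 82, 81, 80,
  79, 78, 77, 76, 75, 74, 73, 72, 83, 82, 81, 80, 79, 78, 85, 84, 87, 86, 155, 90,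
  89, 88, 87, 149, 147, 82, 81, 80, 90, 89, 88, 94, 93, 155, 90, 89, 151, 86, 85, 147,
  82, 86, 96, 95, 94, 93, 155, 90, 89, 151, 149, 84, 98, 97, 96, 99, 164, 162, 97, 159,
  94, 93, 92, 91, 90, 89, 88, 103, 104, 166, 101, 100, 162, 97, 159, 94, 93, 92, 91, 101,
  106, 105, 104, 166, 164, 99, 98, 97, 159, 94, 93, 99, 98, 100, 102, 108, 107, 106, 105, 104,
  103, 165, 163, 161, 96, 95, 94, 156, 154, 89, 151, 86, 85, 147, 145, 143, 141, 76, 75, 74,
  73, 135, 77, 76, 75, 79, 78, 81, 80, 83, 82, 81, 143, 141, 85, 150, 148, 83, 82, 81,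
  80, 89, 90, 152, 87, 86, 148, 83, 87, 92, 91, 90, 152, 150, 85, 84, 146, 81, 143, 78,
  140, 138, 73, 74, 142, 77, 76, 75, 81, 82, 144, 79, 78, 77, 76, 78, 77, 84, 83, 82,
  81, 80, 149, 84, 83, 82, 88, 87, 149, 84, 88, 153, 151, 86, 91, 90, 156, 91, 153, 88,
  87, 149, 147, 145, 143, 81, 83, 82, 85, 84, 83, 87, 152, 150, 85, 84, 94, 93, 92, 91,
  90, 89, 88, 87, 86, 95, 94, 96, 99, 161, 159, 157, 92, 91, 90, 89, 88, 93, 95, 94,
  156, 91, 90, 97, 96, 101, 100, 99, 98, 97, 159, 94, 156, 164, 99, 98, 97, 96, 95, 103,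
  102, 164, 99, 103, 168, 166, 101, 100, 162, 97, 106, 105, 104, 103, 165, 171, 106, 105, 167, 102,
  164, 99, 98, 160, 158, 93, 155, 153, 151, 149, 87, 89, 88, 157, 92, 91, 90, 89, 98, 97,
  96, 163, 98, 97, 159, 94, 93, 92, 91, 90, 93, 92, 91, 109, 108, 107, 106, 105, 104, 174,
  109, 108, 107, 106, 112, 174, 109, 108, 115, 114, 113, 112, 174, 114, 113, 116, 115, 117, 118, 180,
  178, 176, 111, 173, 171, 169, 167, 102, 101, 100, 99, 105, 167, 102, 101, 103, 107, 106, 105, 109,
  108, 107, 106, 168, 166, 164, 102, 104, 103, 118, 117, 116, 115, 119, 118, 184, 119, 181, 116, 178,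
  113, 112, 111, 110, 109, 108, 107, 106, 105, 104, 176, 111, 110, 109, 108, 116, 115, 114, 176, 111,
  110, 109, 171, 106, 105, 174, 109, 108, 107, 110, 109, 112, 111, 113, 114, 176, 174, 172, 170, 108,
  110, 109, 115, 117, 116, 178, 113, 112, 111, 110, 117, 118, 180, 115, 114, 113, 112, 111, 114, 113,
  112, 186, 121, 120, 119, 124, 125]

/-- A move at the head of a list. -/
def headMove (k : ℕ) : List ℕ → List ℕ
  | x :: y :: w =>
    if k = 0 then if x = y then w else x :: y :: w
    else if k = 1 then if x ∈ sevenLetters ∧ y ∈ sevenLetters ∧ x ≠ y ∧ joined x y = false then y :: x :: w else x :: y :: w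
    else match w with
      | z :: w' => if x = z ∧ x ∈ sevenLetters ∧ y ∈ sevenLetters ∧ joined x y = true then y :: x :: y :: w'
          else x :: y :: z :: w'
      | [] => [x, y]
  | w => w

/-- A move. -/
def applyMove (w : List ℕ) (m : ℕ) : List ℕ := w.take (m % 64) ++ headMove (m / 64) (w.drop (m % 64))

theorem rewrite_ok : (refls.flatten.length == 63 && moves.foldl applyMove refls.flatten == ninth) = true := by
  decide +kernel

section Sound

variable {M : Type*} [Monoid M] {L : ℕ → M} (hsq : ∀ x, L x * L x = 1)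
  (hcomm : ∀ x ∈ sevenLetters, ∀ y ∈ sevenLetters, x ≠ y → joined x y = false → L x * L y = L y * L x)
  (hbraid : ∀ x ∈ sevenLetters, ∀ y ∈ sevenLetters, joined x y = true → L x * L y * L x = L y * L x * L y)
include hsq hcomm hbraid

theorem headMove_sound (k : ℕ) : ∀ w : List ℕ, ((headMove k w).map L).prod = (w.map L).prod
  | [] => rfl
  | [_] => rfl
  | x :: y :: w => by
    by_cases h0 : k = 0
    · by_cases hxy : x = y
      · subst hxy
        simp only [headMove, if_pos h0, if_true, List.map_cons, List.prod_cons, ← mul_assoc, hsq, one_mul]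
      · simp only [headMove, if_pos h0, if_neg hxy]
    by_cases h1 : k = 1
    · by_cases hc : x ∈ sevenLetters ∧ y ∈ sevenLetters ∧ x ≠ y ∧ joined x y = false
      · simp only [headMove, if_neg h0, if_pos h1, if_pos hc, List.map_cons, List.prod_cons, ← mul_assoc,
          hcomm x hc.1 y hc.2.1 hc.2.2.1 hc.2.2.2]
      · simp only [headMove, if_neg h0, if_pos h1, if_neg hc]
    cases w with
    | nil => simp only [headMove, if_neg h0, if_neg h1]
    | cons z w =>
      by_cases h4 : x = z ∧ x ∈ sevenLetters ∧ y ∈ sevenLetters ∧ joined x y = true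
      · obtain ⟨rfl, hx, hy, hj⟩ := h4
        simp only [headMove, if_neg h0, if_neg h1, if_pos (show True ∧ x ∈ sevenLetters ∧ y ∈ sevenLetters ∧
          joined x y = true from ⟨trivial, hx, hy, hj⟩), List.map_cons, List.prod_cons, ← mul_assoc, hbraid x hx y hy hj]
      · simp only [headMove, if_neg h0, if_neg h1, if_neg h4]

theorem applyMove_sound (w : List ℕ) (m : ℕ) : ((applyMove w m).map L).prod = (w.map L).prod := by
  rw [applyMove, List.map_append, List.prod_append, headMove_sound hsq hcomm hbraid, ← List.prod_append,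
    ← List.map_append, List.take_append_drop]

theorem foldl_sound : ∀ (ms : List ℕ) (w : List ℕ), ((ms.foldl applyMove w).map L).prod = (w.map L).prod
  | [], _ => rfl
  | m :: ms, w => by rw [List.foldl_cons, foldl_sound ms, applyMove_sound hsq hcomm hbraid]

/-- The product of the seven reflections is the ninth power. -/
theorem ninth_eq : (ninth.map L).prod = (refls.map fun r => (r.map L).prod).prod := by
  have h := rewrite_ok
  simp only [Bool.and_eq_true, beq_iff_eq] at h
  rw [← h.2, foldl_sound hsq hcomm hbraid, List.map_flatten, List.prod_flatten, List.map_map]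
  rfl

end Sound

end CfsgLib.Recog.FiM24.ESeven
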