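import Cfsg.Agent.Lib.Recog.FiM24.Model
import Cfsg.Agent.Lib.Recog.FiM24.ESeven

set_option autoImplicit false
set_option maxRecDepth 20000
set_option Elab.async false

/-!
The letters of Fi23 and the seven reflections as elements: distinctness and commuting (owner: helper13).
-/

namespace CfsgLib.Recog.FiM24.Model

open Cfsg CfsgLib.Recog.BitPerm CfsgLib.Recog.FiThree CfsgLib.Recog.SporBound CfsgLib.ThreeTrans.CosetIndex

/-- The edges of the diagram. -/
def edge (x y : ℕ) : Bool :=
  [(0, 1), (1, 2), (2, 3), (3, 4), (3, 7), (4, 5), (5, 6), (6, 9), (7, 8)].any fun e =>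
    (e.1 == x && e.2 == y) || (e.1 == y && e.2 == x)

/-- Moved points for pairs of letters. -/
def pairMoves : List (ℕ × ℕ × ℕ × ℕ) := [(0, 1, 6, 11), (0, 2, 5, 6), (0, 3, 4, 5), (0, 4, 3, 4), (0, 5, 2, 3), (0, 6, 1, 2), (0, 7, 5, 7), (0, 8, 7, 10),
  (0, 9, 0, 1), (1, 2, 5, 8), (1, 3, 4, 5), (1, 4, 3, 4), (1, 5, 2, 3), (1, 6, 1, 2), (1, 7, 5, 7), (1, 8, 6, 8),
  (1, 9, 0, 1), (2, 3, 4, 6), (2, 4, 3, 4), (2, 5, 2, 3), (2, 6, 1, 2), (2, 7, 5, 9), (2, 8, 5, 6), (2, 9, 0, 1),
  (3, 4, 3, 5), (3, 5, 2, 3), (3, 6, 1, 2), (3, 7, 4, 5), (3, 8, 4, 5), (3, 9, 0, 1), (4, 5, 2, 4), (4, 6, 1, 2),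
  (4, 7, 3, 4), (4, 8, 3, 4), (4, 9, 0, 1), (5, 6, 1, 3), (5, 7, 2, 3), (5, 8, 2, 3), (5, 9, 0, 1), (6, 7, 1, 2),
  (6, 8, 1, 2), (6, 9, 0, 2), (7, 8, 5, 7), (7, 9, 0, 1), (8, 9, 0, 1)]

/-- Moved points for pairs of reflections. -/
def reflMoves : List (ℕ × ℕ × ℕ × ℕ) := [(0, 1, 5, 6), (0, 2, 3, 4), (0, 3, 5, 7), (0, 4, 3, 13), (0, 5, 3, 39), (0, 6, 3, 356), (1, 2, 3, 4), (1, 3, 5, 9),
  (1, 4, 3, 13), (1, 5, 3, 39), (1, 6, 3, 356), (2, 3, 3, 4), (2, 4, 3, 18), (2, 5, 3, 56), (2, 6, 3, 243), (3, 4, 3, 13),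
  (3, 5, 3, 39), (3, 6, 3, 356), (4, 5, 3, 243), (4, 6, 3, 56), (5, 6, 3, 18)]

/-- Moved points for the central member with a letter. -/
def zzMoves : List (ℕ × ℕ × ℕ) := [(0, 1, 7999), (1, 1, 7999), (2, 1, 7999), (3, 1, 7999), (4, 1, 7999), (5, 1, 7999), (6, 1, 6522), (7, 1, 7999),
  (8, 1, 7999), (9, 0, 7999)]

theorem pair_rels : ((List.range 10).all fun x => (List.range 10).all fun y => Nat.beq x y ||
    (relWords Spor.Fi23.edges Spor.Fi23.extra gens).contains
      (if edge x y then [x, y, x, y, x, y] else [x, y, x, y])) = true := by decide +kernel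

theorem pair_moves : ((List.range 10).all fun x => (List.range 10).all fun y => Nat.ble y x ||
    pairMoves.any fun m => Nat.beq m.1 x && Nat.beq m.2.1 y && !(Nat.beq m.2.2.1 m.2.2.2) &&
      mapsOK net [x, y] m.2.2.1 m.2.2.2) = true := by decide +kernel

theorem zz_moves : ((List.range 10).all fun x => zzMoves.any fun m => Nat.beq m.1 x && !(Nat.beq m.2.1 m.2.2) &&
      mapsOK net (zW ++ [x]) m.2.1 m.2.2) = true := by decide +kernel

theorem refl_moves : ((List.range 7).all fun i => (List.range 7).all fun j => Nat.ble j i ||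
    reflMoves.any fun m => Nat.beq m.1 i && Nat.beq m.2.1 j && !(Nat.beq m.2.2.1 m.2.2.2) &&
      mapsOK net (ESeven.refls.getD i [] ++ ESeven.refls.getD j []) m.2.2.1 m.2.2.2) = true := by decide +kernel

/-- The commutators of one reflection with the later ones. -/
noncomputable def reflRow (i : ℕ) : Bool :=
  (List.range 7).all fun j => Nat.ble j i ||
    idOK 15 net (ESeven.refls.getD i [] ++ ESeven.refls.getD j [] ++ ESeven.refls.getD i [] ++
      ESeven.refls.getD j [])

theorem refl_row0 : reflRow 0 = true := by decide +kernel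

theorem refl_row1 : reflRow 1 = true := by decide +kernel

theorem refl_row2 : reflRow 2 = true := by decide +kernel

theorem refl_row3 : reflRow 3 = true := by decide +kernel

theorem refl_row4 : reflRow 4 = true := by decide +kernel

theorem refl_row5 : reflRow 5 = true := by decide +kernel

theorem refl_row6 : reflRow 6 = true := by decide +kernel

theorem refl_comm : ((List.range 7).all fun i => (List.range 7).all fun j => Nat.ble j i ||
    idOK 15 net (ESeven.refls.getD i [] ++ ESeven.refls.getD j [] ++ ESeven.refls.getD i [] ++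
      ESeven.refls.getD j [])) = true :=
  List.all_eq_true.2 fun i hi =>
    match i, List.mem_range.1 hi with
    | 0, _ => refl_row0
    | 1, _ => refl_row1
    | 2, _ => refl_row2
    | 3, _ => refl_row3
    | 4, _ => refl_row4
    | 5, _ => refl_row5
    | 6, _ => refl_row6
    | n + 7, h => absurd h (by omega)

theorem refl_shape : (ESeven.refls.all fun r => (r.all fun x => ESeven.sevenLetters.contains x) &&
    r.reverse == r && r.length % 2 == 1) = true := by decide +kernel

attribute [local instance] finite_fi23'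

theorem word_ne_one {w : List ℕ} {q p : ℕ} (h : mapsOK net w q p = true) (hne : q ≠ p) : word w ≠ 1 := by
  intro e
  have := act_maps h
  rw [e, map_one] at this
  exact hne this

theorem gg_inj {x y : ℕ} (hx : x < 10) (hy : y < 10) (h : gg x = gg y) : x = y := by
  wlog hxy : x ≤ y generalizing x y
  · exact (this hy hx h.symm (by omega)).symm
  by_contra hne
  have hk := List.all_eq_true.1 (List.all_eq_true.1 pair_moves x (List.mem_range.2 hx)) y (List.mem_range.2 hy)
  simp only [Bool.or_eq_true, Nat.ble_eq, List.any_eq_true, Bool.and_eq_true, Bool.not_eq_true', Nat.beq_eq] at hk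
  obtain ⟨m, -, ⟨-, hm⟩, hmaps⟩ := hk.resolve_left (by omega)
  refine word_ne_one hmaps (fun e => ?_) (by simp [FiThree.word, h, gg_sq])
  rw [e, Nat.beq_refl] at hm; exact Bool.noConfusion hm

theorem zz_ne_gg {x : ℕ} (hx : x < 10) : zz ≠ gg x := by
  intro h
  have hk := List.all_eq_true.1 zz_moves x (List.mem_range.2 hx)
  simp only [List.any_eq_true, Bool.and_eq_true, Bool.not_eq_true', Nat.beq_eq] at hk
  obtain ⟨m, -, ⟨-, hm⟩, hmaps⟩ := hk
  refine word_ne_one hmaps (fun e => ?_) ?_
  · rw [e, Nat.beq_refl] at hm; exact Bool.noConfusion hm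
  · rw [word_append, word_singleton, show word zW = zz from rfl, h, gg_sq]

theorem gg_comm_iff {x y : ℕ} (hx : x < 10) (hy : y < 10) : Commute (gg x) (gg y) ↔ edge x y = false := by
  by_cases hxy : x = y
  · subst hxy
    exact iff_of_true (Commute.refl _) ((show ∀ z < 10, edge z z = false by decide) x hx)
  have hk := List.all_eq_true.1 (List.all_eq_true.1 pair_rels x (List.mem_range.2 hx)) y (List.mem_range.2 hy)
  simp only [Bool.or_eq_true, Nat.beq_eq, List.contains_iff_mem] at hk
  have e := relWord_one nodes (hk.resolve_left hxy)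
  cases hb : edge x y with
  | false =>
    rw [hb] at e
    simp only [Bool.false_eq_true, if_false, List.map_cons, List.map_nil, List.prod_cons, List.prod_nil, mul_one] at e
    refine iff_of_true ?_ rfl
    show gg x * gg y = gg y * gg x
    calc gg x * gg y = (gg x * (gg y * (gg x * gg y))) * ((gg y)⁻¹ * (gg x)⁻¹) := by group
      _ = _ := by rw [e, one_mul, inv_eq_of_mul_eq_one_right (gg_sq x), inv_eq_of_mul_eq_one_right (gg_sq y)]
  | true =>
    rw [hb] at e
    simp only [if_true, List.map_cons, List.map_nil, List.prod_cons, List.prod_nil, mul_one] at e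
    refine iff_of_false (fun hc => hxy (gg_inj hx hy ?_)) Bool.noConfusion
    have h2 : gg x * gg y * (gg x * gg y) = 1 := by
      calc gg x * gg y * (gg x * gg y) = gg x * (gg y * gg x) * gg y := by group
        _ = gg x * gg x * (gg y * gg y) := by rw [← hc.eq]; group
        _ = 1 := by rw [gg_sq, gg_sq, one_mul]
    have h3 : gg x * gg y = 1 := by
      calc gg x * gg y = (gg x * gg y * (gg x * gg y)) * (gg x * gg y) := by rw [h2, one_mul]
        _ = gg x * (gg y * (gg x * (gg y * (gg x * gg y)))) := by group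
        _ = 1 := e
    rw [eq_inv_of_mul_eq_one_left h3, inv_eq_of_mul_eq_one_right (gg_sq y)]

theorem gg_comm_zz {x : ℕ} (hx : x < 9) : Commute (gg x) zz :=
  zz_comm (gg_mem_h ((show ∀ z < 9, z ∈ hLetters by decide) x hx))

theorem refl_ne {i j : ℕ} (hi : i < 7) (hj : j < 7) (h : i ≠ j) :
    word (ESeven.refls.getD i []) ≠ word (ESeven.refls.getD j []) := by
  wlog hij : i < j generalizing i j
  · exact fun e => this hj hi h.symm (by omega) e.symm
  intro e
  have hk := List.all_eq_true.1 (List.all_eq_true.1 refl_moves i (List.mem_range.2 hi)) j (List.mem_range.2 hj)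
  simp only [Bool.or_eq_true, Nat.ble_eq, List.any_eq_true, Bool.and_eq_true, Bool.not_eq_true', Nat.beq_eq] at hk
  obtain ⟨m, -, ⟨-, hm⟩, hmaps⟩ := hk.resolve_left (by omega)
  refine word_ne_one hmaps (fun e' => ?_) ?_
  · rw [e', Nat.beq_refl] at hm; exact Bool.noConfusion hm
  · have hr := List.all_eq_true.1 refl_shape (ESeven.refls.getD j []) (by
      rw [List.getD_eq_getElem _ _ (show j < ESeven.refls.length from hj)]; exact List.getElem_mem _)
    simp only [Bool.and_eq_true, beq_iff_eq] at hr
    rw [word_append, e]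
    nth_rw 1 [← hr.1.2]
    rw [word_reverse, inv_mul_cancel]

theorem refl_commute {i j : ℕ} (hi : i < 7) (hj : j < 7) :
    Commute (word (ESeven.refls.getD i [])) (word (ESeven.refls.getD j [])) := by
  by_cases h : i = j
  · subst h; exact Commute.refl _
  wlog hij : i < j generalizing i j
  · exact (this hj hi (Ne.symm h) (by omega)).symm
  have hk := List.all_eq_true.1 (List.all_eq_true.1 refl_comm i (List.mem_range.2 hi)) j (List.mem_range.2 hj)
  simp only [Bool.or_eq_true, Nat.ble_eq] at hk
  have e := word_eq_one (hk.resolve_left (by omega))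
  rw [word_append, word_append, word_append] at e
  have inv : ∀ k < 7, (word (ESeven.refls.getD k []))⁻¹ = word (ESeven.refls.getD k []) := fun k hk => by
    have hr := List.all_eq_true.1 refl_shape (ESeven.refls.getD k []) (by
      rw [List.getD_eq_getElem _ _ (show k < ESeven.refls.length from hk)]; exact List.getElem_mem _)
    simp only [Bool.and_eq_true, beq_iff_eq] at hr
    rw [← word_reverse, hr.1.2]
  show _ * _ = _ * _
  generalize hA : word (ESeven.refls.getD i []) = A at *
  generalize hB : word (ESeven.refls.getD j []) = B at *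
  have iA : A⁻¹ = A := hA ▸ inv i hi
  have iB : B⁻¹ = B := hB ▸ inv j hj
  calc A * B = (A * B * A * B) * (B⁻¹ * A⁻¹) := by group
    _ = B * A := by rw [e, one_mul, iA, iB]

end CfsgLib.Recog.FiM24.Model
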