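import Cfsg.Agent.Lib.Recog.FiM24.Sec23
import Cfsg.Agent.Lib.Recog.FiM24.Letters
import Cfsg.Agent.Lib.Recog.FiM23.Identify
import Cfsg.Agent.Lib.Recog.FiM22.Factor.Top

set_option autoImplicit false
set_option maxRecDepth 20000

/-!
A group of type M(24) around one member: the neighbours are the lifts of the transpositions of Fi23, and the member
is the ninth power of the Coxeter element of type E7 on seven lifted letters (owner: helper13).
-/

namespace CfsgLib.Recog.FiM24

open Cfsg CfsgLib.ThreeTrans CfsgLib.Recog.FiM22.Factor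
open CfsgLib.Recog.FiM22Two (im_mem_set exists_common_nb)
open CfsgLib.Recog.FiThree (gg zz word)

universe u

variable {G : Type u} [Group G] [Finite G] {D : Set G}

/-- A member with its section named by Fi23. -/
structure Chart (D : Set G) (d : G) where
  sec : Sec23 D d
  iso : Spor.Fi23 ≃* SecG D d
  image : iso '' FiThree.trans = secSet D d
  centre : Subgroup.center G = ⊥
  rel7 : NoRel D 7

theorem exists_chart (hD : IsThreeTranspositionGroup D) (hprim : IsPrimitiveUnderConj D) (h : IsOfTypeM24 G D) :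
    ∃ d, Nonempty (Chart D d) := by
  obtain ⟨d, S⟩ := exists_sec23 hD hprim h
  obtain ⟨e, he⟩ := FiM23.identify_of_type S.grp S.prim S.type
  exact ⟨d, ⟨⟨S, e, he, h.1, m24_noRel hD hprim h (by norm_num) le_rfl⟩⟩⟩

/-- An odd palindrome in the letters is a transposition. -/
theorem pal_trans : ∀ {w : List ℕ}, (∀ x ∈ w, x < 10) → w.reverse = w → w.length % 2 = 1 → word w ∈ FiThree.trans := by
  intro w
  induction hn : w.length using Nat.strong_induction_on generalizing w with
  | _ n ih =>
    intro hlt hrev hodd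
    subst hn
    match w, hlt, hrev, hodd with
    | [x], hlt, _, _ => simpa [FiThree.word] using Model.gg_mem_trans (hlt x (by simp))
    | x :: y :: w', hlt, hrev, hodd =>
      obtain ⟨m, z, hm⟩ : ∃ m z, y :: w' = m ++ [z] :=
        ⟨(y :: w').dropLast, (y :: w').getLast (by simp), (List.dropLast_append_getLast _).symm⟩
      rw [hm] at hlt hrev hodd ⊢
      rw [List.reverse_cons, List.reverse_append, List.reverse_singleton, List.singleton_append,
        List.cons_append, List.cons.injEq] at hrev
      obtain ⟨rfl, hrev⟩ := hrev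
      have hrev' : m.reverse = m := (List.append_left_inj _).1 hrev
      simp only [List.length_cons, List.length_append, List.length_nil] at hodd
      have hlen : m.length < (z :: y :: w').length := by
        have := congrArg List.length hm
        simp only [List.length_cons, List.length_append, List.length_nil] at this ⊢
        omega
      have hmem := ih m.length hlen rfl (fun u hu => hlt u (by simp [hu])) hrev' (by omega)
      rw [show z :: (m ++ [z]) = [z] ++ m ++ [z] by simp, FiThree.word_append, FiThree.word_append,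
        FiThree.word_singleton]
      have := Model.conj_mem_trans hmem (gg z)
      rwa [inv_eq_of_mul_eq_one_right (FiThree.gg_sq z)] at this

namespace Chart

variable {d : G} (C : Chart D d)
include C

theorem set3 : IsThreeTranspositionSet D := C.sec.setting.grp.1

theorem mem : d ∈ D := C.sec.mem

theorem inj {e f : G} (he : e ∈ nb D d) (hf : f ∈ nb D d) (h : im he = im hf) : e = f :=
  im_inj C.set3 (C.sec.non e he) hf h

theorem comm_iff {e f : G} (he : e ∈ nb D d) (hf : f ∈ nb D d) : Commute (im he) (im hf) ↔ Commute e f :=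
  im_commute C.set3 (C.sec.non e he) hf

theorem closure_comm {h : G} (hh : h ∈ Subgroup.closure (nb D d)) : Commute d h :=
  RankThree.commute_closure (fun _ hz => hz.2.2) hh

theorem conj_nb {k : G} (hk : Commute k d) {e : G} (he : e ∈ nb D d) : k * e * k⁻¹ ∈ nb D d := by
  have hkd : k * d * k⁻¹ = d := by rw [hk.eq, mul_inv_cancel_right]
  exact ⟨C.sec.setting.grp.2.1 k e he.1, fun h => he.2.1 (mul_left_cancel (mul_right_cancel (h.trans hkd.symm))),
    by rw [← hkd]; exact commute_conj_iff.2 he.2.2⟩

theorem center_G {x : G} (h : ∀ y ∈ D, Commute x y) : x = 1 := by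
  have := central_of_commute_class C.sec.setting.cls (x := x) fun y hy => (h y hy).symm
  rwa [C.centre, Subgroup.mem_bot] at this

theorem exists_lift {t : Spor.Fi23} (ht : t ∈ FiThree.trans) : ∃ f, ∃ hf : f ∈ nb D d, im hf = C.iso t := by
  have h : C.iso t ∈ secSet D d := C.image ▸ ⟨t, ht, rfl⟩
  obtain ⟨⟨f, hf⟩, hm, e⟩ := h
  exact ⟨f, hm, e⟩

/-- The neighbour over a transposition. -/
noncomputable def up (t : Spor.Fi23) : G :=
  Classical.epsilon fun f => ∃ hf : f ∈ nb D d, im hf = C.iso t

theorem up_spec {t : Spor.Fi23} (ht : t ∈ FiThree.trans) : ∃ hf : C.up t ∈ nb D d, im hf = C.iso t :=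
  Classical.epsilon_spec (C.exists_lift ht)

theorem up_nb {t : Spor.Fi23} (ht : t ∈ FiThree.trans) : C.up t ∈ nb D d := (C.up_spec ht).1

theorem up_mem {t : Spor.Fi23} (ht : t ∈ FiThree.trans) : C.up t ∈ D := (C.up_nb ht).1

theorem im_up {t : Spor.Fi23} (ht : t ∈ FiThree.trans) : im (C.up_nb ht) = C.iso t := (C.up_spec ht).2

theorem up_eq {t : Spor.Fi23} (ht : t ∈ FiThree.trans) {f : G} (hf : f ∈ nb D d) (h : im hf = C.iso t) :
    C.up t = f := C.inj (C.up_nb ht) hf ((C.im_up ht).trans h.symm)

theorem exists_up {f : G} (hf : f ∈ nb D d) : ∃ t ∈ FiThree.trans, C.up t = f := by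
  have h : im hf ∈ secSet D d := im_mem_set hf
  rw [← C.image] at h
  obtain ⟨t, ht, e⟩ := h
  exact ⟨t, ht, C.up_eq ht hf e.symm⟩

theorem up_inj {s t : Spor.Fi23} (hs : s ∈ FiThree.trans) (ht : t ∈ FiThree.trans) (h : C.up s = C.up t) : s = t := by
  have e1 := C.im_up hs
  have e2 := C.im_up ht
  simp only [h] at e1
  exact C.iso.injective (e1.symm.trans e2)

theorem up_comm {s t : Spor.Fi23} (hs : s ∈ FiThree.trans) (ht : t ∈ FiThree.trans) :
    Commute (C.up s) (C.up t) ↔ Commute s t := by
  rw [← C.comm_iff (C.up_nb hs) (C.up_nb ht), C.im_up hs, C.im_up ht]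
  refine ⟨fun h => ?_, fun h => h.map C.iso.toMonoidHom⟩
  simpa using h.map C.iso.symm.toMonoidHom

theorem exists_rep (u : Spor.Fi23) : ∃ k : ↥(Subgroup.closure (nb D d)),
    (QuotientGroup.mk k : SecG D d) = C.iso u ∧
      ∀ t ∈ FiThree.trans, (k : G) * C.up t * (k : G)⁻¹ = C.up (u * t * u⁻¹) := by
  obtain ⟨k, hk⟩ := QuotientGroup.mk_surjective (C.iso u)
  refine ⟨k, hk, fun t ht => ?_⟩
  have hkd := (C.closure_comm k.2).symm
  refine (C.up_eq (Model.conj_mem_trans ht u) (C.conj_nb hkd (C.up_nb ht)) ?_).symm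
  rw [map_mul, map_mul, map_inv, ← hk, ← C.im_up ht]
  rfl

theorem fibre23 {p b b' : SecG D d} (hp : p ∈ secSet D d) (hb : b ∈ secSet D d) (hpb : ¬ Commute p b)
    (hb' : b' ∈ secSet D d) (hpb' : ¬ Commute p b')
    (h : ∀ w ∈ secSet D d, w ≠ p → Commute p w → Commute b w → Commute b' w) : b' = b ∨ b' = p * b * p⁻¹ := by
  rw [← C.image] at hp hb hb'
  obtain ⟨s, hs, rfl⟩ := hp
  obtain ⟨t, ht, rfl⟩ := hb
  obtain ⟨t', ht', rfl⟩ := hb'
  have hc : ∀ {x y : Spor.Fi23}, Commute (C.iso x) (C.iso y) ↔ Commute x y :=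
    ⟨fun h => by simpa using h.map C.iso.symm.toMonoidHom, fun h => h.map C.iso.toMonoidHom⟩
  rw [hc] at hpb hpb'
  obtain ⟨k, hks, hkt⟩ := Model.far_pair hs ht hpb
  set r := k⁻¹ * t' * k with hr
  have hrk : k * r * k⁻¹ = t' := by rw [hr]; group
  have hfar : ¬ Commute zz r := fun hcc => hpb' (by rw [← hks, ← hrk]; exact commute_conj_iff.2 hcc)
  have hcom : ∀ x ∈ [0, 1, 2, 3, 4, 5, 7, 8], Commute (gg x) r := by
    intro x hx
    have hx10 : x < 10 := (show ∀ y ∈ [0, 1, 2, 3, 4, 5, 7, 8], y < 10 by decide) x hx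
    have hx9 : x < 9 := (show ∀ y ∈ [0, 1, 2, 3, 4, 5, 7, 8], y < 9 by decide) x hx
    have he : Model.edge 9 x = false := (show ∀ y ∈ [0, 1, 2, 3, 4, 5, 7, 8], Model.edge 9 y = false by decide) x hx
    have hw := Model.conj_mem_trans (Model.gg_mem_trans hx10) k
    have h1 := h (C.iso (k * gg x * k⁻¹)) (C.image ▸ ⟨_, hw, rfl⟩)
      (fun e => Model.zz_ne_gg hx10 (mul_left_cancel (mul_right_cancel (((C.iso.injective e).trans hks.symm).symm))))
      (hc.2 (by rw [← hks]; exact commute_conj_iff.2 (Model.gg_comm_zz hx9).symm))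
      (hc.2 (by rw [← hkt]; exact commute_conj_iff.2 ((Model.gg_comm_iff (by norm_num) hx10).2 he)))
    rw [hc, ← hrk] at h1
    exact (commute_conj_iff.1 h1).symm
  rcases Model.far_eight (by simpa [hr] using Model.conj_mem_trans ht' k⁻¹) hfar hcom with e | e
  · left
    rw [← hrk, e, hkt]
  · right
    rw [← map_inv, ← map_mul, ← map_mul, ← hrk, e, ← hks, ← hkt]
    congr 1
    group

/-- An element fixing the member and all its neighbours. -/
theorem fix_all {g : G} (hgd : Commute g d) (hfix : ∀ e ∈ nb D d, Commute g e) : g = 1 ∨ g = d := by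
  have S := C.sec.setting
  have hD := S.grp
  have hgd' : g * d * g⁻¹ = d := by rw [hgd.eq, mul_inv_cancel_right]
  have hnon : ∀ y ∈ D, ¬ Commute d y → g * y * g⁻¹ = y ∨ g * y * g⁻¹ = d * y * d := by
    intro y hy hdy
    obtain ⟨r, hr, hry⟩ := exists_common_nb S C.mem hy hdy
    set y' := g * y * g⁻¹ with hy'
    have hdy' : ¬ Commute d y' := fun h => hdy ((commute_conj_iff (g := g)).1 (by rw [hgd', ← hy']; exact h))
    have hsame : ∀ t ∈ nb D d, Commute y t → Commute y' t := by
      intro t ht hyt
      have e : g * t * g⁻¹ = t := by rw [(hfix t ht).eq, mul_inv_cancel_right]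
      rw [hy', ← e, commute_conj_iff]
      exact hyt
    obtain ⟨k, hk⟩ := class_trans S.cls hr.1 C.mem
    have hin : ∀ {z : G}, z ∈ D → Commute r z → z ≠ r → k * z * k⁻¹ ∈ nb D d := fun {z} hz hc hne =>
      ⟨hD.2.1 k z hz, fun h => hne (mul_left_cancel (mul_right_cancel (h.trans hk.symm))),
        by rw [← hk]; exact commute_conj_iff.2 hc⟩
    have hp := hin C.mem hr.2.2.symm hr.2.1.symm
    have hq := hin hy hry fun h => hdy (h ▸ hr.2.2)
    have hz := hin (hD.2.1 g y hy) (hsame r hr hry.symm).symm fun h => hdy' (by rw [hy', h]; exact hr.2.2)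
    have key := C.fibre23 (im_mem_set hp) (im_mem_set hq)
      (fun h => hdy (commute_conj_iff.1 ((C.comm_iff hp hq).1 h))) (im_mem_set hz)
      (fun h => hdy' (commute_conj_iff.1 ((C.comm_iff hp hz).1 h))) ?_
    · rcases key with h | h
      · exact Or.inl (mul_left_cancel (mul_right_cancel (C.inj hz hq h)))
      · refine Or.inr ?_
        have hpk : Commute (k * d * k⁻¹) d := hp.2.2.symm
        have hin' : k * d * k⁻¹ * (k * y * k⁻¹) * (k * d * k⁻¹)⁻¹ ∈ nb D d := C.conj_nb hpk hq
        have e := C.inj hz hin' (h.trans (by rfl))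
        refine mul_left_cancel (mul_right_cancel (e.trans ?_) : k * y' = k * (d * y * d))
        rw [show k * d * k⁻¹ * (k * y * k⁻¹) * (k * d * k⁻¹)⁻¹ = k * (d * y * d⁻¹) * k⁻¹ by group,
          inv_eq C.set3 C.mem]
    · rintro w ⟨⟨w', hw'⟩, hm, rfl⟩ hne hc hqw
      have hw : w' ∈ nb D d := hm
      change im hw ≠ im hp at hne
      change Commute (im hp) (im hw) at hc
      change Commute (im hq) (im hw) at hqw
      show Commute (im hz) (im hw)
      rw [C.comm_iff hz hw]
      rw [C.comm_iff hp hw] at hc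
      rw [C.comm_iff hq hw] at hqw
      set t := k⁻¹ * w' * k with ht'
      have hkt : k * t * k⁻¹ = w' := conj_cancel k w'
      have ht : t ∈ nb D d := ⟨by simpa using hD.2.1 k⁻¹ w' hw.1, fun h => hne (by congr 1; simp [← hkt, h]), by
        rw [← commute_conj_iff (g := k), hkt]; exact hc⟩
      rw [← hkt, commute_conj_iff]
      exact hsame t ht (by rw [← commute_conj_iff (g := k), hkt]; exact hqw)
  by_cases hex : ∃ y ∈ D, ¬ Commute d y ∧ g * y * g⁻¹ = y
  · obtain ⟨y, hy, hdy, hgy⟩ := hex
    refine Or.inl (C.center_G fun z hz => ?_)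
    have htop := S.max C.mem hy hdy
    refine (RankThree.commute_closure (a := g) ?_ (htop ▸ Subgroup.mem_top z)).symm.symm
    rintro t (⟨htD, hdt⟩ | rfl)
    · by_cases e : t = d
      · exact e ▸ hgd
      · exact hfix t ⟨htD, e, hdt⟩
    · exact mul_inv_eq_iff_eq_mul.1 hgy
  · push Not at hex
    refine Or.inr ?_
    have h1 : d * g = 1 := C.center_G fun z hz => by
      by_cases hdz : Commute d z
      · refine hdz.mul_left ?_
        by_cases e : z = d
        · exact e ▸ hgd
        · exact hfix z ⟨hz, e, hdz⟩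
      · have e := (hnon z hz hdz).resolve_left (hex z hz hdz)
        refine mul_inv_eq_iff_eq_mul.1 ?_
        calc d * g * z * (d * g)⁻¹ = d * (g * z * g⁻¹) * d⁻¹ := by group
          _ = d * (d * z * d) * d⁻¹ := by rw [e]
          _ = d * d * z := by group
          _ = z := by rw [mul_self C.set3 C.mem, one_mul]
    rw [eq_inv_of_mul_eq_one_right h1, inv_eq C.set3 C.mem]

/-- An element over the identity. -/
theorem one_or_self {k : ↥(Subgroup.closure (nb D d))} (h : (QuotientGroup.mk k : SecG D d) = 1) :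
    (k : G) = 1 ∨ (k : G) = d := by
  refine C.fix_all (C.closure_comm k.2).symm fun e he => ?_
  exact (congrArg Subtype.val (Subgroup.mem_center_iff.1 ((QuotientGroup.eq_one_iff _).1 h)
    ⟨e, Subgroup.subset_closure he⟩)).symm

/-- A product of lifted letters. -/
noncomputable def upW (w : List ℕ) : G := (w.map fun x => C.up (gg x)).prod

theorem upW_rep {w : List ℕ} (hw : ∀ x ∈ w, x < 10) : ∃ k : ↥(Subgroup.closure (nb D d)),
    (k : G) = C.upW w ∧ (QuotientGroup.mk k : SecG D d) = C.iso (word w) := by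
  induction w with
  | nil =>
    exact ⟨1, rfl, by rw [show word [] = 1 from List.prod_nil, map_one]; rfl⟩
  | cons x w ih =>
    obtain ⟨k, hk, hk'⟩ := ih fun y hy => hw y (List.mem_cons_of_mem _ hy)
    have hx := Model.gg_mem_trans (hw x List.mem_cons_self)
    refine ⟨⟨C.up (gg x), Subgroup.subset_closure (C.up_nb hx)⟩ * k, by simp [upW, hk], ?_⟩
    rw [QuotientGroup.mk_mul, hk', show word (x :: w) = gg x * word w from List.prod_cons, map_mul, ← C.im_up hx]
    rfl

theorem upW_one_or_self {w : List ℕ} (hw : ∀ x ∈ w, x < 10) (h : word w = 1) : C.upW w = 1 ∨ C.upW w = d := by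
  obtain ⟨k, hk, hk'⟩ := C.upW_rep hw
  rw [h, map_one] at hk'
  rw [← hk]
  exact C.one_or_self hk'

theorem upW_append (u v : List ℕ) : C.upW (u ++ v) = C.upW u * C.upW v := by simp [upW]

theorem upW_pal : ∀ (w : List ℕ), (∀ x ∈ w, x < 10) → w.reverse = w → w.length % 2 = 1 →
    C.upW w ∈ D ∧ ∀ hw : C.upW w ∈ nb D d, im hw = C.iso (word w) := by
  intro w
  induction hn : w.length using Nat.strong_induction_on generalizing w with
  | _ n ih =>
    intro hlt hrev hodd
    subst hn
    refine ⟨?_, fun hw => ?_⟩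
    · match w, hlt, hrev, hodd with
      | [x], hlt, _, _ => simpa [upW] using C.up_mem (Model.gg_mem_trans (hlt x (by simp)))
      | x :: y :: w', hlt, hrev, hodd =>
        obtain ⟨m, z, hm⟩ : ∃ m z, y :: w' = m ++ [z] :=
          ⟨(y :: w').dropLast, (y :: w').getLast (by simp), (List.dropLast_append_getLast _).symm⟩
        rw [hm] at hlt hrev hodd ⊢
        rw [List.reverse_cons, List.reverse_append, List.reverse_singleton, List.singleton_append,
          List.cons_append, List.cons.injEq] at hrev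
        obtain ⟨rfl, hrev⟩ := hrev
        have hrev' : m.reverse = m := (List.append_left_inj _).1 hrev
        simp only [List.length_cons, List.length_append, List.length_nil] at hodd
        have hlen : m.length < (z :: y :: w').length := by
          have := congrArg List.length hm
          simp only [List.length_cons, List.length_append, List.length_nil] at this ⊢
          omega
        have hmem := (ih m.length hlen m rfl (fun u hu => hlt u (by simp [hu])) hrev' (by omega)).1
        rw [show z :: (m ++ [z]) = [z] ++ m ++ [z] by simp, C.upW_append, C.upW_append,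
          show C.upW [z] = C.up (gg z) by simp [upW]]
        have := C.sec.setting.grp.2.1 (C.up (gg z)) _ hmem
        rwa [inv_eq C.set3 (C.up_mem (Model.gg_mem_trans (hlt z (by simp))))] at this
    · obtain ⟨k, hk, hk'⟩ := C.upW_rep hlt
      rw [← hk']
      exact congrArg (QuotientGroup.mk (s := Subgroup.center _)) (Subtype.ext hk.symm)

/-- The member is the ninth power of the Coxeter element on seven lifted letters. -/
theorem seven : C.upW ESeven.ninth = d := by
  have hlt7 : ∀ x ∈ ESeven.sevenLetters, x < 10 := by decide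
  have htr : ∀ x ∈ ESeven.sevenLetters, gg x ∈ FiThree.trans := fun x hx => Model.gg_mem_trans (hlt7 x hx)
  let L : ℕ → G := fun x => if x ∈ ESeven.sevenLetters then C.up (gg x) else 1
  have hL : ∀ w : List ℕ, (∀ x ∈ w, x ∈ ESeven.sevenLetters) → (w.map L).prod = C.upW w := fun w hw =>
    congrArg List.prod (List.map_congr_left fun x hx => if_pos (hw x hx))
  have hmain := ESeven.ninth_eq (L := L) (fun x => by
      by_cases hx : x ∈ ESeven.sevenLetters
      · simp only [L, if_pos hx]; exact mul_self C.set3 (C.up_mem (htr x hx))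
      · simp only [L, if_neg hx, one_mul])
    (fun x hx y hy hne he => by
      simp only [L, if_pos hx, if_pos hy]
      exact ((C.up_comm (htr x hx) (htr y hy)).2 ((Model.gg_comm_iff (hlt7 x hx) (hlt7 y hy)).2
        ((show ∀ a ∈ ESeven.sevenLetters, ∀ b ∈ ESeven.sevenLetters, ESeven.joined a b = false →
          Model.edge a b = false by decide) x hx y hy he))).eq)
    (fun x hx y hy he => by
      simp only [L, if_pos hx, if_pos hy]
      refine braid C.set3 (C.up_mem (htr x hx)) (C.up_mem (htr y hy)) fun hc => ?_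
      have h1 := (Model.gg_comm_iff (hlt7 x hx) (hlt7 y hy)).1 ((C.up_comm (htr x hx) (htr y hy)).1 hc)
      rw [(show ∀ a ∈ ESeven.sevenLetters, ∀ b ∈ ESeven.sevenLetters, ESeven.joined a b = true →
          Model.edge a b = true by decide) x hx y hy he] at h1
      exact Bool.noConfusion h1)
  rw [hL _ (by decide +kernel)] at hmain
  have h1 : C.upW ESeven.ninth = (ESeven.refls.map C.upW).prod := by
    rw [hmain]
    refine congrArg List.prod (List.map_congr_left fun r hr => hL r fun x hx => ?_)
    have := List.all_eq_true.1 Model.refl_shape r hr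
    simp only [Bool.and_eq_true, List.all_eq_true, List.contains_iff_mem] at this
    exact this.1.1 x hx
  have hword : word ESeven.ninth = 1 := by
    rw [show ESeven.ninth = [0, 1, 2, 3, 4, 5, 7, 0, 1, 2, 3, 4, 5, 7, 0, 1, 2, 3, 4, 5, 7, 0, 1, 2, 3, 4, 5, 7,
      0, 1, 2, 3, 4, 5, 7, 0, 1, 2, 3, 4, 5, 7, 0, 1, 2, 3, 4, 5, 7, 0, 1, 2, 3, 4, 5, 7, 0, 1, 2, 3, 4, 5, 7] by
        decide +kernel]
    exact FiThree.relator_odd
  refine (C.upW_one_or_self (by decide +kernel) hword).resolve_left fun hone => ?_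
  rw [h1] at hone
  have hshape : ∀ r ∈ ESeven.refls, (∀ x ∈ r, x < 10) ∧ r.reverse = r ∧ r.length % 2 = 1 := by
    intro r hr
    have := List.all_eq_true.1 Model.refl_shape r hr
    simp only [Bool.and_eq_true, List.all_eq_true, List.contains_iff_mem, beq_iff_eq] at this
    exact ⟨fun x hx => hlt7 x (this.1.1 x hx), this.1.2, this.2⟩
  have hnb : ∀ r ∈ ESeven.refls, C.upW r ∈ nb D d ∧ ∀ hw : C.upW r ∈ nb D d, im hw = C.iso (word r) := by
    intro r hr
    obtain ⟨a, b, c⟩ := hshape r hr
    obtain ⟨hm, him⟩ := C.upW_pal r a b c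
    obtain ⟨k, hk, hk'⟩ := C.upW_rep a
    refine ⟨⟨hm, fun e => ?_, hk ▸ C.closure_comm k.2⟩, him⟩
    have h1 : (QuotientGroup.mk k : SecG D d) = 1 := by
      refine (QuotientGroup.eq_one_iff _).2 (Subgroup.mem_center_iff.2 fun z => Subtype.ext ?_)
      show (z : G) * k = k * z
      rw [hk, e]
      exact (C.closure_comm z.2).eq.symm
    rw [hk', MulEquiv.map_eq_one_iff] at h1
    exact absurd h1 ((show ∀ r ∈ ESeven.refls, word r ≠ 1 from fun r hr h => by
      obtain ⟨i, hi, rfl⟩ := List.getElem_of_mem hr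
      have hi' : i < 7 := hi
      obtain ⟨j, hj, hij⟩ : ∃ j < 7, i ≠ j := ⟨if i = 0 then 1 else 0, by split_ifs <;> omega, by split_ifs <;> omega⟩
      have hne := Model.refl_ne hi' hj hij
      have hcm := Model.refl_commute hi' hj
      obtain ⟨a', b', c'⟩ := hshape _ hr
      obtain ⟨g, hg⟩ := FiThree.mem_trans.1 (pal_trans a' b' c')
      rw [h] at hg
      have hz : zz = 1 := by
        calc zz = g⁻¹ * (g * zz * g⁻¹) * g := by group
          _ = 1 := by rw [← hg]; group
      have := FiThree.orderOf_zz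
      rw [hz, orderOf_one] at this
      omega) r hr)
  refine C.rel7 (ESeven.refls.map C.upW) ⟨?_, ?_, ?_⟩ (by rw [List.length_map]; decide) hone
  · rw [List.nodup_iff_injective_getElem]
    rintro ⟨i, hi⟩ ⟨j, hj⟩ e
    simp only [List.getElem_map] at e
    rw [List.length_map] at hi hj
    refine Fin.ext ?_
    by_contra hne
    obtain ⟨mi, ei⟩ := hnb _ (List.getElem_mem hi)
    obtain ⟨mj, ej⟩ := hnb _ (List.getElem_mem hj)
    refine Model.refl_ne (hi : i < 7) (hj : j < 7) hne ?_
    rw [List.getD_eq_getElem _ _ hi, List.getD_eq_getElem _ _ hj]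
    refine C.iso.injective ?_
    rw [← ei mi, ← ej mj]
    simp only [e]
  · intro x hx
    obtain ⟨r, hr, rfl⟩ := List.mem_map.1 hx
    exact (hnb r hr).1.1
  · intro x hx y hy
    obtain ⟨r, hr, rfl⟩ := List.mem_map.1 hx
    obtain ⟨s, hs, rfl⟩ := List.mem_map.1 hy
    rw [← C.comm_iff (hnb r hr).1 (hnb s hs).1, (hnb r hr).2 (hnb r hr).1, (hnb s hs).2 (hnb s hs).1]
    obtain ⟨i, hi, rfl⟩ := List.getElem_of_mem hr
    obtain ⟨j, hj, rfl⟩ := List.getElem_of_mem hs
    have := Model.refl_commute (hi : i < 7) (hj : j < 7)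
    rw [List.getD_eq_getElem _ _ hi, List.getD_eq_getElem _ _ hj] at this
    exact this.map C.iso.toMonoidHom

theorem mem_closure : d ∈ Subgroup.closure (nb D d) := by
  obtain ⟨k, hk, -⟩ := C.upW_rep (w := ESeven.ninth) (by decide +kernel)
  have := k.2
  rwa [hk, C.seven] at this

end Chart

end CfsgLib.Recog.FiM24
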