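import Cfsg.Agent.Lib.Recog.FiThree.CheckOrbits
import Cfsg.Agent.Lib.Recog.FiFour.Data

set_option autoImplicit false
set_option maxRecDepth 20000
set_option Elab.async false

/-!
Five bit planes fixed by the cube of the element of order three (owner: helper13).
-/

namespace CfsgLib.Recog.FiM24.Checks

open CfsgLib.Recog.BitPerm
open CfsgLib.Recog.FiThree (net)
open CfsgLib.Recog.FiFour (bLetters tW)

open CfsgLib.ThreeTrans.CosetIndex (forallFrom)

theorem cube0 : forallFrom (fun r => Nat.beq (runWord net (tW ++ tW ++ tW) (plane r 15)) (plane r 15)) 0 5 = true := by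
  decide +kernel

end CfsgLib.Recog.FiM24.Checks
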