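import Cfsg.Agent.Lib.Recog.FiM24.DoubleData

set_option autoImplicit false
set_option maxRecDepth 20000
set_option Elab.async false

/-! Checks on 306936 points for the members far from the last letter (owner: helper13). -/

namespace CfsgLib.Recog.FiM24.Checks

open CfsgLib.Recog.BitPerm
open CfsgLib.Recog.FiFour (net bLetters tW sLevels)

theorem far_eq : Nat.beq (spreadN downWords 4 midPts) farPts = true := by decide +kernel

end CfsgLib.Recog.FiM24.Checks
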