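import Cfsg.Agent.Lib.Recog.FiM24.DoubleData

set_option autoImplicit false
set_option maxRecDepth 20000
set_option Elab.async false

/-! Checks on 306936 points for the members far from the last letter (owner: helper13). -/

namespace CfsgLib.Recog.FiM24.Checks

open CfsgLib.Recog.BitPerm
open CfsgLib.Recog.FiFour (net bLetters tW sLevels)

theorem pair_closed : closedOK net ((downWords.flatten).map fun x => [x, 11]) 10 = true := by decide +kernel

theorem words_fix : ((sLevels.flatMap fun l => l.gens).all fun w => Bool.or (decide (w = tW))
    (w.all (bLetters.contains ·) && Nat.beq (w.length % 2) 0)) = true := by decide +kernel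

theorem tW_fix : mapsOK net tW 3 3 = true := by decide +kernel

theorem letters_fix : (bLetters.all fun x => mapsOK net [x] 3 3) = true := by decide +kernel

end CfsgLib.Recog.FiM24.Checks
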