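import Cfsg.Agent.Lib.Recog.FiThree.CheckOrbits
import Cfsg.Agent.Lib.Recog.FiFour.Data

set_option autoImplicit false
set_option maxRecDepth 20000
set_option Elab.async false

/-!
Checks on 31671 points for the common neighbours of two far members in a group of type M(24) (owner: helper13).

The nine letters have orbits of 1080, 2160 and 28431 points; the first two make the common set.
-/

namespace CfsgLib.Recog.FiM24.Checks

open CfsgLib.Recog.BitPerm
open CfsgLib.Recog.FiThree (net)
open CfsgLib.Recog.FiFour (bLetters tW)

/-- The nine letters as words. -/
def bWords : List (List ℕ) := bLetters.map fun x => [x]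

/-- The orbit of the central member. -/
noncomputable def smallOrb : ℕ := orbitSet net bWords 0 11

/-- The other orbit in the common set. -/
noncomputable def midOrb : ℕ := orbitSet net bWords 23115 4

/-- The orbit outside. -/
noncomputable def outOrb : ℕ := orbitSet net bWords 11589 8

/-- The orbit of the central member with the element of order three. -/
noncomputable def bigOrb : ℕ := orbitSet net (tW :: bWords) 0 4

theorem cover : Nat.beq (Nat.lor (Nat.lor smallOrb midOrb) outOrb) (2 ^ 31671 - 1) = true := by decide +kernel

theorem small_closed : closedOK net bWords smallOrb = true := by decide +kernel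

theorem small_left : (mapsOK net tW 0 24288 && !(Nat.testBit smallOrb 24288)) = true := by decide +kernel

theorem big_cover : Nat.beq (Nat.lor bigOrb (Nat.lor smallOrb midOrb)) bigOrb = true := by decide +kernel

theorem big_closed : closedOK net (tW :: bWords) (Nat.lor smallOrb midOrb) = true := by decide +kernel

theorem out_free : Nat.beq (Nat.land (Nat.lor smallOrb midOrb) outOrb) 0 = true := by decide +kernel

theorem t_letters : tW.all (· < 10) = true := by decide

end CfsgLib.Recog.FiM24.Checks
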