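import Cfsg.Agent.Lib.Recog.FiTypes.Fi24Class
import Cfsg.Agent.Lib.Recog.FiTypes.Points
import Cfsg.Agent.Lib.Recog.FiM24.CheckCube0
import Cfsg.Agent.Lib.Recog.FiM24.CheckCube1
import Cfsg.Agent.Lib.Recog.FiM24.CheckCube2
import Cfsg.Agent.Lib.Recog.FiM24.CheckSets
import Cfsg.Agent.Lib.Recog.FiM24.CheckHub
import Cfsg.Agent.Lib.Recog.FiM24.CheckMid
import Cfsg.Agent.Lib.Recog.FiM24.CheckFar
import Cfsg.Agent.Lib.Recog.FiM24.CheckClosed
import Cfsg.Agent.Lib.Recog.FiM24.CheckPairPts

set_option autoImplicit false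
set_option maxRecDepth 20000

/-!
The subgroup of Fi23 fixing a member far from the last letter of Fi24: its order, generators, and its double cosets,
each of which meets the centraliser of the central member (owner: helper13).
-/

namespace CfsgLib.Recog.FiM24

open Cfsg CfsgLib.Recog.BitPerm CfsgLib.Recog.SporBound
open CfsgLib.Recog.FiFour (act gg iota hTop bLetters tW sLevels)
open CfsgLib.ThreeTrans.CosetIndex (forallFrom forallFrom_elim)

attribute [local instance] FiThree.finite_fi23' FiFour.finite_fi24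

/-- The elements of Fi23 fixing the far point. -/
noncomputable def kFix : Subgroup Spor.Fi23 :=
  (MulAction.stabilizer (Equiv.Perm ℕ) (3 : ℕ)).comap (act.comp iota)

theorem mem_kFix {u : Spor.Fi23} : u ∈ kFix ↔ act (iota u) 3 = 3 := Iff.rfl

/-- The group of the nine letters. -/
noncomputable def nine : Subgroup Spor.Fi23 :=
  letterSub Spor.Fi23.edges Spor.Fi23.extra FiThree.gens bLetters

theorem l_three : act (gg 11) 3 = 1 := by
  rw [← FiTypes.l_pt, ← Equiv.Perm.mul_apply, ← map_mul, FiFour.gg_sq, map_one act, Equiv.Perm.one_apply]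

theorem k_one : act (gg 10) 1 = 0 := by
  rw [← FiTypes.k_pt, ← Equiv.Perm.mul_apply, ← map_mul, FiFour.gg_sq, map_one act, Equiv.Perm.one_apply]

theorem iota_one_pt (u : Spor.Fi23) : act (iota u) 1 = act (gg 11) (act (iota u) 3) := by
  rw [← l_three, ← Equiv.Perm.mul_apply, ← map_mul, ← (FiTypes.l_comm_iota u).eq, map_mul, Equiv.Perm.mul_apply]

theorem k_fix_letter {x : ℕ} (hx : x ∈ bLetters) : act (gg x) 3 = 3 := by
  rw [← FiFour.word_singleton]
  exact FiFour.act_maps (List.all_eq_true.1 Checks.letters_fix x hx)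

theorem letter_one {x : ℕ} (hx : x ∈ bLetters) : act (gg x) 1 = 1 := by
  rw [← l_three, ← Equiv.Perm.mul_apply, ← map_mul,
    FiFour.l_comm ((show ∀ y ∈ bLetters, y ∈ FiFour.hLetters by decide) x hx), map_mul, Equiv.Perm.mul_apply,
    k_fix_letter hx]

theorem iota_gg_three {x : ℕ} (hx : x ∈ bLetters) : act (iota (FiThree.gg x)) 3 = 1 := by
  rw [FiFour.iota_gg ((show ∀ y ∈ bLetters, y < 10 by decide) x hx), map_mul, Equiv.Perm.mul_apply, l_three,
    letter_one hx]

theorem iota_gg_one {x : ℕ} (hx : x ∈ bLetters) : act (iota (FiThree.gg x)) 1 = 3 := by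
  rw [iota_one_pt, iota_gg_three hx, FiTypes.l_pt]

theorem word_kFix {w : List ℕ} (hw : w.all (bLetters.contains ·) = true) (he : w.length % 2 = 0) :
    FiThree.word w ∈ kFix := by
  have hlt : w.all (· < 10) = true := List.all_eq_true.2 fun x hx => decide_eq_true
    ((show ∀ y ∈ bLetters, y < 10 by decide) x (List.contains_iff_mem.1 (List.all_eq_true.1 hw x hx)))
  rw [mem_kFix, FiFour.iota_word hlt, FiFour.signed, if_neg (by omega)]
  clear hlt he
  induction w with
  | nil => rw [show FiFour.word [] = 1 from List.prod_nil, map_one]; rfl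
  | cons x w ih =>
    simp only [List.all_cons, Bool.and_eq_true, List.contains_iff_mem] at hw
    rw [show FiFour.word (x :: w) = gg x * FiFour.word w from List.prod_cons, map_mul, Equiv.Perm.mul_apply,
      ih hw.2, k_fix_letter hw.1]

theorem tW_kFix : FiThree.word tW ∈ kFix := by
  rw [mem_kFix, FiFour.iota_word Checks.t_letters, FiFour.signed, if_neg (by decide +kernel)]
  exact FiFour.act_maps Checks.tW_fix

/-- An element of the nine letters fixes the pair of far points. -/
theorem nine_pair {u : Spor.Fi23} (hu : u ∈ nine) : act (iota u) 3 = 3 ∨ act (iota u) 3 = 1 := by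
  have hmem : act (iota u) ∈ Subgroup.closure
      {p | ∃ w ∈ (Checks.downWords.flatten).map (fun x => [x, 11]), p = wordPerm FiFour.net w} := by
    have hle : nine ≤ Subgroup.comap (act.comp iota) (Subgroup.closure
        {p | ∃ w ∈ (Checks.downWords.flatten).map (fun x => [x, 11]), p = wordPerm FiFour.net w}) := by
      rw [nine, letterSub, Subgroup.closure_le]
      rintro _ ⟨x, hx, rfl⟩
      refine Subgroup.subset_closure ⟨[x, 11], List.mem_map.2 ⟨x,
        (show ∀ y ∈ bLetters, y ∈ Checks.downWords.flatten by decide) x hx, rfl⟩, ?_⟩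
      rw [← FiFour.act_word, MonoidHom.comp_apply]
      congr 1
      rw [show CfsgLib.ThreeTrans.CosetIndex.gen Spor.Fi23.edges Spor.Fi23.extra FiThree.gens x = FiThree.gg x from rfl,
        FiFour.iota_gg ((show ∀ y ∈ bLetters, y < 10 by decide) x hx)]
      simp [FiFour.word]
    exact hle hu
  have h := closed_bits FiFour.netValid Checks.pair_closed hmem 3
  have hb : ∀ i : ℕ, (10 : ℕ).testBit i = true → i = 3 ∨ i = 1 := fun i hi => by
    rcases Nat.lt_or_ge i 4 with h4 | h4
    · have : i = 3 ∨ i = 1 ∨ (10 : ℕ).testBit i = false :=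
        (show ∀ j < 4, j = 3 ∨ j = 1 ∨ (10 : ℕ).testBit j = false by decide) i h4
      simpa [hi] using this
    · rw [Nat.testBit_lt_two_pow (lt_of_lt_of_le (show (10 : ℕ) < 2 ^ 4 by norm_num)
        (Nat.pow_le_pow_right (by omega) h4))] at hi
      exact Bool.noConfusion hi
  exact hb _ (h.trans (by decide))

theorem kFix_le_kStab : kFix ≤ FiFour.kStab := fun u hu => by
  refine FiFour.mem_kStab (FiFour.Aut.stab_iff.1 ?_)
  rw [map_mul, map_mul, Equiv.Perm.mul_apply, Equiv.Perm.mul_apply, FiTypes.k_pt, iota_one_pt, mem_kFix.1 hu,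
    l_three, k_one]

theorem card_kFix_le : Nat.card kFix ≤ 14856539443200 := by
  refine (Subgroup.card_le_of_le kFix_le_kStab).trans ?_
  haveI := FiFour.index_top_le.1
  have h1 := Nat.card_le_card_of_surjective _ FiFour.cosetMap_surjective
  rw [← Subgroup.index_eq_card, FiFour.index_hTop, Nat.card_sum, Nat.card_sum, Nat.card_unique, Nat.card_fin,
    ← Subgroup.index_eq_card] at h1
  have h2 := Subgroup.card_mul_index FiFour.kStab
  rw [FiThree.card_fi23] at h2
  refine Nat.le_of_mul_le_mul_right ?_ (show 0 < 275264 by decide +kernel)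
  calc Nat.card FiFour.kStab * 275264 ≤ Nat.card FiFour.kStab * FiFour.kStab.index :=
        Nat.mul_le_mul_left _ (by omega)
    _ ≤ _ := by rw [h2]

/-- A subgroup with the generators of the chain contains the stabiliser. -/
theorem kFix_le_of {K : Subgroup Spor.Fi23} (htW : FiThree.word tW ∈ K)
    (hb : ∀ w : List ℕ, w.all (bLetters.contains ·) = true → w.length % 2 = 0 → FiThree.word w ∈ K) : kFix ≤ K := by
  have hφ : ∀ l ∈ sLevels, ∀ w ∈ l.gens,
      wordPerm FiThree.net w ∈ (FiThree.act.comp (K ⊓ kFix).subtype).range := by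
    intro l hl w hw
    have h := List.all_eq_true.1 Checks.words_fix w (List.mem_flatMap.2 ⟨l, hl, hw⟩)
    simp only [Bool.or_eq_true, decide_eq_true_eq, Bool.and_eq_true] at h
    refine ⟨⟨FiThree.word w, ?_⟩, FiThree.act_word w⟩
    rcases h with rfl | ⟨h1, h2⟩
    · exact ⟨htW, tW_kFix⟩
    · exact ⟨hb w h1 (Nat.eq_of_beq_eq_true h2), word_kFix h1 (Nat.eq_of_beq_eq_true h2)⟩
  have h := total_mul_ker_le_card FiThree.acts.valid _ hφ FiFour.s_chain
  rw [FiFour.s_total] at h
  have e : K ⊓ kFix = kFix := Subgroup.eq_of_le_of_card_ge inf_le_right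
    (card_kFix_le.trans ((Nat.le_mul_of_pos_right _ Nat.card_pos).trans h))
  exact e ▸ inf_le_left

theorem tW_cube : FiThree.word tW * FiThree.word tW * FiThree.word tW = 1 := by
  rw [← FiThree.word_append, ← FiThree.word_append]
  refine FiThree.word_eq_one ?_
  exact SporBound.forallFrom_cat (l := 15)
    (SporBound.forallFrom_cat (l := 10) Checks.cube0 Checks.cube1 rfl rfl) Checks.cube2 rfl rfl

theorem small_inv {u : Spor.Fi23} (hu : u ∈ nine) (c : ℕ) :
    Checks.smallOrb.testBit (FiThree.act u c) = Checks.smallOrb.testBit c := by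
  refine closed_bits FiThree.acts.valid Checks.small_closed ?_ c
  have hle : nine ≤ Subgroup.comap FiThree.act
      (Subgroup.closure {p | ∃ w ∈ Checks.bWords, p = wordPerm FiThree.net w}) := by
    rw [nine, letterSub, Subgroup.closure_le]
    rintro _ ⟨x, hx, rfl⟩
    refine Subgroup.subset_closure ⟨[x], List.mem_map.2 ⟨x, hx, rfl⟩, ?_⟩
    rw [← FiThree.act_word, FiThree.word_singleton]
  exact hle hu

theorem tW_not_nine : FiThree.word tW ∉ nine := fun h => by
  have hs := Checks.small_left
  simp only [Bool.and_eq_true, Bool.not_eq_true'] at hs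
  have h0 : Checks.smallOrb.testBit 0 = true := by
    have := small_inv (one_mem nine) 0
    exact (show Nat.testBit Checks.smallOrb 0 = true by decide +kernel)
  have := small_inv h 0
  rw [FiThree.act_maps hs.1, hs.2, h0] at this
  exact Bool.noConfusion this

/-- The nine letters generate too small a group to hold the common neighbours. -/
theorem card_nine_le : Nat.card nine ≤ 9904359628800 := by
  classical
  set Y := nine ⊓ kFix with hY
  set t := FiThree.word tW with ht
  have h1 : Nat.card nine ≤ Nat.card Y * 2 := by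
    have hg : FiThree.gg 1 ∈ nine := Subgroup.subset_closure ⟨1, by decide, rfl⟩
    let F : nine → Y × Bool := fun u =>
      if h : act (iota (u : Spor.Fi23)) 3 = 3 then (⟨u, u.2, h⟩, false)
      else (⟨u * FiThree.gg 1, mul_mem u.2 hg, show act (iota ((u : Spor.Fi23) * FiThree.gg 1)) 3 = 3 by
        rw [map_mul, map_mul, Equiv.Perm.mul_apply, iota_gg_three (by decide), iota_one_pt,
          (nine_pair u.2).resolve_left h, FiTypes.l_pt]⟩, true)
    have hF : Function.Injective F := by
      intro a b e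
      simp only [F] at e
      by_cases ha : act (iota (a : Spor.Fi23)) 3 = 3 <;> by_cases hb : act (iota (b : Spor.Fi23)) 3 = 3
      all_goals simp only [ha, hb, dite_true, dite_false, Prod.mk.injEq, Subtype.mk.injEq, mul_left_inj,
        Bool.false_eq_true, Bool.true_eq_false, and_false, and_true] at e
      all_goals exact Subtype.ext (by simpa using congrArg Subtype.val e)
    have := Nat.card_le_card_of_injective F hF
    rwa [Nat.card_prod, Nat.card_eq_fintype_card (α := Bool), Fintype.card_bool] at this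
  have h3 : Nat.card Y * 3 ≤ Nat.card kFix := by
    let F : Y × Fin 3 → kFix := fun p => ⟨t ^ (p.2 : ℕ) * p.1, mul_mem (pow_mem tW_kFix _) p.1.2.2⟩
    have hn : ∀ i : ℕ, i = 1 ∨ i = 2 → t ^ i ∉ nine := by
      rintro i (rfl | rfl) hm
      · exact tW_not_nine (by simpa using hm)
      · refine tW_not_nine ?_
        have e : FiThree.word tW = (t ^ 2)⁻¹ := by
          rw [eq_inv_iff_mul_eq_one, pow_two, ← mul_assoc, tW_cube]
        rw [e]; exact inv_mem hm
    have hF : Function.Injective F := by
      rintro ⟨a, i⟩ ⟨b, j⟩ e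
      have e' : t ^ (i : ℕ) * (a : Spor.Fi23) = t ^ (j : ℕ) * (b : Spor.Fi23) := congrArg Subtype.val e
      have key : ∀ i j : ℕ, ∀ a b : Y, i < j → j < 3 → t ^ i * (a : Spor.Fi23) = t ^ j * (b : Spor.Fi23) → False := by
        intro i j a b hij hj h
        refine hn (j - i) (by omega) ?_
        have : t ^ (j - i) = (a : Spor.Fi23) * (b : Spor.Fi23)⁻¹ := by
          rw [eq_mul_inv_iff_mul_eq]
          refine mul_left_cancel (a := t ^ i) ?_
          rw [← mul_assoc, ← pow_add, Nat.add_sub_cancel' hij.le, ← h]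
        rw [this]
        exact mul_mem a.2.1 (inv_mem b.2.1)
      have hij : i = j := by
        rcases lt_trichotomy (i : ℕ) j with h | h | h
        · exact (key i j a b h j.2 e').elim
        · exact Fin.ext h
        · exact (key j i b a h i.2 e'.symm).elim
      subst hij
      exact Prod.ext (Subtype.ext (mul_left_cancel e')) rfl
    have := Nat.card_le_card_of_injective F hF
    rwa [Nat.card_prod, Nat.card_eq_fintype_card (α := Fin 3), Fintype.card_fin] at this
  have := card_kFix_le
  omega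

/-- Spreading keeps a property kept by the words. -/
theorem spread_pred {B : ℕ} {net : ℕ → List Stage} (hV : Valid B net) {P : ℕ → Prop} :
    ∀ {gens : List (List ℕ)}, (∀ w ∈ gens, ∀ j, P (wordPerm net w j) → P j) →
      ∀ {S : ℕ}, (∀ i, S.testBit i = true → P i) → ∀ i, (spread net gens S).testBit i = true → P i
  | [], _, _, hS => hS
  | w :: gens, hw, S, hS => by
    intro i hi
    refine spread_pred hV (fun v hv => hw v (List.mem_cons_of_mem _ hv)) (S := S ||| runWord net w S) ?_ i hi
    intro j hj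
    rw [Nat.testBit_or, Bool.or_eq_true, testBit_runWord hV] at hj
    rcases hj with hj | hj
    · exact hS j hj
    · exact hw w List.mem_cons_self j (hS _ hj)

theorem spreadN_pred {P : ℕ → Prop} {gens : List (List ℕ)}
    (hw : ∀ w ∈ gens, ∀ j, P (wordPerm FiFour.net w j) → P j) :
    ∀ (r : ℕ) {S : ℕ}, (∀ i, S.testBit i = true → P i) → ∀ i, (Checks.spreadN gens r S).testBit i = true → P i
  | 0, _, hS => hS
  | r + 1, _, hS => spread_pred FiFour.netValid hw (spreadN_pred hw r hS)

theorem hub_form {h : Spor.Fi24} (hh : h ∈ Subgroup.closure (gg '' {x | x < 9})) :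
    ∃ m ∈ FiThree.hSub, h = iota m ∨ h = iota m * gg 11 := by
  induction hh using Subgroup.closure_induction'' with
  | mem _ hx =>
    obtain ⟨x, hx, rfl⟩ := hx
    have hx9 : x < 9 := hx
    exact ⟨FiThree.gg x, FiThree.gg_mem_h ((show ∀ y < 9, y ∈ FiThree.hLetters by decide) x hx9),
      Or.inr (by rw [FiFour.iota_gg (by omega), mul_assoc, FiFour.gg_sq, mul_one])⟩
  | inv_mem _ hx =>
    obtain ⟨x, hx, rfl⟩ := hx
    have hx9 : x < 9 := hx
    rw [inv_eq_of_mul_eq_one_right (FiFour.gg_sq x)]
    exact ⟨FiThree.gg x, FiThree.gg_mem_h ((show ∀ y < 9, y ∈ FiThree.hLetters by decide) x hx9),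
      Or.inr (by rw [FiFour.iota_gg (by omega), mul_assoc, FiFour.gg_sq, mul_one])⟩
  | one => exact ⟨1, one_mem _, Or.inl (map_one _).symm⟩
  | mul g g' _ _ i1 i2 =>
    obtain ⟨u, hu', hu⟩ := i1
    obtain ⟨v, hv', hv⟩ := i2
    refine ⟨u * v, mul_mem hu' hv', ?_⟩
    have c := FiFour.l_comm_h (FiFour.iota_mem v)
    rcases hu with rfl | rfl <;> rcases hv with rfl | rfl
    · exact Or.inl (map_mul _ _ _).symm
    · exact Or.inr (by rw [map_mul, mul_assoc])
    · exact Or.inr (by rw [map_mul, mul_assoc, ← c, mul_assoc])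
    · refine Or.inl ?_
      calc iota u * gg 11 * (iota v * gg 11) = iota u * (gg 11 * iota v) * gg 11 := by group
        _ = iota u * iota v * (gg 11 * gg 11) := by rw [← c]; group
        _ = _ := by rw [FiFour.gg_sq, mul_one, map_mul]

/-- Every double coset of the stabiliser meets the centraliser of the central member. -/
theorem double (u : Spor.Fi23) : ∃ a ∈ kFix, ∃ m ∈ FiThree.hSub, ∃ b ∈ kFix, u = a * m * b := by
  have hin : Checks.farPts.testBit (act (iota u) 3) = true := by
    have hle : hTop ≤ Subgroup.comap act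
        (Subgroup.closure {p | ∃ w ∈ Checks.baseWords, p = wordPerm FiFour.net w}) := by
      rw [FiFour.hTop, letterSub, Subgroup.closure_le]
      rintro _ ⟨x, hx, rfl⟩
      refine Subgroup.subset_closure ⟨[x],
        (show ∀ y ∈ FiFour.hLetters, [y] ∈ Checks.baseWords by decide) x hx, ?_⟩
      rw [← FiFour.act_word, FiFour.word_singleton]
    rw [closed_bits FiFour.netValid Checks.far_closed24 (hle (FiFour.iota_mem u))]
    exact Checks.far_three
  let P : ℕ → Prop := fun i => ∃ b ∈ Subgroup.closure (gg '' {x | x ∈ bLetters}),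
    ∃ h ∈ Subgroup.closure (gg '' {x | x < 9}), act (b * h) 3 = i
  have hstep : ∀ w ∈ Checks.downWords, ∀ j, P (wordPerm FiFour.net w j) → P j := by
    rintro w hw j ⟨b, hb, h, hh, e⟩
    obtain ⟨x, hx, rfl⟩ := List.mem_map.1 hw
    refine ⟨gg x * b, mul_mem (Subgroup.subset_closure ⟨x,
      (show ∀ y ∈ [9, 8, 7, 6, 5, 4, 3, 2, 1], y ∈ bLetters by decide) x hx, rfl⟩) hb, h, hh, ?_⟩
    rw [mul_assoc, map_mul, Equiv.Perm.mul_apply, e, ← FiFour.act_word, FiFour.word_singleton,
      ← Equiv.Perm.mul_apply, ← map_mul, FiFour.gg_sq, map_one]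
    rfl
  have hhub : ∀ i, Checks.hubPts.testBit i = true → P i := by
    intro i hi
    rw [← Nat.eq_of_beq_eq_true Checks.hub_eq] at hi
    obtain ⟨g, ⟨h, hh, rfl⟩, e⟩ := orbitSet_sub FiFour.netValid
      (K := (Subgroup.closure (gg '' {x | x < 9})).map act) (fun w hw => by
        obtain ⟨x, hx, rfl⟩ := List.mem_map.1 hw
        exact ⟨gg x, Subgroup.subset_closure ⟨x, List.mem_range.1 hx, rfl⟩, by
          rw [← FiFour.act_word, FiFour.word_singleton]⟩) _ i hi
    exact ⟨1, one_mem _, h, hh, by rw [one_mul]; exact e⟩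
  have hmid : ∀ i, Checks.midPts.testBit i = true → P i := fun i hi =>
    spreadN_pred hstep 2 hhub i (by rwa [Nat.eq_of_beq_eq_true Checks.mid_eq])
  obtain ⟨b, hb, h, hh, e⟩ := spreadN_pred hstep 4 hmid _ (by rwa [Nat.eq_of_beq_eq_true Checks.far_eq])
  have hbfix : act b 3 = 3 := by
    have hle : Subgroup.closure (gg '' {x | x ∈ bLetters}) ≤
        (MulAction.stabilizer (Equiv.Perm ℕ) (3 : ℕ)).comap act := by
      rw [Subgroup.closure_le]
      rintro _ ⟨x, hx, rfl⟩
      exact k_fix_letter hx
    exact hle hb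
  have hbtop : b ∈ hTop := by
    refine (Subgroup.closure_le _).2 ?_ hb
    rintro _ ⟨x, hx, rfl⟩
    exact FiFour.gg_mem ((show ∀ y ∈ bLetters, y ∈ FiFour.hLetters by decide) x hx)
  have h1 : gg 1 ∈ Subgroup.closure (gg '' {x | x < 9}) := Subgroup.subset_closure ⟨1, by decide, rfl⟩
  obtain ⟨a, ha, b', hb', eb⟩ : ∃ a ∈ kFix, ∃ b' ∈ Subgroup.closure (gg '' {x | x < 9}), b = iota a * b' := by
    obtain ⟨v, rfl | rfl⟩ := FiFour.hTop_elem hbtop
    · exact ⟨v, hbfix, 1, one_mem _, (mul_one _).symm⟩
    · have e1 : iota (FiThree.gg 1) * gg 1 = gg 11 := by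
        rw [FiFour.iota_gg (by decide), mul_assoc, ← FiFour.l_comm (by decide), ← mul_assoc, FiFour.gg_sq, one_mul]
      refine ⟨v * FiThree.gg 1, ?_, gg 1, h1, by rw [map_mul, mul_assoc, e1]⟩
      rw [map_mul, Equiv.Perm.mul_apply, l_three] at hbfix
      rw [mem_kFix, map_mul, map_mul, Equiv.Perm.mul_apply, iota_gg_three (by decide), hbfix]
  obtain ⟨m, hm, hform⟩ := hub_form (mul_mem hb' hh)
  rw [eb, mul_assoc] at e
  obtain ⟨m', hm', e'⟩ : ∃ m' ∈ FiThree.hSub, act (iota (a * m')) 3 = act (iota u) 3 := by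
    rcases hform with hf | hf
    · exact ⟨m, hm, by rw [map_mul, ← hf, e]⟩
    · refine ⟨m * FiThree.gg 1, mul_mem hm (FiThree.gg_mem_h (by decide)), ?_⟩
      rw [← e, hf]
      simp only [map_mul, Equiv.Perm.mul_apply, l_three, iota_gg_three (show 1 ∈ bLetters by decide)]
  refine ⟨a, ha, m', hm', (a * m')⁻¹ * u, ?_, by group⟩
  rw [mem_kFix, map_mul, map_mul, Equiv.Perm.mul_apply, ← e', ← Equiv.Perm.mul_apply, ← map_mul, ← map_mul iota,
    inv_mul_cancel, map_one, map_one]
  rfl

end CfsgLib.Recog.FiM24
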