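import Cfsg.Agent.Lib.Recog.FiM24.Frame
import Cfsg.Agent.Lib.Recog.FiM24.FarFix

set_option autoImplicit false
set_option maxRecDepth 20000

/-!
A member far from the chart's member in standard position: its common neighbours with that member are the 3240
transpositions of two orbits of the nine letters, and it is determined up to the conjugation by that member
(owner: helper13).
-/

namespace CfsgLib.Recog.FiM24

open Cfsg CfsgLib.ThreeTrans CfsgLib.Recog.FiM22.Factor
open CfsgLib.Recog.FiM22Two (im_mem_set exists_common_nb)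
open CfsgLib.Recog.FiThree (gg zz)
open CfsgLib.Recog.FiTypes (tr tr_mem tr_conj exists_tr tr_zero gg_eq_tr lp)
open CfsgLib.Recog.FiFour (bLetters tW)
open CfsgLib.Recog.BitPerm (orbitSet_sub closed_bits)

attribute [local instance] FiThree.finite_fi23'

universe u

variable {G : Type u} [Group G] [Finite G] {D : Set G}

/-- The common neighbours of a non-commuting pair have the order of the section at least. -/
theorem pomega_six (h : IsOfTypeM24 G D) (S : RankThree.Setting D) {x y : G} (hx : x ∈ D) (hy : y ∈ D)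
    (hxy : ¬ Commute x y) : 29713078886400 ∣ Nat.card ↥(Subgroup.closure (nb D x ∩ nb D y)) := by
  haveI : Fact (Nat.Prime 3) := ⟨Nat.prime_three⟩
  obtain ⟨-, d, hd, c, hc, hdc, -, N, hNn, ⟨φ⟩, ⟨φ'⟩⟩ := h
  obtain ⟨g, g1, g2⟩ := exists_pair_conj S hx hy hxy hd hc hdc
  have himg : (MulAut.conj g).toMonoidHom '' (nb D x ∩ nb D y) = nb D d ∩ nb D c := by
    ext w
    constructor
    · rintro ⟨z, hz, rfl⟩
      exact ⟨g1 ▸ conj_mem_nb S.grp.2.1 g hz.1, g2 ▸ conj_mem_nb S.grp.2.1 g hz.2⟩
    · intro hw
      refine ⟨g⁻¹ * w * g, ⟨?_, ?_⟩, conj_cancel g w⟩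
      · have := conj_mem_nb S.grp.2.1 g⁻¹ hw.1
        rwa [inv_inv, ← g1, show g⁻¹ * (g * x * g⁻¹) * g = x by group] at this
      · have := conj_mem_nb S.grp.2.1 g⁻¹ hw.2
        rwa [inv_inv, ← g2, show g⁻¹ * (g * y * g⁻¹) * g = y by group] at this
  have e := Nat.card_congr (((Subgroup.closure (nb D x ∩ nb D y)).equivMapOfInjective (MulAut.conj g).toMonoidHom
    (MulAut.conj g).injective).trans (MulEquiv.subgroupCongr (by rw [MonoidHom.map_closure, himg]))).toEquiv
  rw [e]
  have hcard := CfsgLib.Classical.Quad.card_POmega_plus (F := ZMod 3) (q := 3) (ZMod.card 3) 4 le_rfl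
  norm_num [Finset.prod_range_succ] at hcard
  have hN : Nat.card N = 4952179814400 := by rw [Nat.card_congr φ.toEquiv]; omega
  have hi : N.index = 6 := by
    rw [Subgroup.index_eq_card]
    exact (Nat.card_congr φ'.toEquiv).trans (by rw [Nat.card_perm, Nat.card_fin]; rfl)
  have h6 := Subgroup.card_mul_index N
  rw [hN, hi] at h6
  have hq := Subgroup.card_quotient_dvd_card (s := Subgroup.center ↥(Subgroup.closure (nb D d ∩ nb D c)))
  refine dvd_trans ?_ hq
  exact dvd_of_eq (show 29713078886400 = _ by rw [← h6])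

/-- The points of the transpositions commuting with both. -/
noncomputable def commonPts : ℕ := Nat.lor Checks.smallOrb Checks.midOrb

theorem cases_pt {c : ℕ} (hc : c < 31671) :
    commonPts.testBit c = true ∨ Checks.outOrb.testBit c = true := by
  have h : (Nat.lor commonPts Checks.outOrb).testBit c = true := by
    rw [commonPts, Nat.eq_of_beq_eq_true Checks.cover, Nat.testBit_two_pow_sub_one, decide_eq_true hc]
  change (commonPts ||| Checks.outOrb).testBit c = true at h
  rwa [Nat.testBit_or, Bool.or_eq_true] at h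

theorem out_not_common {c : ℕ} (h : commonPts.testBit c = true) : Checks.outOrb.testBit c = false := by
  have e : (commonPts &&& Checks.outOrb).testBit c = (0 : ℕ).testBit c :=
    congrArg (fun n => n.testBit c) (Nat.eq_of_beq_eq_true Checks.out_free)
  rw [Nat.testBit_and, h, Nat.zero_testBit, Bool.true_and] at e
  exact e

theorem orbit_nine {b r c : ℕ} (h : (BitPerm.orbitSet FiThree.net Checks.bWords b r).testBit c = true) :
    ∃ u ∈ nine, FiThree.act u b = c := by
  obtain ⟨g, ⟨u, hu, rfl⟩, e⟩ := orbitSet_sub FiThree.acts.valid (K := nine.map FiThree.act) (fun w hw => by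
    obtain ⟨x, hx, rfl⟩ := List.mem_map.1 hw
    exact ⟨gg x, Subgroup.subset_closure ⟨x, hx, rfl⟩, by rw [← FiThree.act_word, FiThree.word_singleton]⟩) _ c h
  exact ⟨u, hu, e⟩

theorem zz_mem_nine : zz ∈ nine :=
  SporBound.mem_letterSub (show ∀ x ∈ FiThree.zW, x ∈ bLetters by decide +kernel)

namespace Chart

variable {d : G} (C : Chart D d)
include C

theorem up_conj {s t : Spor.Fi23} (hs : s ∈ FiThree.trans) (ht : t ∈ FiThree.trans) :
    C.up (s * t * s⁻¹) = C.up s * C.up t * (C.up s)⁻¹ := by
  refine C.up_eq (Model.conj_mem_trans ht s) (C.conj_nb (C.up_nb hs).2.2.symm (C.up_nb ht)) ?_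
  rw [map_mul, map_mul, map_inv, ← C.im_up hs, ← C.im_up ht]
  rfl

/-- Two members far from `d` with the same commuting among the neighbours differ at most by `d`. -/
theorem pair_of_common {y y' r : G} (hy : y ∈ D) (hy' : y' ∈ D) (hdy : ¬ Commute d y) (hdy' : ¬ Commute d y')
    (hr : r ∈ nb D d) (hry : Commute r y) (hry' : Commute r y')
    (hsame : ∀ t ∈ nb D d, Commute y t → Commute y' t) : y' = y ∨ y' = d * y * d := by
  have hD := C.sec.setting.grp
  obtain ⟨k, hk⟩ := class_trans C.sec.setting.cls hr.1 C.mem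
  have hin : ∀ {z : G}, z ∈ D → Commute r z → z ≠ r → k * z * k⁻¹ ∈ nb D d := fun {z} hz hc hne =>
    ⟨hD.2.1 k z hz, fun h => hne (mul_left_cancel (mul_right_cancel (h.trans hk.symm))),
      by rw [← hk]; exact commute_conj_iff.2 hc⟩
  have hp := hin C.mem hr.2.2.symm hr.2.1.symm
  have hq := hin hy hry fun h => hdy (h ▸ hr.2.2)
  have hz := hin hy' hry' fun h => hdy' (h ▸ hr.2.2)
  have key := C.fibre23 (im_mem_set hp) (im_mem_set hq)
    (fun h => hdy (commute_conj_iff.1 ((C.comm_iff hp hq).1 h))) (im_mem_set hz)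
    (fun h => hdy' (commute_conj_iff.1 ((C.comm_iff hp hz).1 h))) ?_
  · rcases key with h | h
    · exact Or.inl (mul_left_cancel (mul_right_cancel (C.inj hz hq h)))
    · refine Or.inr ?_
      have hpk : Commute (k * d * k⁻¹) d := hp.2.2.symm
      have hin' : k * d * k⁻¹ * (k * y * k⁻¹) * (k * d * k⁻¹)⁻¹ ∈ nb D d := C.conj_nb hpk hq
      have e := C.inj hz hin' (h.trans (by rfl))
      refine mul_left_cancel (mul_right_cancel (e.trans ?_) : k * y' = k * (d * y * d))
      rw [show k * d * k⁻¹ * (k * y * k⁻¹) * (k * d * k⁻¹)⁻¹ = k * (d * y * d⁻¹) * k⁻¹ by group,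
        inv_eq C.set3 C.mem]
  · rintro w ⟨⟨w', hw'⟩, hm, rfl⟩ hne hc hqw
    have hw : w' ∈ nb D d := hm
    change im hw ≠ im hp at hne
    change Commute (im hp) (im hw) at hc
    change Commute (im hq) (im hw) at hqw
    show Commute (im hz) (im hw)
    rw [C.comm_iff hz hw]
    rw [C.comm_iff hp hw] at hc
    rw [C.comm_iff hq hw] at hqw
    set t := k⁻¹ * w' * k with ht'
    have hkt : k * t * k⁻¹ = w' := conj_cancel k w'
    have ht : t ∈ nb D d := ⟨by simpa using hD.2.1 k⁻¹ w' hw.1, fun h => hne (by congr 1; simp [← hkt, h]), by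
      rw [← commute_conj_iff (g := k), hkt]; exact hc⟩
    rw [← hkt, commute_conj_iff]
    exact hsame t ht (by rw [← commute_conj_iff (g := k), hkt]; exact hqw)

end Chart

/-- A member in standard position far from the chart's member. -/
structure Far {d : G} (C : Chart D d) (k : G) : Prop where
  mem : k ∈ D
  far : ¬ Commute d k
  z : Commute k (C.up zz)
  comm : ∀ x ∈ bLetters, Commute k (C.up (gg x))
  notA : ¬ Commute k (C.up (gg 0))

namespace Far

variable {d k : G} {C : Chart D d} (F : Far C k)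
include F

theorem conj_comm {u : Spor.Fi23} (hu : u ∈ nine) {c : ℕ} (hc : c < 31671) :
    Commute k (C.up (tr (FiThree.act u c))) ↔ Commute k (C.up (tr c)) := by
  rw [← tr_conj u hc]
  have key : ∀ x ∈ bLetters, ∀ {t : Spor.Fi23}, t ∈ FiThree.trans → Commute k (C.up t) →
      Commute k (C.up (gg x * t * (gg x)⁻¹)) := fun x hx t ht h => by
    rw [C.up_conj (Model.gg_mem_trans ((show ∀ y ∈ bLetters, y < 10 by decide) x hx)) ht]
    exact ((F.comm x hx).mul_right h).mul_right (F.comm x hx).inv_right
  have hiff : ∀ {t : Spor.Fi23}, t ∈ FiThree.trans →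
      (Commute k (C.up (u * t * u⁻¹)) ↔ Commute k (C.up t)) := by
    induction hu using Subgroup.closure_induction with
    | mem _ hx =>
      obtain ⟨x, hx, rfl⟩ := hx
      intro t ht
      refine ⟨fun h => ?_, key x hx ht⟩
      have h2 := key x hx (Model.conj_mem_trans ht _) h
      have hsq : gg x * gg x = 1 := FiThree.gg_sq x
      rwa [show gg x * (gg x * t * (gg x)⁻¹) * (gg x)⁻¹ = (gg x * gg x) * t * (gg x * gg x)⁻¹ by group,
        hsq, one_mul, inv_one, mul_one] at h2
    | one => intro t _; rw [one_mul, inv_one, mul_one]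
    | mul a b _ _ ia ib =>
      intro t ht
      rw [show a * b * t * (a * b)⁻¹ = a * (b * t * b⁻¹) * a⁻¹ by group]
      exact (ia (Model.conj_mem_trans ht b)).trans (ib ht)
    | inv a _ ia =>
      intro t ht
      have h := ia (Model.conj_mem_trans ht a⁻¹)
      rw [show a * (a⁻¹ * t * a⁻¹⁻¹) * a⁻¹ = t by group] at h
      exact h.symm
  exact hiff (tr_mem hc)

theorem out_far {c : ℕ} (hc : Checks.outOrb.testBit c = true) : ¬ Commute k (C.up (tr c)) := by
  obtain ⟨u, hu, rfl⟩ := orbit_nine hc
  rw [F.conj_comm hu (by norm_num), show tr 11589 = gg 0 from (gg_eq_tr (x := 0) (by norm_num)).symm]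
  exact F.notA

theorem small_near {c : ℕ} (hc : Checks.smallOrb.testBit c = true) : Commute k (C.up (tr c)) := by
  obtain ⟨u, hu, rfl⟩ := orbit_nine hc
  rw [F.conj_comm hu (by norm_num), tr_zero]
  exact F.z

theorem mid_near (h : IsOfTypeM24 G D) : Commute k (C.up (tr 23115)) := by
  by_contra hno
  set L := Subgroup.closure (nb D d ∩ nb D k) with hL
  have hLH : L ≤ Subgroup.closure (nb D d) := Subgroup.closure_mono Set.inter_subset_left
  let ψ : L →* Spor.Fi23 := C.iso.symm.toMonoidHom.comp ((QuotientGroup.mk' _).comp (Subgroup.inclusion hLH))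
  have hrange : ψ.range ≤ nine := by
    have hcl : Subgroup.closure {x : L | (x : G) ∈ nb D d ∩ nb D k} = ⊤ := Subgroup.closure_closure_coe_preimage
    rw [MonoidHom.range_eq_map, ← hcl, MonoidHom.map_closure, Subgroup.closure_le]
    rintro _ ⟨⟨w, hw⟩, hwm, rfl⟩
    obtain ⟨t, ht, e⟩ := C.exists_up hwm.1
    have htk : Commute k (C.up t) := by rw [e]; exact hwm.2.2.2
    have ee : ψ ⟨w, hw⟩ = t := by
      show C.iso.symm _ = t
      rw [MulEquiv.symm_apply_eq, ← C.im_up ht]
      simp only [e]
      rfl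
    rw [SetLike.mem_coe, ee]
    obtain ⟨c, hc, rfl⟩ := exists_tr ht
    rcases cases_pt hc with hm | ho
    · rw [commonPts] at hm
      change (Checks.smallOrb ||| Checks.midOrb).testBit c = true at hm
      rw [Nat.testBit_or, Bool.or_eq_true] at hm
      rcases hm with hs | hm
      · obtain ⟨u, hu, rfl⟩ := orbit_nine hs
        rw [← tr_conj u (by norm_num), tr_zero]
        exact mul_mem (mul_mem hu zz_mem_nine) (inv_mem hu)
      · obtain ⟨u, hu, rfl⟩ := orbit_nine hm
        exact absurd ((F.conj_comm hu (by norm_num)).1 htk) hno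
    · exact absurd htk (F.out_far ho)
  have hker : Nat.card ψ.ker ≤ 2 := by
    let f : ψ.ker → ({1, d} : Set G) := fun x => ⟨((x : L) : G), by
      have h1 : (QuotientGroup.mk (Subgroup.inclusion hLH (x : L)) : SecG D d) = 1 :=
        (C.iso.symm.map_eq_one_iff).1 x.2
      exact (C.one_or_self h1).imp id fun e => e⟩
    refine (Nat.card_le_card_of_injective f fun a b e => Subtype.ext (Subtype.ext (congrArg Subtype.val e :))).trans ?_
    rw [Nat.card_coe_set_eq]
    exact (Set.ncard_insert_le _ _).trans (by simp)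
  have hdiv := Nat.le_of_dvd Nat.card_pos (pomega_six h C.sec.setting C.mem F.mem F.far)
  rw [← hL, ← Subgroup.card_mul_index ψ.ker, Subgroup.index_ker] at hdiv
  have h2 := (Subgroup.card_le_of_le hrange).trans card_nine_le
  have := hdiv.trans (Nat.mul_le_mul hker h2)
  omega

/-- The transpositions whose neighbour commutes with the far member. -/
theorem comm_iff (h : IsOfTypeM24 G D) {c : ℕ} (hc : c < 31671) :
    Commute k (C.up (tr c)) ↔ commonPts.testBit c = true := by
  constructor
  · intro hk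
    rcases cases_pt hc with hm | ho
    exacts [hm, absurd hk (F.out_far ho)]
  · intro hm
    rw [commonPts] at hm
    change (Checks.smallOrb ||| Checks.midOrb).testBit c = true at hm
    rw [Nat.testBit_or, Bool.or_eq_true] at hm
    rcases hm with hs | hm
    · exact F.small_near hs
    · obtain ⟨u, hu, rfl⟩ := orbit_nine hm
      exact (F.conj_comm hu (by norm_num)).2 (F.mid_near h)

theorem unique (h : IsOfTypeM24 G D) {k' : G} (F' : Far C k') : k' = k ∨ k' = d * k * d := by
  refine C.pair_of_common F.mem F'.mem F.far F'.far (C.up_nb Model.zz_mem_trans) F.z.symm F'.z.symm fun t ht hkt => ?_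
  obtain ⟨s, hs, rfl⟩ := C.exists_up ht
  obtain ⟨c, hc, rfl⟩ := exists_tr hs
  exact (F'.comm_iff h hc).2 ((F.comm_iff h hc).1 hkt)

/-- A member in standard position lies in a flip: an element exchanging the chart's member with the central one, the
letter j with it, and reversing the other letters. -/
theorem exists_flip (h : IsOfTypeM24 G D) : ∃ f : G, f * d * f⁻¹ = C.up zz ∧ f * C.up zz * f⁻¹ = d ∧
    f * C.up (gg 9) * f⁻¹ = k ∧ ∀ x < 9, f * C.up (gg x) * f⁻¹ = C.up (gg (SporBound.Fi22Aut.rv x)) := by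
  obtain ⟨r, f, h1, h2, h3, h4, h5, fd, fp, fj, fy⟩ := exists_flipped h C
  rcases F.unique h (⟨h1, h2, h3, h4, h5⟩ : Far C r) with e | e
  · exact ⟨f, fd, fp, fj.trans e, fy⟩
  · have hd := mul_self C.set3 C.mem
    have hdi := inv_eq C.set3 C.mem
    have cj : ∀ z : G, d * f * z * (d * f)⁻¹ = d * (f * z * f⁻¹) * d⁻¹ := fun z => by group
    have fix : ∀ {t : Spor.Fi23}, t ∈ FiThree.trans → d * C.up t * d⁻¹ = C.up t := fun ht => by
      rw [(C.up_nb ht).2.2.eq, mul_inv_cancel_right]
    refine ⟨d * f, ?_, ?_, ?_, fun x hx => ?_⟩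
    · rw [cj, fd, fix Model.zz_mem_trans]
    · rw [cj, fp, mul_inv_cancel_right]
    · rw [cj, fj, e, hdi, show d * (d * k * d) * d = (d * d) * k * (d * d) by group, hd, one_mul, mul_one]
    · rw [cj, fy x hx, fix (Model.gg_mem_trans ((show ∀ y < 9, SporBound.Fi22Aut.rv y < 10 by decide) x hx))]

end Far

end CfsgLib.Recog.FiM24
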