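import Cfsg.Agent.Lib.Recog.FiFour.CheckPoints
import Cfsg.Agent.Lib.Recog.FiFour.Data
import Cfsg.Agent.Lib.Recog.FiM24.PtsHub
import Cfsg.Agent.Lib.Recog.FiM24.PtsMid
import Cfsg.Agent.Lib.Recog.FiM24.PtsFar

set_option autoImplicit false
set_option maxRecDepth 20000

/-!
Data on 306936 points: the members far from the last letter, reached from one of them by the letters away from j and
then by the letters that commute with it (owner: helper13).
-/

namespace CfsgLib.Recog.FiM24.Checks

open CfsgLib.Recog.BitPerm
open CfsgLib.Recog.FiFour (net)

/-- The letters away from j. -/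
def hubWords : List (List ℕ) := (List.range 9).map fun x => [x]

/-- The letters commuting with the far member. -/
def downWords : List (List ℕ) := [9, 8, 7, 6, 5, 4, 3, 2, 1].map fun x => [x]

/-- The letters fixing the base. -/
def baseWords : List (List ℕ) := [0, 1, 2, 3, 4, 5, 6, 7, 8, 9, 11].map fun x => [x]

/-- Repeated spreading. -/
noncomputable def spreadN (gens : List (List ℕ)) (rounds S : ℕ) : ℕ :=
  Nat.rec S (fun _ T => spread net gens T) rounds

end CfsgLib.Recog.FiM24.Checks
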