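import Cfsg.Agent.Lib.Recog.FiM24.Letters
import Cfsg.Agent.Lib.Recog.FiM22.Factor.Lists
import Cfsg.Agent.Lib.Recog.SporBound.Fi22Aut.Main

set_option autoImplicit false
set_option maxRecDepth 20000

/-!
Nine transpositions of Fi23 around the central member that satisfy the relators of Fi22 modulo it are the letters in
one of the two orders, up to conjugation (owner: helper13).
-/

namespace CfsgLib.Recog.FiM24.Model

open Cfsg CfsgLib.Recog.FiThree CfsgLib.Recog.SporBound CfsgLib.ThreeTrans.CosetIndex
open CfsgLib.Recog.SporBound.Fi22Group (a)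
open CfsgLib.Recog.SporBound.Fi22Aut (rv)
open CfsgLib.Recog.FiM22.Factor (NoRel)

attribute [local instance] finite_fi23'

theorem gens_eq : gens22 = Cfsg.Agent.S1687.gens := by decide

theorem rel22_lt : (relWords Spor.Fi22.edges Spor.Fi22.extra gens22).all (fun w => w.all (fun x => Nat.blt x 9)) = true := by
  decide +kernel

theorem rel22_word : (relWords Spor.Fi22.edges Spor.Fi22.extra gens22).all (fun w =>
    (relWords Spor.Fi23.edges Spor.Fi23.extra gens).contains w || w == zW) = true := by decide +kernel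

/-- The nine in one of two orders. -/
theorem letters_unique (h3 : NoRel FiThree.trans 3) {v : ℕ → Spor.Fi23}
    (hv : ∀ x < 9, v x ∈ FiThree.trans ∧ v x ≠ zz ∧ Commute zz (v x))
    (hrel : ∀ w ∈ relWords Spor.Fi22.edges Spor.Fi22.extra gens22, (w.map v).prod = 1 ∨ (w.map v).prod = zz) :
    ∃ u : Spor.Fi23, u * zz * u⁻¹ = zz ∧
      ((∀ x < 9, v x = u * gg x * u⁻¹) ∨ ∀ x < 9, v x = u * gg (rv x) * u⁻¹) := by
  classical
  haveI := Fi22Group.finite_fi22
  have hmem : ∀ x < 9, v x ∈ hSub := fun x hx => by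
    rw [← centralizer_zz, Subgroup.mem_centralizer_iff]
    rintro y rfl
    exact (hv x hx).2.2.eq
  have hzeq : ∀ n : hSub, (n : Spor.Fi23) = 1 ∨ (n : Spor.Fi23) = zz → n ∈ Subgroup.center hSub := by
    rintro n (e | e)
    · rw [show n = 1 from Subtype.ext e]; exact one_mem _
    · rw [show n = zH from Subtype.ext e]; exact zH_central
  let V : ℕ → hSub ⧸ Subgroup.center hSub := fun x =>
    if h : x < 9 then QuotientGroup.mk' _ ⟨v x, hmem x h⟩ else 1
  have hsq : ∀ x, V x * V x = 1 := by
    intro x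
    simp only [V]
    split_ifs with h
    · obtain ⟨g, hg⟩ := mem_trans.1 (hv x h).1
      rw [← map_mul, show (⟨v x, hmem x h⟩ * ⟨v x, hmem x h⟩ : hSub) = 1 from Subtype.ext (by
        show v x * v x = 1
        rw [hg, show g * zz * g⁻¹ * (g * zz * g⁻¹) = g * (zz * zz) * g⁻¹ by group, zz_sq, mul_one, mul_inv_cancel]),
        map_one]
    · exact one_mul _
  have hVw : ∀ w : List ℕ, (∀ x ∈ w, x < 9) → ∃ n : hSub, (n : Spor.Fi23) = (w.map v).prod ∧
      (w.map V).prod = QuotientGroup.mk' _ n := by
    intro w hw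
    induction w with
    | nil => exact ⟨1, rfl, by rw [List.map_nil, List.prod_nil, map_one]⟩
    | cons x w ih =>
      obtain ⟨n, hn, hn'⟩ := ih fun y hy => hw y (List.mem_cons_of_mem _ hy)
      have hx := hw x List.mem_cons_self
      refine ⟨⟨v x, hmem x hx⟩ * n, by simp [hn], ?_⟩
      rw [List.map_cons, List.prod_cons, hn', map_mul]
      simp only [V, dif_pos hx]
  let f : Spor.Fi22 →* hSub ⧸ Subgroup.center hSub :=
    PresentedGroup.toGroup (f := fun y => V (gens22.idxOf y)) (by
      intro r hr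
      rw [hom_eq_prod gens22 _ V (fun y => FreeGroup.lift_apply_of) hsq]
      have hw : letters gens22 r ∈ relWords Spor.Fi22.edges Spor.Fi22.extra gens22 := by
        rw [relWords, List.mem_append]
        rcases hr with ⟨x, hx, y, hy, rfl⟩ | hr
        · exact Or.inl (List.mem_flatMap.2 ⟨x, hx, List.mem_map.2 ⟨y, hy, rfl⟩⟩)
        · exact Or.inr (List.mem_map.2 ⟨r, hr, rfl⟩)
      obtain ⟨n, hn, hn'⟩ := hVw _ fun x hx => by
        simpa using List.all_eq_true.1 (List.all_eq_true.1 rel22_lt _ hw) x hx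
      rw [hn']
      exact (QuotientGroup.eq_one_iff n).2 (hzeq n (hn ▸ hrel _ hw)))
  have ha : ∀ x < 9, a x = PresentedGroup.of (gens22.getD x .a) := by
    intro x hx
    have hx' : x < gens22.length := hx
    rw [Fi22Group.a, gen, ← gens_eq, List.getElem?_eq_getElem hx', List.getD_eq_getElem _ _ hx']
    rfl
  have hidx : ∀ x < 9, gens22.idxOf (gens22.getD x .a) = x := by decide
  have hf : ∀ x < 9, f (a x) = V x := fun x hx => by
    rw [ha x hx]
    exact (PresentedGroup.toGroup.of _).trans (congrArg V (hidx x hx))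
  have hF : ∀ x < 9, fromFi22 (a x) = toQuot x := fun x hx => by
    rw [ha x hx]
    exact (PresentedGroup.toGroup.of _).trans (congrArg toQuot (hidx x hx))
  haveI : Finite (hSub ⧸ Subgroup.center hSub) := inferInstance
  have hcard : Nat.card Spor.Fi22 = Nat.card (hSub ⧸ Subgroup.center hSub) := by
    obtain ⟨e⟩ := fi22_equiv
    exact (Nat.card_congr e.toEquiv).symm
  have hbF : Function.Bijective fromFi22 :=
    (Nat.bijective_iff_surjective_and_card _).2 ⟨fromFi22_surjective, hcard⟩
  have hinj : Function.Injective f := by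
    haveI : IsSimpleGroup Spor.Fi22 := Fi22Group.isSimple
    refine (MonoidHom.ker_eq_bot_iff f).1 ((f.normal_ker.eq_bot_or_eq_top).resolve_right fun h => ?_)
    have h0 := MonoidHom.mem_ker.1 (h ▸ Subgroup.mem_top (a 0) : a 0 ∈ f.ker)
    rw [hf 0 (by norm_num)] at h0
    simp only [V, dif_pos (by norm_num : (0 : ℕ) < 9)] at h0
    rcases center_h _ ((QuotientGroup.eq_one_iff _).1 h0) with e | e
    · obtain ⟨g, hg⟩ := mem_trans.1 (hv 0 (by norm_num)).1
      have e' : v 0 = 1 := congrArg Subtype.val e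
      have hz : zz = 1 := by
        calc zz = g⁻¹ * (g * zz * g⁻¹) * g := by group
          _ = 1 := by rw [← hg, e']; group
      have := orderOf_zz
      rw [hz, orderOf_one] at this
      omega
    · exact (hv 0 (by norm_num)).2.1 (congrArg Subtype.val e)
  let Ef := MulEquiv.ofBijective f ((Nat.bijective_iff_injective_and_card f).2 ⟨hinj, hcard⟩)
  let EF := MulEquiv.ofBijective fromFi22 hbF
  let α : MulAut Spor.Fi22 := Ef.trans EF.symm
  have hα : ∀ x < 9, fromFi22 (α (a x)) = V x := fun x hx => by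
    show EF (EF.symm (Ef (a x))) = _
    rw [MulEquiv.apply_symm_apply]
    exact hf x hx
  obtain ⟨σ, hσ⟩ := Fi22Aut.exists_sigma
  have hidx2 : (Cfsg.Inn Spor.Fi22).index = 2 := by rw [Subgroup.index_eq_card]; exact Fi22Aut.card_out
  have hrv : ∀ x < 9, rv x < 9 ∧ rv (rv x) = x := by decide
  obtain ⟨h, π, hπ, hπα⟩ : ∃ (h : Spor.Fi22) (π : ℕ → ℕ), ((∀ x, π x = x) ∨ ∀ x, π x = rv x) ∧
      ∀ x < 9, α (a x) = h * a (π x) * h⁻¹ := by
    by_cases hin : α ∈ Cfsg.Inn Spor.Fi22
    · obtain ⟨h, hh⟩ := hin
      exact ⟨h, id, Or.inl fun _ => rfl, fun x _ => by rw [← hh]; rfl⟩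
    · obtain ⟨h, hh⟩ : α * σ ∈ Cfsg.Inn Spor.Fi22 := (Subgroup.mul_mem_iff_of_index_two hidx2).2
        (iff_of_false hin (Fi22Aut.sigma_not_inner hσ))
      refine ⟨h, rv, Or.inr fun _ => rfl, fun x hx => ?_⟩
      have h1 : α (σ (a (rv x))) = h * a (rv x) * h⁻¹ := by
        rw [← MulAut.mul_apply, ← hh]; rfl
      rwa [hσ _ (hrv x hx).1, (hrv x hx).2] at h1
  obtain ⟨u, hu⟩ := QuotientGroup.mk'_surjective (Subgroup.center hSub) (fromFi22 h)
  have hu0 : (u : Spor.Fi23) * zz * (u : Spor.Fi23)⁻¹ = zz := by rw [zz_comm u.2, mul_inv_cancel_right]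
  have hπ9 : ∀ x < 9, π x < 9 := fun x hx => by
    rcases hπ with e | e <;> rw [e]
    exacts [hx, (hrv x hx).1]
  have key : ∀ x < 9, v x = u * gg (π x) * (u : Spor.Fi23)⁻¹ := by
    intro x hx
    have hm : π x ∈ hLetters := (show ∀ y < 9, y ∈ hLetters by decide) _ (hπ9 x hx)
    have h1 := congrArg fromFi22 (hπα x hx)
    rw [hα x hx, map_mul, map_mul, map_inv, hF _ (hπ9 x hx), ← hu, toQuot, dif_pos hm, ← map_inv, ← map_mul,
      ← map_mul] at h1
    simp only [V, dif_pos hx] at h1
    have h2 := (QuotientGroup.eq (s := Subgroup.center hSub)).1 h1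
    set t' := (u : Spor.Fi23) * gg (π x) * (u : Spor.Fi23)⁻¹ with ht'
    have ht : t' ∈ FiThree.trans := conj_mem_trans (gg_mem_trans (by have := hπ9 x hx; omega)) u
    rcases center_h _ h2 with e | e
    · have e' : (v x)⁻¹ * t' = 1 := congrArg Subtype.val e
      exact inv_mul_eq_one.1 e'
    exfalso
    have e' : (v x)⁻¹ * t' = zz := congrArg Subtype.val e
    obtain ⟨g, hg⟩ := mem_trans.1 (hv x hx).1
    have hinv : (v x)⁻¹ = v x := inv_eq_of_mul_eq_one_right (by
      rw [hg, show g * zz * g⁻¹ * (g * zz * g⁻¹) = g * (zz * zz) * g⁻¹ by group, zz_sq, mul_one, mul_inv_cancel])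
    rw [hinv] at e'
    have hc : Commute zz t' := by
      rw [← hu0, ht']
      exact commute_conj (gg_comm_zz (hπ9 x hx)).symm
    have hvt : Commute (v x) t' := by
      show v x * t' = t' * v x
      calc v x * t' = zz := e'
        _ = v x * (v x * t') * v x := by
          rw [e']
          calc zz = zz * (v x * v x) := by
                rw [show v x * v x = 1 by conv_lhs => arg 1; rw [← hinv]
                                          exact inv_mul_cancel _, mul_one]
            _ = v x * zz * v x := by rw [← mul_assoc, (hv x hx).2.2.eq]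
        _ = t' * v x := by rw [← mul_assoc (v x) (v x), show v x * v x = 1 by
              conv_lhs => arg 1; rw [← hinv]
              exact inv_mul_cancel _, one_mul]
    refine h3 [v x, t', zz] ⟨?_, ?_, ?_⟩ rfl ?_
    · simp only [List.nodup_cons, List.mem_cons, List.not_mem_nil, or_false, not_or, List.nodup_nil, and_true,
        not_false_eq_true]
      refine ⟨⟨fun eq => ?_, (hv x hx).2.1⟩, fun eq => ?_⟩
      · rw [eq, show t' * t' = 1 by rw [← eq]; conv_lhs => arg 1; rw [← hinv]
                                    exact inv_mul_cancel _] at e'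
        have := orderOf_zz
        rw [← e', orderOf_one] at this
        omega
      · exact zz_ne_gg (by have := hπ9 x hx; omega) (mul_left_cancel (mul_right_cancel (hu0.trans (eq.symm.trans ht'))))
    · intro z hz
      simp only [List.mem_cons, List.not_mem_nil, or_false] at hz
      rcases hz with rfl | rfl | rfl
      exacts [(hv x hx).1, ht, zz_mem_trans]
    · intro y hy z hz
      simp only [List.mem_cons, List.not_mem_nil, or_false] at hy hz
      rcases hy with rfl | rfl | rfl <;> rcases hz with rfl | rfl | rfl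
      exacts [Commute.refl _, hvt, (hv x hx).2.2.symm, hvt.symm, Commute.refl _, hc.symm, (hv x hx).2.2, hc,
        Commute.refl _]
    · simp only [List.prod_cons, List.prod_nil, mul_one]
      rw [← mul_assoc, e', zz_sq]
  refine ⟨u, hu0, ?_⟩
  rcases hπ with e | e
  · exact Or.inl fun x hx => by rw [key x hx, e]
  · exact Or.inr fun x hx => by rw [key x hx, e]
where
  commute_conj {g b c : Spor.Fi23} (h : Commute b c) : Commute (g * b * g⁻¹) (g * c * g⁻¹) := by
    have := h.map (MulAut.conj g).toMonoidHom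
    exact this

end CfsgLib.Recog.FiM24.Model
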