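import Cfsg.Agent.Lib.Recog.FiM24.Chart
import Cfsg.Agent.Lib.Recog.FiM24.TwoFrames

set_option autoImplicit false
set_option maxRecDepth 20000

/-!
A frame in a group of type M(24): a member far from the chart's member that commutes with the central member and with
the letters from b to j (owner: helper13).

Two members p, d in each other's charts give two orders of the nine common letters; were they the same, a far member
would commute with the seven letters whose power is d.
-/

namespace CfsgLib.Recog.FiM24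

open Cfsg CfsgLib.ThreeTrans CfsgLib.Recog.FiM22.Factor
open CfsgLib.Recog.FiM22Two (im_mem_set)
open CfsgLib.Recog.FiThree (gg zz word)
open CfsgLib.Recog.SporBound.Fi22Aut (rv)
open CfsgLib.ThreeTrans.CosetIndex (relWords)

universe u

variable {G : Type u} [Group G] [Finite G] {D : Set G}

/-- The simple group in the common neighbourhood divides its order. -/
theorem pomega_dvd (h : IsOfTypeM24 G D) (S : RankThree.Setting D) {x y : G} (hx : x ∈ D) (hy : y ∈ D)
    (hxy : ¬ Commute x y) : 4952179814400 ∣ Nat.card ↥(Subgroup.closure (nb D x ∩ nb D y)) := by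
  haveI : Fact (Nat.Prime 3) := ⟨Nat.prime_three⟩
  obtain ⟨-, d, hd, c, hc, hdc, -, N, -, ⟨φ⟩, -⟩ := h
  obtain ⟨g, g1, g2⟩ := exists_pair_conj S hx hy hxy hd hc hdc
  have himg : (MulAut.conj g).toMonoidHom '' (nb D x ∩ nb D y) = nb D d ∩ nb D c := by
    ext w
    constructor
    · rintro ⟨z, hz, rfl⟩
      exact ⟨g1 ▸ conj_mem_nb S.grp.2.1 g hz.1, g2 ▸ conj_mem_nb S.grp.2.1 g hz.2⟩
    · intro hw
      refine ⟨g⁻¹ * w * g, ⟨?_, ?_⟩, conj_cancel g w⟩
      · have := conj_mem_nb S.grp.2.1 g⁻¹ hw.1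
        rwa [inv_inv, ← g1, show g⁻¹ * (g * x * g⁻¹) * g = x by group] at this
      · have := conj_mem_nb S.grp.2.1 g⁻¹ hw.2
        rwa [inv_inv, ← g2, show g⁻¹ * (g * y * g⁻¹) * g = y by group] at this
  have e := Nat.card_congr (((Subgroup.closure (nb D x ∩ nb D y)).equivMapOfInjective (MulAut.conj g).toMonoidHom
    (MulAut.conj g).injective).trans (MulEquiv.subgroupCongr (by rw [MonoidHom.map_closure, himg]))).toEquiv
  rw [e]
  have hcard := CfsgLib.Classical.Quad.card_POmega_plus (F := ZMod 3) (q := 3) (ZMod.card 3) 4 le_rfl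
  norm_num [Finset.prod_range_succ] at hcard
  have hN : Nat.card N = 4952179814400 := by rw [Nat.card_congr φ.toEquiv]; omega
  exact hN ▸ N.card_subgroup_dvd_card.trans (Subgroup.card_quotient_dvd_card _)

/-- A chart with a far member in standard position. -/
structure Frame (D : Set G) where
  d : G
  chart : Chart D d
  k : G
  k_mem : k ∈ D
  k_far : ¬ Commute d k
  k_z : Commute k (chart.up zz)
  k_comm : ∀ x ∈ [1, 2, 3, 4, 5, 6, 7, 8, 9], Commute k (chart.up (gg x))
  k_a : ¬ Commute k (chart.up (gg 0))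

namespace Chart

variable {d : G} (C : Chart D d)
include C

theorem noRel3 : NoRel FiThree.trans 3 := by
  intro l hl hlen hprod
  have h := m23_noRel C.sec.type ⟨C.sec.grp, C.sec.prim.1⟩ (le_refl 3) (by norm_num)
  refine h (l.map C.iso) ⟨hl.nodup.map C.iso.injective, ?_, ?_⟩ (by simpa using hlen)
    (by rw [← map_list_prod, hprod, map_one])
  · intro x hx
    obtain ⟨t, ht, rfl⟩ := List.mem_map.1 hx
    exact C.image ▸ ⟨t, hl.mem t ht, rfl⟩
  · intro x hx y hy
    obtain ⟨s, hs, rfl⟩ := List.mem_map.1 hx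
    obtain ⟨t, ht, rfl⟩ := List.mem_map.1 hy
    exact (hl.comm s hs t ht).map C.iso.toMonoidHom

theorem lists_rep (ts : List Spor.Fi23) (hts : ∀ t ∈ ts, t ∈ FiThree.trans) :
    ∃ k : ↥(Subgroup.closure (nb D d)), (k : G) = (ts.map C.up).prod ∧
      (QuotientGroup.mk k : SecG D d) = C.iso ts.prod := by
  induction ts with
  | nil => exact ⟨1, rfl, by rw [List.prod_nil, map_one]; rfl⟩
  | cons t ts ih =>
    obtain ⟨k, hk, hk'⟩ := ih fun y hy => hts y (List.mem_cons_of_mem _ hy)
    have ht := hts t List.mem_cons_self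
    refine ⟨⟨C.up t, Subgroup.subset_closure (C.up_nb ht)⟩ * k, by simp [hk], ?_⟩
    rw [QuotientGroup.mk_mul, hk', List.prod_cons, map_mul, ← C.im_up ht]
    rfl

end Chart

/-- Around the chart's member: a far member in standard position and an element exchanging the chart's member with
the central one and reversing the letters. -/
theorem exists_flipped (h : IsOfTypeM24 G D) {d : G} (C : Chart D d) :
    ∃ r f : G, r ∈ D ∧ ¬ Commute d r ∧ Commute r (C.up zz) ∧
      (∀ x ∈ [1, 2, 3, 4, 5, 6, 7, 8, 9], Commute r (C.up (gg x))) ∧ ¬ Commute r (C.up (gg 0)) ∧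
      f * d * f⁻¹ = C.up zz ∧ f * C.up zz * f⁻¹ = d ∧ f * C.up (gg 9) * f⁻¹ = r ∧
      ∀ x < 9, f * C.up (gg x) * f⁻¹ = C.up (gg (rv x)) := by
  classical
  have hD := C.sec.setting.grp
  have S := C.sec.setting
  have hdD := C.mem
  have hset := C.set3
  have h9 : ∀ x < 9, x < 10 := fun x hx => by omega
  have tz := Model.zz_mem_trans
  have tg : ∀ {x}, x < 10 → gg x ∈ FiThree.trans := fun hx => Model.gg_mem_trans hx
  set p := C.up zz with hp
  have hpn : p ∈ nb D d := C.up_nb tz
  obtain ⟨g₁, hg₁⟩ := class_trans S.cls hpn.1 hdD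
  have he : g₁ * d * g₁⁻¹ ∈ nb D d := ⟨hD.2.1 g₁ d hdD,
    fun e => hpn.2.1 (mul_left_cancel (mul_right_cancel (hg₁.trans e.symm))), by
      have := (commute_conj_iff (g := g₁)).2 hpn.2.2.symm
      rwa [hg₁] at this⟩
  obtain ⟨k₁, hk₁, hk₁e⟩ := S.commute_transitive hdD he.1 he.2.1 he.2.2 hpn.1 hpn.2.1 hpn.2.2
  set g := k₁ * g₁ with hg
  have gd : g * d * g⁻¹ = p := by rw [hg, ← hk₁e]; group
  have gp : g * p * g⁻¹ = d := by
    rw [hg, show k₁ * g₁ * p * (k₁ * g₁)⁻¹ = k₁ * (g₁ * p * g₁⁻¹) * k₁⁻¹ by group, hg₁, hk₁.eq, mul_inv_cancel_right]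
  -- the moved letters
  have hYp : ∀ x < 9, Commute (C.up (gg x)) p := fun x hx => (C.up_comm (tg (h9 x hx)) tz).2 (Model.gg_comm_zz hx)
  have hYne : ∀ x < 9, C.up (gg x) ≠ p := fun x hx e =>
    Model.zz_ne_gg (h9 x hx) (C.up_inj (tg (h9 x hx)) tz e).symm
  have hZ : ∀ x < 9, g * C.up (gg x) * g⁻¹ ∈ nb D d := fun x hx => ⟨hD.2.1 g _ (C.up_mem (tg (h9 x hx))),
    fun e => hYne x hx (mul_left_cancel (mul_right_cancel (e.trans gp.symm))), by
      have := (commute_conj_iff (g := g)).2 (hYp x hx).symm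
      rwa [gp] at this⟩
  have hex : ∀ x, ∃ t, x < 9 → t ∈ FiThree.trans ∧ C.up t = g * C.up (gg x) * g⁻¹ := fun x => by
    by_cases hx : x < 9
    · obtain ⟨t, ht, e⟩ := C.exists_up (hZ x hx)
      exact ⟨t, fun _ => ⟨ht, e⟩⟩
    · exact ⟨1, fun h => absurd h hx⟩
  choose v hv using hex
  have hvz : ∀ x < 9, v x ∈ FiThree.trans ∧ v x ≠ zz ∧ Commute zz (v x) := fun x hx => by
    obtain ⟨ht, e⟩ := hv x hx
    refine ⟨ht, fun eq => ?_, (C.up_comm tz ht).1 ?_⟩
    · rw [eq, ← hp, ← gd] at e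
      exact (C.up_nb (tg (h9 x hx))).2.1 (mul_left_cancel (mul_right_cancel e.symm))
    · rw [e, ← hp, ← gd]
      exact commute_conj_iff.2 (C.up_nb (tg (h9 x hx))).2.2
  -- relators
  have hdc : (QuotientGroup.mk ⟨d, C.mem_closure⟩ : SecG D d) = 1 :=
    (QuotientGroup.eq_one_iff _).2 (Subgroup.mem_center_iff.2 fun z => Subtype.ext (C.closure_comm z.2).eq.symm)
  have hpc : (QuotientGroup.mk ⟨p, Subgroup.subset_closure hpn⟩ : SecG D d) = C.iso zz := C.im_up tz
  have hrel : ∀ w ∈ relWords Spor.Fi22.edges Spor.Fi22.extra FiThree.gens22,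
      (w.map v).prod = 1 ∨ (w.map v).prod = zz := by
    intro w hw
    have hlt : ∀ x ∈ w, x < 9 := fun x hx => by
      simpa using List.all_eq_true.1 (List.all_eq_true.1 Model.rel22_lt w hw) x hx
    obtain ⟨k, hk, hk'⟩ := C.upW_rep fun x hx => h9 x (hlt x hx)
    have hval : (k : G) = 1 ∨ (k : G) = d ∨ (k : G) = p ∨ (k : G) = d * p := by
      have hc := List.all_eq_true.1 Model.rel22_word w hw
      simp only [Bool.or_eq_true, List.contains_iff_mem, beq_iff_eq] at hc
      rcases hc with hc | hc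
      · rw [show word w = 1 from SporBound.relWord_one FiThree.nodes hc, map_one] at hk'
        rcases C.one_or_self hk' with e | e
        exacts [Or.inl e, Or.inr (Or.inl e)]
      · subst hc
        have h1 : (QuotientGroup.mk (k * ⟨p, Subgroup.subset_closure hpn⟩) : SecG D d) = 1 := by
          rw [QuotientGroup.mk_mul, hk', hpc, ← map_mul, show word FiThree.zW * zz = 1 from FiThree.zz_sq, map_one]
        have hpp : p * p = 1 := mul_self hset hpn.1
        rcases C.one_or_self h1 with e | e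
        · refine Or.inr (Or.inr (Or.inl ?_))
          rw [show (k : G) = (k : G) * p * p by rw [mul_assoc, hpp, mul_one]]
          exact (congrArg (· * p) e).trans (one_mul p)
        · refine Or.inr (Or.inr (Or.inr ?_))
          rw [show (k : G) = (k : G) * p * p by rw [mul_assoc, hpp, mul_one]]
          exact congrArg (· * p) e
    obtain ⟨k', hk1, hk2⟩ := C.lists_rep (w.map v) (fun t ht => by
      obtain ⟨x, hx, rfl⟩ := List.mem_map.1 ht
      exact (hv x (hlt x hx)).1)
    have hkg : (k' : G) = g * (k : G) * g⁻¹ := by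
      have hlist : List.map (fun y => C.up (v y)) w = List.map (⇑(MulAut.conj g)) (List.map (fun y => C.up (gg y)) w) := by
        rw [List.map_map]
        exact List.map_congr_left fun x hx => (hv x (hlt x hx)).2
      rw [hk1, List.map_map, hk, Chart.upW, ← MulAut.conj_apply, map_list_prod]
      exact congrArg List.prod hlist
    rcases hval with e | e | e | e
    · left
      rw [e, mul_one, mul_inv_cancel] at hkg
      rw [show k' = 1 from Subtype.ext hkg] at hk2
      exact (C.iso.map_eq_one_iff).1 hk2.symm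
    · right
      rw [e, gd] at hkg
      rw [show k' = ⟨p, Subgroup.subset_closure hpn⟩ from Subtype.ext hkg, hpc] at hk2
      exact (C.iso.injective hk2).symm
    · left
      rw [e, gp] at hkg
      rw [show k' = ⟨d, C.mem_closure⟩ from Subtype.ext hkg, hdc] at hk2
      exact (C.iso.map_eq_one_iff).1 hk2.symm
    · right
      rw [e, show g * (d * p) * g⁻¹ = g * d * g⁻¹ * (g * p * g⁻¹) by group, gd, gp] at hkg
      rw [show k' = ⟨p, Subgroup.subset_closure hpn⟩ * ⟨d, C.mem_closure⟩ from Subtype.ext hkg,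
        QuotientGroup.mk_mul, hdc, mul_one, hpc] at hk2
      exact (C.iso.injective hk2).symm
  obtain ⟨u, hu, hcase⟩ := Model.letters_unique C.noRel3 hvz hrel
  obtain ⟨k₂, hk₂, hk₂c⟩ := C.exists_rep u
  have hkd : Commute (k₂ : G) d := (C.closure_comm k₂.2).symm
  have hkp : (k₂ : G) * p * (k₂ : G)⁻¹ = p := by rw [hp, hk₂c _ tz, hu]
  have hconjcomm : ∀ {a b : G}, Commute a b → ∀ c : G, Commute (c * a * c⁻¹) (c * b * c⁻¹) :=
    fun hab c => commute_conj_iff.2 hab
  set j₀ := C.up (gg 9) with hj₀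
  set r := (k₂ : G)⁻¹ * (g * j₀ * g⁻¹) * k₂ with hr
  have hrk : (k₂ : G) * r * (k₂ : G)⁻¹ = g * j₀ * g⁻¹ := by rw [hr]; group
  have hrD : r ∈ D := by
    have := hD.2.1 (k₂ : G)⁻¹ _ (hD.2.1 g _ (C.up_mem (tg (show 9 < 10 by norm_num))))
    rwa [inv_inv] at this
  have hjp : ¬ Commute p j₀ := fun hc => Model.zz_not_comm_j ((C.up_comm tz (tg (by norm_num))).1 hc)
  have hrd : ¬ Commute d r := fun hc => hjp (by
    have h1 := hconjcomm hc (k₂ : G)
    rw [hkd.eq, mul_inv_cancel_right, hrk, ← gp, commute_conj_iff] at h1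
    exact h1)
  have hrp : Commute r p := by
    rw [← commute_conj_iff (g := (k₂ : G)), hrk, hkp, ← gd, commute_conj_iff]
    exact (C.up_nb (tg (by norm_num))).2.2.symm
  have hrY : ∀ (π : ℕ → ℕ), (∀ x < 9, π x < 9) → (∀ x < 9, v x = u * gg (π x) * u⁻¹) →
      ∀ x ∈ [0, 1, 2, 3, 4, 5, 7, 8], Commute r (C.up (gg (π x))) := by
    intro π hπ hvπ x hx
    have hx9 : x < 9 := (show ∀ y ∈ [0, 1, 2, 3, 4, 5, 7, 8], y < 9 by decide) x hx
    rw [← commute_conj_iff (g := (k₂ : G)), hrk, hk₂c _ (tg (h9 _ (hπ x hx9))), ← hvπ x hx9, (hv x hx9).2,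
      commute_conj_iff, hj₀, C.up_comm (tg (by norm_num)) (tg (h9 x hx9)),
      Model.gg_comm_iff (by norm_num) (h9 x hx9)]
    exact (show ∀ y ∈ [0, 1, 2, 3, 4, 5, 7, 8], Model.edge 9 y = false by decide) x hx
  have hseven : (∀ x ∈ ESeven.sevenLetters, Commute r (C.up (gg x))) → False := fun hall => by
    refine hrd ?_
    have : Commute r (C.upW ESeven.ninth) := by
      refine Commute.list_prod_right _ _ fun z hz => ?_
      obtain ⟨x, hx, rfl⟩ := List.mem_map.1 hz
      exact hall x ((show ∀ y ∈ ESeven.ninth, y ∈ ESeven.sevenLetters by decide +kernel) x hx)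
    rw [C.seven] at this
    exact this.symm
  have hrev2 : ∀ x < 9, v x = u * gg (rv x) * u⁻¹ := by
    rcases hcase with hc | hc
    · exact absurd (fun x hx => hrY id (fun _ h => h) hc x
        ((show ∀ y ∈ ESeven.sevenLetters, y ∈ [0, 1, 2, 3, 4, 5, 7, 8] by decide) x hx)) hseven
    · exact hc
  have hrev : ∀ x ∈ Model.mid, Commute r (C.up (gg x)) := by
    rcases hcase with hc | hc
    · exact absurd (fun x hx => hrY id (fun _ h => h) hc x
        ((show ∀ y ∈ ESeven.sevenLetters, y ∈ [0, 1, 2, 3, 4, 5, 7, 8] by decide) x hx)) hseven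
    · intro x hx
      have hx' := (show ∀ y ∈ Model.mid, rv y ∈ [0, 1, 2, 3, 4, 5, 7, 8] ∧ rv (rv y) = y by decide) x hx
      have := hrY rv (by decide) hc (rv x) hx'.1
      rwa [hx'.2] at this
  have hra : ¬ Commute r (C.up (gg 0)) := fun hc => hseven fun x hx => by
    rcases (show ∀ y ∈ ESeven.sevenLetters, y = 0 ∨ y ∈ Model.mid by decide) x hx with rfl | hm
    exacts [hc, hrev x hm]
  -- the common neighbours of d and r, read in the chart
  set T : Set Spor.Fi23 := {t | t ∈ FiThree.trans ∧ Commute r (C.up t)} with hT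
  have hTconj : ∀ s ∈ T, ∀ t ∈ T, s * t * s⁻¹ ∈ T := by
    intro s hs t ht
    refine ⟨Model.conj_mem_trans ht.1 s, ?_⟩
    have e : C.up (s * t * s⁻¹) = C.up s * C.up t * (C.up s)⁻¹ := by
      refine C.up_eq (Model.conj_mem_trans ht.1 s) (C.conj_nb (C.up_nb hs.1).2.2.symm (C.up_nb ht.1)) ?_
      rw [map_mul, map_mul, map_inv, ← C.im_up hs.1, ← C.im_up ht.1]
      rfl
    rw [e]
    exact (hs.2.mul_right ht.2).mul_right hs.2.inv_right
  have hfar : ∃ t ∈ T, ¬ Commute zz t := by
    by_contra hno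
    push Not at hno
    set L := Subgroup.closure (nb D d ∩ nb D r) with hL
    have hLH : L ≤ Subgroup.closure (nb D d) := Subgroup.closure_mono Set.inter_subset_left
    let ψ : L →* Spor.Fi23 := C.iso.symm.toMonoidHom.comp
      ((QuotientGroup.mk' _).comp (Subgroup.inclusion hLH))
    have hrange : ψ.range ≤ FiThree.hSub := by
      have hcl : Subgroup.closure {x : L | (x : G) ∈ nb D d ∩ nb D r} = ⊤ := Subgroup.closure_closure_coe_preimage
      rw [MonoidHom.range_eq_map, ← hcl, MonoidHom.map_closure, Subgroup.closure_le]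
      rintro _ ⟨⟨w, hw⟩, hwm, rfl⟩
      obtain ⟨t, ht, e⟩ := C.exists_up hwm.1
      have htT : t ∈ T := ⟨ht, by rw [e]; exact hwm.2.2.2⟩
      have ee : ψ ⟨w, hw⟩ = t := by
        show C.iso.symm _ = t
        rw [MulEquiv.symm_apply_eq, ← C.im_up ht]
        simp only [e]
        rfl
      rw [SetLike.mem_coe, ee, ← FiThree.centralizer_zz, Subgroup.mem_centralizer_iff]
      rintro y rfl
      exact (hno t htT).eq
    have hker : Nat.card ψ.ker ≤ 2 := by
      let F : ψ.ker → ({1, d} : Set G) := fun x => ⟨((x : L) : G), by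
        have h1 : (QuotientGroup.mk (Subgroup.inclusion hLH (x : L)) : SecG D d) = 1 :=
          (C.iso.symm.map_eq_one_iff).1 x.2
        exact (C.one_or_self h1).imp id fun e => e⟩
      refine (Nat.card_le_card_of_injective F fun a b e => Subtype.ext (Subtype.ext (congrArg Subtype.val e :))).trans ?_
      rw [Nat.card_coe_set_eq]
      exact (Set.ncard_insert_le _ _).trans (by simp)
    have hdiv := pomega_dvd h S hdD hrD hrd
    rw [← hL, ← Subgroup.card_mul_index ψ.ker, Subgroup.index_ker] at hdiv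
    have h2 := (Subgroup.card_dvd_of_le hrange)
    rw [FiThree.card_hSub] at h2
    have hk2 : Nat.card ψ.ker ∣ 2 := by
      have : 0 < Nat.card ψ.ker := Nat.card_pos
      interval_cases Nat.card ψ.ker <;> decide
    exact absurd (hdiv.trans (Nat.mul_dvd_mul hk2 h2)) (by decide +kernel)
  obtain ⟨t, ht, htfar⟩ := hfar
  have hj := Model.far_closed (T := T) (fun _ hx => hx.1) hTconj ⟨tz, hrp⟩
    (fun x hx => ⟨tg (h9 x ((show ∀ y ∈ Model.mid, y < 9 by decide) x hx)), hrev x hx⟩) ht htfar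
  have hcj : ∀ z : G, (k₂ : G)⁻¹ * g * z * ((k₂ : G)⁻¹ * g)⁻¹ = (k₂ : G)⁻¹ * (g * z * g⁻¹) * k₂ := fun z => by group
  have hback : ∀ {z w : G}, (k₂ : G) * z * (k₂ : G)⁻¹ = w → (k₂ : G)⁻¹ * w * k₂ = z := fun h => by rw [← h]; group
  refine ⟨r, (k₂ : G)⁻¹ * g, hrD, hrd, hrp, fun x hx => ?_, hra, ?_, ?_, ?_, fun x hx => ?_⟩
  · rcases (show ∀ y ∈ [1, 2, 3, 4, 5, 6, 7, 8, 9], y ∈ Model.mid ∨ y = 9 by decide) x hx with hm | rfl
    exacts [hrev x hm, hj.2]
  · rw [hcj, gd]; exact hback hkp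
  · rw [hcj, gp]; exact hback (by rw [hkd.eq, mul_inv_cancel_right])
  · rw [hcj, hr]
  · rw [hcj, ← (hv x hx).2]
    refine hback ?_
    have hrv : rv x < 9 := (show ∀ y < 9, rv y < 9 by decide) x hx
    rw [hk₂c _ (tg (h9 _ hrv)), hrev2 x hx]

theorem exists_frame (hD : IsThreeTranspositionGroup D) (hprim : IsPrimitiveUnderConj D) (h : IsOfTypeM24 G D) :
    Nonempty (Frame D) := by
  obtain ⟨d, ⟨C⟩⟩ := exists_chart hD hprim h
  obtain ⟨r, -, h1, h2, h3, h4, h5, -⟩ := exists_flipped h C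
  exact ⟨⟨d, C, r, h1, h2, h3, h4, h5⟩⟩

end CfsgLib.Recog.FiM24
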