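import Cfsg.Agent.Lib.Recog.FiThree.Cover

set_option autoImplicit false
set_option maxRecDepth 20000

/-!
The transpositions of Fi23 around a commuting and around a non-commuting pair (owner: helper13).
-/

namespace CfsgLib.Recog.FiM24.Model

open Cfsg CfsgLib.Recog.BitPerm CfsgLib.Recog.FiThree CfsgLib.ThreeTrans.CosetIndex

/-- The eight letters from b to i. -/
def mid : List ℕ := [1, 2, 3, 4, 5, 6, 7, 8]

/-- Words generating the group of the eight letters and the central word. -/
def midWords : List (List ℕ) := zW :: mid.map fun x => [x]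

/-- Orbit representatives on the far points: point, word to it, rounds for the orbit and for the base orbit. -/
def farReps : List (ℕ × List ℕ × ℕ × ℕ) := [
  (1, [9], 10, 2),
  (11, [0, 1, 2, 3, 4, 5, 6, 9], 9, 7),
  (23115, [0, 1, 2, 3, 7, 8, 4, 3, 7, 5, 6, 4, 5, 2, 3, 4, 1, 2, 3, 7, 8, 5, 3, 4, 1, 2, 3, 7, 0, 1, 2, 3, 4, 5, 6, 9], 5, 4)]

/-- The word of the transposition of a representative. -/
def repT (w : List ℕ) : List ℕ := w ++ zW ++ w.reverse

/-- The union of the orbits. -/
noncomputable def farUnion : ℕ :=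
  List.rec (motive := fun _ => ℕ) 0 (fun r _ ih => Nat.lor (orbitSet net midWords r.1 r.2.2.1) ih) farReps

theorem far_cover : Nat.beq farUnion orb2 = true := by decide +kernel

theorem rep_maps : (farReps.all fun r => mapsOK net r.2.1 0 r.1) = true := by decide +kernel

theorem rep_reach : (farReps.all fun r => (orbitSet net (repT r.2.1 :: midWords) 0 r.2.2.2).testBit pJ) = true := by
  decide +kernel

attribute [local instance] finite_fi23'

theorem zz_mem_trans : zz ∈ trans := mem_trans.2 ⟨1, by group⟩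

theorem gg_mem_trans {x : ℕ} (hx : x < 10) : gg x ∈ trans := mem_trans.2 (gg_conj hx)

theorem conj_mem_trans {t : Spor.Fi23} (h : t ∈ trans) (u : Spor.Fi23) : u * t * u⁻¹ ∈ trans := by
  obtain ⟨g, rfl⟩ := mem_trans.1 h
  exact mem_trans.2 ⟨u * g, by group⟩

theorem conj_zz_eq {g g' : Spor.Fi23} (h : pt g = pt g') : g * zz * g⁻¹ = g' * zz * g'⁻¹ := by
  have e := zz_comm (pt_eq_iff.1 h)
  calc g * zz * g⁻¹ = g * (zz * (g⁻¹ * g')) * (g⁻¹ * g')⁻¹ * g⁻¹ := by group
    _ = _ := by rw [← e]; group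

/-- A member commuting with the central member lies over the base or the first orbit. -/
theorem orb2_of_far {g : Spor.Fi23} (h : ¬ Commute zz (g * zz * g⁻¹)) : orb2.testBit (pt g) = true := by
  rcases cover (pt_lt g) with h0 | h1 | h2
  · refine absurd ?_ h
    rw [conj_zz_eq (g' := 1) (by rw [h0, pt, map_one]; rfl)]
    simp [Commute, SemiconjBy]
  · obtain ⟨k, hk, hh⟩ := inDouble_one h1
    refine absurd ?_ h
    rw [conj_zz_eq (pt_eq_iff.2 hh).symm, show k * word ga * zz * (k * word ga)⁻¹ =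
      k * (word ga * zz * (word ga)⁻¹) * k⁻¹ by group, ga_zz]
    exact (zz_comm (mul_mem (mul_mem hk (gg_mem_h (by decide))) (inv_mem hk))).symm
  · exact h2

theorem zz_not_comm_j : ¬ Commute zz (gg 9) := by
  intro h
  have hj : gg 9 ∈ hSub := by
    rw [← centralizer_zz, Subgroup.mem_centralizer_iff]
    rintro y rfl
    exact h.eq
  obtain ⟨g, hg⟩ := nontrivial_fi23
  refine hg ((show hSub = ⊤ from eq_top_of_gg fun x hx => ?_) ▸ Subgroup.mem_top g)
  by_cases hx9 : x ∈ hLetters
  · exact gg_mem_h hx9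
  · have : x = 9 := by
      simp only [hLetters, List.mem_cons, List.not_mem_nil, or_false] at hx9
      omega
    rw [this]; exact hj

/-- Non-commuting pairs are carried to the standard one. -/
theorem far_pair {s t : Spor.Fi23} (hs : s ∈ trans) (ht : t ∈ trans) (h : ¬ Commute s t) :
    ∃ k : Spor.Fi23, k * zz * k⁻¹ = s ∧ k * gg 9 * k⁻¹ = t := by
  obtain ⟨a, rfl⟩ := mem_trans.1 hs
  obtain ⟨b, rfl⟩ := mem_trans.1 ht
  have hfar : ¬ Commute zz (a⁻¹ * b * zz * (a⁻¹ * b)⁻¹) := fun hc => h (by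
    have := hc.map (MulAut.conj a).toMonoidHom
    rwa [MulEquiv.coe_toMonoidHom, MulAut.conj_apply, MulAut.conj_apply,
      show a * (a⁻¹ * b * zz * (a⁻¹ * b)⁻¹) * a⁻¹ = b * zz * b⁻¹ by group] at this)
  obtain ⟨k, hk, hh⟩ := inDouble_two (orb2_of_far hfar)
  refine ⟨a * k, ?_, ?_⟩
  · rw [show a * k * zz * (a * k)⁻¹ = a * (k * zz * k⁻¹) * a⁻¹ by group, zz_comm hk, mul_inv_cancel_right]
  · rw [← gj_zz]
    have e := conj_zz_eq (pt_eq_iff.2 hh)
    calc a * k * (word gj * zz * (word gj)⁻¹) * (a * k)⁻¹ = a * (k * word gj * zz * (k * word gj)⁻¹) * a⁻¹ := by group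
      _ = _ := by rw [e]; group

/-- A far member commuting with the eight letters away from g. -/
theorem far_eight {t : Spor.Fi23} (ht : t ∈ trans) (hfar : ¬ Commute zz t)
    (h : ∀ x ∈ [0, 1, 2, 3, 4, 5, 7, 8], Commute (gg x) t) : t = gg 9 ∨ t = zz * gg 9 * zz⁻¹ := by
  obtain ⟨g, rfl⟩ := mem_trans.1 ht
  have hfix : ∀ w ∈ lWords, wordPerm net w (pt g) = pt g := by
    intro w hw
    obtain ⟨x, hx, rfl⟩ : ∃ x ∈ [0, 1, 2, 3, 4, 5, 7, 8], w = [x] := by
      simp only [lWords, List.mem_cons, List.not_mem_nil, or_false] at hw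
      rcases hw with rfl | rfl | rfl | rfl | rfl | rfl | rfl | rfl <;> exact ⟨_, by decide, rfl⟩
    have e := (h x hx).eq
    rw [← act_word, word_singleton, ← Equiv.Perm.mul_apply, ← map_mul]
    refine (pt_eq_iff.2 ?_ : pt (gg x * g) = pt g)
    rw [← centralizer_zz, Subgroup.mem_centralizer_iff]
    rintro y rfl
    calc zz * ((gg x * g)⁻¹ * g) = g⁻¹ * ((g * zz * g⁻¹) * (gg x)⁻¹) * g := by group
      _ = g⁻¹ * ((gg x)⁻¹ * (g * zz * g⁻¹)) * g := by
          rw [inv_eq_of_mul_eq_one_right (gg_sq x), e]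
      _ = _ := by group
  rcases fixed_in_orb2 (orb2_of_far hfar) hfix with e | e
  · exact Or.inl (by rw [conj_zz_eq (g' := word gj) (e.trans pt_gj.symm), gj_zz])
  · refine Or.inr ?_
    rw [conj_zz_eq (g' := zz * word gj) (e.trans ?_), ← gj_zz]
    · group
    · rw [pt, map_mul, Equiv.Perm.mul_apply, show act (word gj) 0 = pJ from pt_gj]
      exact (act_maps z_maps).symm

/-- A set of members closed under its own conjugations that has the eight letters, the central member and a far
member has the member of j. -/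
theorem far_closed {T : Set Spor.Fi23} (hT : T ⊆ trans) (hconj : ∀ s ∈ T, ∀ t ∈ T, s * t * s⁻¹ ∈ T)
    (hz : zz ∈ T) (hmid : ∀ x ∈ mid, gg x ∈ T) {t : Spor.Fi23} (ht : t ∈ T) (hfar : ¬ Commute zz t) :
    gg 9 ∈ T := by
  let Q : ℕ → Prop := fun c => ∀ g, pt g = c → g * zz * g⁻¹ ∈ T
  have hQs : ∀ s ∈ T, ∀ c, Q c → Q (act s c) := by
    intro s hs c hc g hg
    have hs' : s⁻¹ = s := by
      obtain ⟨a, rfl⟩ := mem_trans.1 (hT hs)
      rw [mul_inv_rev, mul_inv_rev, inv_inv, inv_eq_of_mul_eq_one_right zz_sq, mul_assoc]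
    have := hconj s hs _ (hc (s * g) (by
      rw [pt, map_mul, Equiv.Perm.mul_apply, show act g 0 = act s c from hg, ← Equiv.Perm.mul_apply, ← map_mul]
      conv_lhs => arg 1; arg 2; arg 1; rw [← hs']
      rw [inv_mul_cancel, map_one]; rfl))
    rwa [show s * (s * g * zz * (s * g)⁻¹) * s⁻¹ = (s * s) * (g * zz * g⁻¹) * (s * s)⁻¹ by group,
      show s * s = 1 by conv_lhs => arg 1; rw [← hs']
                        exact inv_mul_cancel s, one_mul, inv_one, mul_one] at this
  let K : Subgroup (Equiv.Perm ℕ) :=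
    { carrier := {p | ∀ c, Q c ↔ Q (p c)}
      mul_mem' := fun {p q} hp hq c => (hq c).trans (hp (q c))
      one_mem' := fun c => Iff.rfl
      inv_mem' := fun {p} hp c => by
        have := hp (p⁻¹ c)
        rw [← Equiv.Perm.mul_apply, mul_inv_cancel, Equiv.Perm.one_apply] at this
        exact this.symm }
  have hK : ∀ s ∈ T, act s ∈ K := fun s hs c => ⟨hQs s hs c, fun h => by
    have := hQs s hs _ h
    obtain ⟨a, ha⟩ := mem_trans.1 (hT hs)
    rwa [← Equiv.Perm.mul_apply, ← map_mul, ha, show a * zz * a⁻¹ * (a * zz * a⁻¹) = a * (zz * zz) * a⁻¹ by group,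
      zz_sq, mul_one, mul_inv_cancel, map_one] at this⟩
  have hmidK : ∀ w ∈ midWords, wordPerm net w ∈ K := by
    intro w hw
    rw [← act_word]
    rcases List.mem_cons.1 hw with rfl | hw
    · exact hK _ hz
    · obtain ⟨x, hx, rfl⟩ := List.mem_map.1 hw
      rw [word_singleton]; exact hK _ (hmid x hx)
  have hQ0 : Q 0 := fun g hg => by
    rw [conj_zz_eq (g' := 1) (hg.trans (by rw [pt, map_one]; rfl))]
    simpa using hz
  obtain ⟨g, rfl⟩ := mem_trans.1 (hT ht)
  have hQc : Q (pt g) := fun g' hg' => by rw [conj_zz_eq hg']; exact ht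
  have hin : farUnion.testBit (pt g) = true := by
    rw [Nat.eq_of_beq_eq_true far_cover]; exact orb2_of_far hfar
  have key : ∀ L : List (ℕ × List ℕ × ℕ × ℕ), (List.rec (motive := fun _ => ℕ) 0
      (fun r _ ih => Nat.lor (orbitSet net midWords r.1 r.2.2.1) ih) L : ℕ).testBit (pt g) = true →
      ∃ r ∈ L, (orbitSet net midWords r.1 r.2.2.1).testBit (pt g) = true := by
    intro L
    induction L with
    | nil =>
      intro h
      change (0 : ℕ).testBit (pt g) = true at h
      rw [Nat.zero_testBit] at h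
      exact absurd h Bool.false_ne_true
    | cons r L ih =>
      intro h
      change (orbitSet net midWords r.1 r.2.2.1 ||| _).testBit (pt g) = true at h
      rw [Nat.testBit_or, Bool.or_eq_true] at h
      rcases h with h | h
      · exact ⟨r, List.mem_cons_self, h⟩
      · obtain ⟨r', h', e⟩ := ih h
        exact ⟨r', List.mem_cons_of_mem _ h', e⟩
  obtain ⟨r, hr, hrc⟩ := key farReps hin
  obtain ⟨p, hp, hpc⟩ := orbitSet_sub acts.valid hmidK _ _ hrc
  have hQr : Q r.1 := (hp r.1).2 (by rw [hpc]; exact hQc)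
  have hrT : word (repT r.2.1) ∈ T := by
    have := hQr (word r.2.1) (act_maps (List.all_eq_true.1 rep_maps r hr))
    rwa [repT, word_append, word_append, word_reverse]
  obtain ⟨q, hq, hqc⟩ := orbitSet_sub acts.valid (K := K) (fun w hw => by
    rcases List.mem_cons.1 hw with rfl | hw
    · rw [← act_word]; exact hK _ hrT
    · exact hmidK w hw) _ _ (List.all_eq_true.1 rep_reach r hr)
  have hQJ : Q pJ := hqc ▸ (hq 0).1 hQ0
  rw [← gj_zz]
  exact hQJ _ pt_gj

end CfsgLib.Recog.FiM24.Model
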