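import Cfsg.Agent.Lib.Recog.FiM24.Identify
import Cfsg.Agent.Lib.Recog.FiM23.ReadOff
import Cfsg.Agent.Lib.Components.Quasisimple

set_option autoImplicit false
set_option maxRecDepth 20000
set_option linter.style.haveILetI false

/-!
Properties of the groups of type M(24) read off the identification with Fi24 (owner: helper13).
-/

namespace CfsgLib.Recog.FiM24

open Cfsg CfsgLib.ThreeTrans CfsgLib.Recog.FiM22.Factor
open CfsgLib.Recog.FiM22Two (im_mem_set)
open scoped commutatorElement

attribute [local instance] FiThree.finite_fi23' FiFour.finite_fi24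

universe u

variable {G : Type u} [Group G] [Finite G] {D : Set G}

theorem card_group24 (hD : IsThreeTranspositionGroup D) (hprim : IsPrimitiveUnderConj D) (h : IsOfTypeM24 G D) :
    Nat.card G = 2 * 1255205709190661721292800 := by
  obtain ⟨e, -⟩ := identify24 hD hprim h
  rw [← Nat.card_congr e.toEquiv, FiFour.card_fi24]

theorem card_class24 (hD : IsThreeTranspositionGroup D) (hprim : IsPrimitiveUnderConj D) (h : IsOfTypeM24 G D) :
    D.ncard = 306936 := by
  refine le_antisymm ?_ ?_
  · obtain ⟨T⟩ := exists_standard hD hprim h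
    refine T.stab_index_le.trans ?_
    set Y := (Subgroup.centralizer ({T.sys.L 10} : Set G)).comap T.sys.iota with hY
    have hle : kFix ≤ Y := fun v hv => Subgroup.mem_centralizer_singleton_iff.2 (T.sys.k_stab v hv).eq
    have h4 : 14856539443200 ≤ Nat.card kFix := by
      have hφ : ∀ l ∈ FiFour.sLevels, ∀ w ∈ l.gens,
          BitPerm.wordPerm FiThree.net w ∈ (FiThree.act.comp kFix.subtype).range := by
        intro l hl w hw
        have h := List.all_eq_true.1 Checks.words_fix w (List.mem_flatMap.2 ⟨l, hl, hw⟩)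
        simp only [Bool.or_eq_true, decide_eq_true_eq, Bool.and_eq_true] at h
        refine ⟨⟨FiThree.word w, ?_⟩, FiThree.act_word w⟩
        rcases h with rfl | ⟨h1, h2⟩
        · exact tW_kFix
        · exact word_kFix h1 (Nat.eq_of_beq_eq_true h2)
      have h := BitPerm.total_mul_ker_le_card FiThree.acts.valid _ hφ FiFour.s_chain
      rw [FiFour.s_total] at h
      exact (Nat.le_mul_of_pos_right _ Nat.card_pos).trans h
    have h5 := h4.trans (Subgroup.card_le_of_le hle)
    have h2 := Subgroup.card_mul_index Y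
    rw [FiThree.card_fi23] at h2
    have h6 : Y.index ≤ 275264 := by
      refine Nat.le_of_mul_le_mul_left ?_ (show 0 < 14856539443200 by decide +kernel)
      calc 14856539443200 * Y.index ≤ Nat.card Y * Y.index := Nat.mul_le_mul_right _ h5
        _ ≤ _ := by rw [h2]
    omega
  · obtain ⟨e, he⟩ := identify24 hD hprim h
    rw [← he, Set.ncard_image_of_injective _ e.injective]
    exact card_trans24

theorem exists_iso_at (hD : IsThreeTranspositionGroup D) (hprim : IsPrimitiveUnderConj D) (h : IsOfTypeM24 G D)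
    {d : G} (hd : d ∈ D) : ∃ e : Spor.Fi24 ≃* G, e '' FiTypes.D24 = D ∧ e (FiFour.gg 11) = d := by
  obtain ⟨e, he⟩ := identify24 hD hprim h
  have hl : e (FiFour.gg 11) ∈ D := he ▸ ⟨_, mem_conjugatesOf_self, rfl⟩
  obtain ⟨g, hg⟩ := hprim.1 _ hl d hd
  refine ⟨e.trans (MulAut.conj g), ?_, hg⟩
  rw [show (⇑(e.trans (MulAut.conj g)) : Spor.Fi24 → G) = (fun x => g * x * g⁻¹) ∘ e from rfl, Set.image_comp, he]
  refine Set.Subset.antisymm (fun x hx => ?_) fun x hx => ⟨g⁻¹ * x * g, ?_, by group⟩
  · obtain ⟨z, hz, rfl⟩ := hx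
    exact hD.2.1 g z hz
  · simpa using hD.2.1 g⁻¹ x hx

theorem centralizer24 (hD : IsThreeTranspositionGroup D) (hprim : IsPrimitiveUnderConj D) (h : IsOfTypeM24 G D)
    {d : G} (hd : d ∈ D) : Subgroup.closure (nb D d) = Subgroup.centralizer ({d} : Set G) := by
  obtain ⟨e, he, hed⟩ := exists_iso_at hD hprim h hd
  have hnb : e '' FiTypes.nbS FiTypes.D24 (FiFour.gg 11) = nb D d := by
    rw [← he, ← hed]
    exact (FiTypes.nbS_image (φ := e) (D := FiTypes.D24) (FiFour.gg 11)).symm
  rw [← hnb, show (⇑e : Spor.Fi24 → G) = ⇑e.toMonoidHom from rfl, ← MonoidHom.map_closure, FiTypes.closure_nb24,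
    ← FiTypes.centralizer_l]
  ext x
  rw [Subgroup.mem_map_equiv, Subgroup.mem_centralizer_singleton_iff, Subgroup.mem_centralizer_singleton_iff, ← hed]
  constructor
  · intro hc
    have := congrArg e hc
    rwa [map_mul, map_mul, e.apply_symm_apply] at this
  · intro hc
    refine e.injective ?_
    rw [map_mul, map_mul, e.apply_symm_apply, hc]

theorem layer_index24 (hD : IsThreeTranspositionGroup D) (hprim : IsPrimitiveUnderConj D) (h : IsOfTypeM24 G D) :
    (layer G).index = 2 := by
  obtain ⟨e, -⟩ := identify24 hD hprim h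
  set K := FiFour.parity.ker.map e.toMonoidHom with hK
  have hKc : commutator G = K := by
    rw [hK, ← FiFour.derived_eq, commutator_def, commutator_def, Subgroup.map_commutator,
      Subgroup.map_top_of_surjective _ e.surjective]
  have hne : ¬ IsMulCommutative FiFour.parity.ker := by
    intro hc
    haveI := FiFour.isSimple_even
    letI : CommGroup FiFour.parity.ker := { (inferInstance : Group FiFour.parity.ker) with
      mul_comm := fun a b => hc.is_comm.comm a b }
    have hp := IsSimpleGroup.prime_card (α := FiFour.parity.ker)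
    rw [FiFour.card_even] at hp
    norm_num at hp
  have hqs : IsQuasisimple K := by
    haveI := FiFour.isSimple_even
    exact (CfsgLib.Components.isQuasisimple_congr
      (FiFour.parity.ker.equivMapOfInjective _ e.injective)).1 (CfsgLib.Components.isQuasisimple_of_isSimpleGroup hne)
  have hKn : K.Normal := hKc ▸ inferInstance
  have hlayer : layer G = K := by
    refine le_antisymm (sSup_le fun L hL => ?_) (le_sSup ⟨hKn.isSubnormal, hqs⟩)
    rw [← CfsgLib.Components.IsQuasisimple.commutator_eq_self hL.2, ← hKc, commutator_def]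
    exact Subgroup.commutator_mono le_top le_top
  have h1 := Subgroup.card_mul_index K
  have h2 : Nat.card K = 1255205709190661721292800 := by
    rw [← Nat.card_congr (FiFour.parity.ker.equivMapOfInjective _ e.injective).toEquiv, FiFour.card_even]
  rw [h2, card_group24 hD hprim h, Nat.mul_comm 2] at h1
  rw [hlayer]
  exact Nat.eq_of_mul_eq_mul_left (show 0 < 1255205709190661721292800 by decide +kernel) h1

theorem width24 (hD : IsThreeTranspositionGroup D) (hprim : IsPrimitiveUnderConj D) (h : IsOfTypeM24 G D) :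
    commutingWidth D = 24 := by
  classical
  obtain ⟨d₀, ⟨C⟩⟩ := exists_chart hD hprim h
  have S := C.sec
  have hw := FiM23.width_of_type S.grp S.prim S.type
  have hset : ∀ q ∈ secSet D d₀, ∃ f, ∃ hf : f ∈ nb D d₀, im hf = q := by
    rintro _ ⟨⟨f, hf⟩, hm, rfl⟩
    exact ⟨f, hm, rfl⟩
  have hle : ∀ n ∈ {n : ℕ | ∃ E : Set G, E ⊆ D ∧ E.Finite ∧ (∀ a ∈ E, ∀ b ∈ E, Commute a b) ∧ E.ncard = n},
      n ≤ 24 := by
    rintro n ⟨E, hED, -, hcomm, rfl⟩
    rcases E.eq_empty_or_nonempty with rfl | ⟨d, hd⟩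
    · simp
    obtain ⟨k, hk⟩ := hprim.1 d (hED hd) d₀ C.mem
    have hin : ∀ x ∈ E \ {d}, k * x * k⁻¹ ∈ nb D d₀ := fun x hx =>
      ⟨hD.2.1 k x (hED hx.1), fun e => hx.2 (mul_left_cancel (mul_right_cancel (e.trans hk.symm))),
        hk ▸ commute_conj_iff.2 (hcomm d hd x hx.1)⟩
    let φ : G → SecG D d₀ := fun x => if hx : k * x * k⁻¹ ∈ nb D d₀ then im hx else 1
    have hφ : ∀ x (hx : x ∈ E \ {d}), φ x = im (hin x hx) := fun x hx => dif_pos (hin x hx)
    have hinj : Set.InjOn φ (E \ {d}) := fun x hx y hy e => by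
      rw [hφ x hx, hφ y hy] at e
      exact mul_left_cancel (mul_right_cancel (C.inj (hin x hx) (hin y hy) e))
    have h23 : (φ '' (E \ {d})).ncard ≤ 23 := by
      rw [← hw]
      refine le_csSup ⟨Nat.card (SecG D d₀), ?_⟩ ⟨_, ?_, Set.toFinite _, ?_, rfl⟩
      · rintro n ⟨F, -, -, -, rfl⟩
        exact Set.ncard_le_card F
      · rintro _ ⟨x, hx, rfl⟩
        rw [hφ x hx]; exact im_mem_set _
      · rintro _ ⟨x, hx, rfl⟩ _ ⟨y, hy, rfl⟩
        rw [hφ x hx, hφ y hy, C.comm_iff, commute_conj_iff]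
        exact hcomm x hx.1 y hy.1
    rw [hinj.ncard_image, Set.ncard_sdiff_singleton_of_mem hd] at h23
    omega
  have hmem : 24 ∈ {n : ℕ | ∃ E : Set G, E ⊆ D ∧ E.Finite ∧ (∀ a ∈ E, ∀ b ∈ E, Commute a b) ∧ E.ncard = n} := by
    have hin : commutingWidth (secSet D d₀) ∈ {n : ℕ | ∃ E : Set (SecG D d₀), E ⊆ secSet D d₀ ∧ E.Finite ∧
        (∀ a ∈ E, ∀ b ∈ E, Commute a b) ∧ E.ncard = n} := by
      refine Nat.sSup_mem ⟨0, ∅, Set.empty_subset _, Set.finite_empty, by simp, by simp⟩ ⟨Nat.card (SecG D d₀), ?_⟩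
      rintro n ⟨F, -, -, -, rfl⟩
      exact Set.ncard_le_card F
    rw [hw] at hin
    obtain ⟨F, hF, -, hFc, hFn⟩ := hin
    choose f hf hfe using fun q : F => hset q (hF q.2)
    have hinj : Function.Injective f := fun p q e => Subtype.ext (by
      rw [← hfe p, ← hfe q]
      simp only [e])
    have hnot : d₀ ∉ Set.range f := fun ⟨q, hq⟩ => (hf q).2.1 hq
    refine ⟨insert d₀ (Set.range f), ?_, Set.toFinite _, ?_, ?_⟩
    · rintro x (rfl | ⟨q, rfl⟩)
      exacts [C.mem, (hf q).1]
    · rintro x (rfl | ⟨p, rfl⟩) y (rfl | ⟨q, rfl⟩)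
      exacts [Commute.refl _, (hf q).2.2, (hf p).2.2.symm,
        (C.comm_iff (hf p) (hf q)).1 (by rw [hfe, hfe]; exact hFc _ p.2 _ q.2)]
    · rw [Set.ncard_insert_of_notMem hnot (Set.toFinite _), ← Set.image_univ,
        Set.ncard_image_of_injective _ hinj, Set.ncard_univ, Nat.card_coe_set_eq, hFn]
  exact le_antisymm (csSup_le ⟨_, hmem⟩ hle) (le_csSup ⟨24, hle⟩ hmem)

end CfsgLib.Recog.FiM24
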