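import Cfsg.Agent.Lib.Recog.FiM24.Blocks
import Cfsg.Agent.Lib.Recog.FiM22.ReadOff
import Cfsg.Agent.S0296
import Cfsg.Agent.Lib.Classical.Quad.POmega

set_option autoImplicit false
set_option maxRecDepth 20000

/-!
In a group of type M(24) the section at some member is a primitive group of type M(23) (owner: helper13).

A nontrivial block would give non-commuting members whose common neighbours have a member with pairwise non-commuting
common neighbours, and then the subgroup of the common neighbours would be solvable.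
-/

namespace CfsgLib.Recog.FiM24

open Cfsg CfsgLib.ThreeTrans CfsgLib.Recog.FiM22.Factor
open CfsgLib.Recog.FiM22Two (setting_of_prim nb_connected not_solvable_of_projRefl im_mem_set)

universe u v

/-- A member whose section is a primitive group of type M(23). -/
structure Sec23 {G : Type u} [Group G] [Finite G] (D : Set G) (d : G) : Prop where
  mem : d ∈ D
  setting : RankThree.Setting D
  non : ∀ e ∈ nb D d, Noncentral D d e
  grp : IsThreeTranspositionGroup (secSet D d)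
  prim : IsPrimitiveUnderConj (secSet D d)
  type : IsOfTypeM23 (SecG D d) (secSet D d)

theorem FarBlock.map {G : Type u} [Group G] {H : Type v} [Group H] {D B : Set G} (h : FarBlock D B) (φ : G ≃* H) :
    FarBlock (φ '' D) (φ '' B) := by
  refine ⟨Set.image_mono h.sub, ?_, ?_⟩
  · rintro _ ⟨x, hx, rfl⟩ _ ⟨y, hy, rfl⟩ hne hc
    exact h.far x hx y hy (fun e => hne (by rw [e])) (by simpa using hc.map φ.symm.toMonoidHom)
  · rintro g _ ⟨x, hx, rfl⟩ ⟨z, hz, e⟩ _ ⟨y, hy, rfl⟩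
    obtain ⟨g, rfl⟩ := φ.surjective g
    have e' : g * x * g⁻¹ = z := φ.injective (by rw [map_mul, map_mul, map_inv]; exact e.symm)
    exact ⟨g * y * g⁻¹, h.block g x hx (e' ▸ hz) y hy, by rw [map_mul, map_mul, map_inv]⟩

theorem not_solvable_pomega_plus : ¬ Group.IsSolvable (POmega (ZMod 3) (quadFormPlus 4 (ZMod 3))) := by
  haveI : Fact (Nat.Prime 3) := ⟨Nat.prime_three⟩
  haveI := Cfsg.Agent.S0296.result (F := ZMod 3) 4 le_rfl
  intro hs
  haveI := hs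
  have hcomm : ∀ x y : POmega (ZMod 3) (quadFormPlus 4 (ZMod 3)), x * y = y * x := by
    haveI : Nontrivial (POmega (ZMod 3) (quadFormPlus 4 (ZMod 3))) := IsSimpleGroup.toNontrivial
    have hlt := Group.IsSolvable.commutator_lt_top_of_nontrivial (G := POmega (ZMod 3) (quadFormPlus 4 (ZMod 3)))
    have hb : commutator (POmega (ZMod 3) (quadFormPlus 4 (ZMod 3))) = ⊥ :=
      (inferInstance : (commutator (POmega (ZMod 3) (quadFormPlus 4 (ZMod 3)))).Normal).eq_bot_or_eq_top.resolve_right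
        hlt.ne
    intro x y
    exact commutatorElement_eq_one_iff_mul_comm.1 (Subgroup.mem_bot.1
      (hb ▸ Subgroup.commutator_mem_commutator (Subgroup.mem_top x) (Subgroup.mem_top y)))
  letI : CommGroup (POmega (ZMod 3) (quadFormPlus 4 (ZMod 3))) :=
    { (inferInstance : Group (POmega (ZMod 3) (quadFormPlus 4 (ZMod 3)))) with mul_comm := hcomm }
  have hp := IsSimpleGroup.prime_card (α := POmega (ZMod 3) (quadFormPlus 4 (ZMod 3)))
  have hc := CfsgLib.Classical.Quad.card_POmega_plus (F := ZMod 3) (q := 3) (ZMod.card 3) 4 le_rfl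
  norm_num [Finset.prod_range_succ] at hc
  rw [show Nat.card (POmega (ZMod 3) (quadFormPlus 4 (ZMod 3))) = 4952179814400 by omega] at hp
  norm_num at hp

variable {G : Type u} [Group G] [Finite G] {D : Set G}

/-- Non-commuting pairs of members are conjugate. -/
theorem exists_pair_conj (S : RankThree.Setting D) {x y x' y' : G} (hx : x ∈ D) (hy : y ∈ D) (hxy : ¬ Commute x y)
    (hx' : x' ∈ D) (hy' : y' ∈ D) (hxy' : ¬ Commute x' y') :
    ∃ g : G, g * x * g⁻¹ = x' ∧ g * y * g⁻¹ = y' := by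
  obtain ⟨g, hg⟩ := class_trans S.cls hx hx'
  obtain ⟨k, hk, hky⟩ := S.noncommute_transitive hx' (S.grp.2.1 g y hy)
    (fun hc => hxy (by rw [← hg] at hc; exact commute_conj_iff.1 hc)) hy' hxy'
  refine ⟨k * g, ?_, by rw [← hky]; group⟩
  rw [show k * g * x * (k * g)⁻¹ = k * (g * x * g⁻¹) * k⁻¹ by group, hg, hk.eq, mul_inv_cancel_right]

/-- A conjugation carries common neighbours to common neighbours. -/
theorem conj_mem_nb (hconj : ∀ g : G, ∀ x ∈ D, g * x * g⁻¹ ∈ D) (g : G) {x u : G} (hu : u ∈ nb D x) :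
    g * u * g⁻¹ ∈ nb D (g * x * g⁻¹) :=
  ⟨hconj g u hu.1, fun e => hu.2.1 (mul_left_cancel (mul_right_cancel e)), commute_conj_iff.2 hu.2.2⟩

/-- A member with pairwise non-commuting common neighbours and one with commuting ones do not both occur. -/
theorem no_far_link (hS : IsThreeTranspositionSet D) {T : Set G} (hT : T ⊆ D)
    (hconj : ∀ k ∈ Subgroup.closure T, ∀ t ∈ T, k * t * k⁻¹ ∈ T)
    (hns : ¬ Group.IsSolvable ↥(Subgroup.closure T)) {o : G} (ho : o ∈ T)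
    (hlink : ∀ u ∈ T, u ≠ o → Commute o u → ∀ v ∈ T, v ≠ o → Commute o v → Commute u v → v = u)
    {d' u' v' : G} (hd' : d' ∈ T) (hu : u' ∈ T) (hud : u' ≠ d') (hud' : Commute d' u') (hv : v' ∈ T)
    (hvd : v' ≠ d') (hvd' : Commute d' v') (huv : Commute u' v') (hne : v' ≠ u') : False := by
  let O : Set G := {w | w ∈ T ∧ ∃ k ∈ Subgroup.closure T, k * o * k⁻¹ = w}
  let O' : Set G := {w | w ∈ T ∧ w ∉ O}
  have hlinkO : ∀ w ∈ O, ∀ u ∈ T, u ≠ w → Commute w u → ∀ v ∈ T, v ≠ w → Commute w v → Commute u v → v = u := by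
    rintro _ ⟨-, k, hk, rfl⟩ u hu h1 h2 v hv h3 h4 h5
    have hback : ∀ z, z ∈ T → k⁻¹ * z * k ∈ T := fun z hz => by simpa using hconj k⁻¹ (inv_mem hk) z hz
    have e : ∀ z, k * (k⁻¹ * z * k) * k⁻¹ = z := fun z => by group
    have := hlink _ (hback u hu) (fun h => h1 (by rw [← e u, h])) (by rw [← commute_conj_iff (g := k), e]; exact h2)
      _ (hback v hv) (fun h => h3 (by rw [← e v, h])) (by rw [← commute_conj_iff (g := k), e]; exact h4)
      (by rw [← commute_conj_iff (g := k), e, e]; exact h5)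
    rw [← e v, this, e]
  have hOconj : ∀ k ∈ Subgroup.closure T, ∀ w ∈ O, k * w * k⁻¹ ∈ O := by
    rintro k hk _ ⟨hw, l, hl, rfl⟩
    exact ⟨hconj k hk _ hw, k * l, mul_mem hk hl, by group⟩
  have hoO : o ∈ O := ⟨ho, 1, one_mem _, by group⟩
  have hcomm : ∀ s ∈ O, ∀ t ∈ O', Commute s t := by
    intro s hs t ht
    by_contra hc
    refine ht.2 ?_
    have hst : s * t ∈ Subgroup.closure T := mul_mem (Subgroup.subset_closure hs.1) (Subgroup.subset_closure ht.1)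
    have h := hOconj _ hst s hs
    rwa [show s * t * s * (s * t)⁻¹ = t by
      rw [mul_inv_rev, inv_eq hS (hT hs.1), inv_eq hS (hT ht.1), braid hS (hT hs.1) (hT ht.1) hc]
      simp only [mul_assoc, mul_self_assoc hS (hT ht.1), mul_self hS (hT hs.1), mul_one]] at h
  by_cases hO' : O' = ∅
  · have hd'O : d' ∈ O := by
      by_contra hn
      exact (Set.eq_empty_iff_forall_notMem.1 hO' d') ⟨hd', hn⟩
    exact hne (hlinkO d' hd'O u' hu hud hud' v' hv hvd hvd' huv)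
  obtain ⟨o', ho'⟩ := Set.nonempty_iff_ne_empty.2 hO'
  apply hns
  rw [show T = O ∪ O' from Set.ext fun w => ⟨fun hw => (em (w ∈ O)).imp id fun h => ⟨hw, h⟩,
    fun hw => hw.elim (·.1) (·.1)⟩]
  refine solvable_of_union hcomm ?_ ?_
  · refine solvable_of_far hS (fun w hw => hT hw.1) (fun s hs t ht => hOconj s (Subgroup.subset_closure hs.1) t ht) ?_
    intro s hs t ht hst
    by_contra hts
    have h1 : o' ≠ s := fun e => ho'.2 (e ▸ hs)
    exact ho'.2 ((hlinkO s hs t ht.1 hts hst o' ho'.1 h1 (hcomm s hs o' ho') (hcomm t ht o' ho')) ▸ ht)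
  · refine solvable_of_far hS (fun w hw => hT hw.1) (fun s hs t ht => ⟨hconj s (Subgroup.subset_closure hs.1) t ht.1,
      fun hin => ht.2 ?_⟩) ?_
    · simpa [mul_assoc] using hOconj s⁻¹ (inv_mem (Subgroup.subset_closure hs.1)) _ hin
    · intro s hs t ht hst
      exact hlinkO o hoO s hs.1 (fun e => hs.2 (e ▸ hoO)) (hcomm o hoO s hs) t ht.1 (fun e => ht.2 (e ▸ hoO))
        (hcomm o hoO t ht) hst

/-- The section of a group of type M(24) is primitive of type M(23). -/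
theorem exists_sec23 (hD : IsThreeTranspositionGroup D) (hprim : IsPrimitiveUnderConj D) (h : IsOfTypeM24 G D) :
    ∃ d, Sec23 D d := by
  obtain ⟨-, d, hd, c, hc, hdc, h23, N, hN, ⟨φN⟩, -⟩ := h
  have hns : ¬ Group.IsSolvable ↥(Subgroup.closure (nb D d ∩ nb D c)) := fun hs => by
    haveI := hs
    haveI : Group.IsSolvable (↥(Subgroup.closure (nb D d ∩ nb D c)) ⧸
        Subgroup.center ↥(Subgroup.closure (nb D d ∩ nb D c))) :=
      Group.isSolvable_of_surjective (f := QuotientGroup.mk' _) (QuotientGroup.mk'_surjective _)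
    haveI : Group.IsSolvable ↥N := inferInstance
    exact not_solvable_pomega_plus (Group.isSolvable_of_surjective (f := φN.toMonoidHom) φN.surjective)
  obtain ⟨-, a, ha, b, hb, hab, h22, c₃, hc₃, hL⟩ := id h23
  obtain ⟨⟨ea, hea⟩, hma, hea'⟩ := id ha
  have hma' : ea ∈ nb D d := hma
  have hw' : ∃ p ∈ D, ∃ q ∈ D, p ≠ q ∧ Commute p q := ⟨d, hd, ea, hma'.1, hma'.2.1.symm, hma'.2.2⟩
  have S := setting_of_prim hD hprim hw'
  have hconj : ∀ e ∈ nb D d, ∀ f ∈ nb D d, ∃ g ∈ Subgroup.closure (nb D d), g * e * g⁻¹ = f := by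
    intro e he f hf
    obtain ⟨g, hg, hgf⟩ := S.commute_comp hd he.1 he.2.1 he.2.2 hf.1 hf.2.1 hf.2.2
    exact ⟨g, hg, hgf⟩
  have hnon : ∀ e ∈ nb D d, Noncentral D d e := by
    intro e he
    refine ⟨he, ?_⟩
    by_contra hno
    push Not at hno
    obtain ⟨g, hg, hge⟩ := hconj e he ea hma'
    have : ea = e := by rw [← hge, ← (RankThree.commute_closure hno hg).eq, mul_inv_cancel_right]
    subst this
    refine hab ?_
    rw [← hea', show (QuotientGroup.mk ⟨ea, hea⟩ : SecG D d) = 1 from im_eq_one_of_central hma' hno]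
    exact Commute.one_left _
  have hsec : secSet D d \ {1} = secSet D d := by
    refine Set.sdiff_singleton_eq_self fun hm => ?_
    obtain ⟨⟨e, he⟩, hme, h1⟩ := hm
    exact (hnon e hme).im_ne_one h1
  have hlift : ∀ p ∈ secSet D d, ∃ (e : G) (he : e ∈ nb D d), im he = p := by
    rintro _ ⟨⟨e, he⟩, hme, rfl⟩; exact ⟨e, hme, rfl⟩
  have hgrp : IsThreeTranspositionGroup (secSet D d) := hsec ▸ secGrp hD
  have T1 : Trans (secSet D d) := by
    refine ⟨hgrp, fun p hp q hq => ?_⟩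
    obtain ⟨e, he, rfl⟩ := hlift p hp
    obtain ⟨f, hf, rfl⟩ := hlift q hq
    obtain ⟨g, hg, rfl⟩ := hconj e he f hf
    exact ⟨QuotientGroup.mk ⟨g, hg⟩, rfl⟩
  have hcomm := fun {e f : G} (he : e ∈ nb D d) (hf : f ∈ nb D d) => im_commute hD.1 (hnon e he) hf
  have hinj := fun {e f : G} (he : e ∈ nb D d) (hf : f ∈ nb D d) => im_inj hD.1 (hnon e he) hf
  have hcommon : ∀ p ∈ secSet D d, ∀ q ∈ secSet D d, ¬ Commute p q →
      ∃ z, z ∈ nb (secSet D d) p ∧ z ∈ nb (secSet D d) q := by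
    intro p hp q hq hpq
    obtain ⟨e, he, rfl⟩ := hlift p hp
    obtain ⟨f, hf, rfl⟩ := hlift q hq
    rw [hcomm he hf] at hpq
    obtain ⟨s, hs, hse, hes, hsf⟩ := (nb_connected hD S hd hc hdc hns hd he hf).resolve_left hpq
    exact ⟨im hs, ⟨im_mem_set hs, fun h => hse (hinj hs he h), (hcomm he hs).2 hes⟩,
      im_mem_set hs, fun h => hpq (hinj hs hf h ▸ hes), (hcomm hf hs).2 hsf.symm⟩
  -- one level further
  obtain ⟨a₂, b₂, ⟨P⟩⟩ := exists_pre h22 (secGrp (d := a) hgrp)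
  have hnon2 : ∀ e ∈ nb (secSet D d) a, Noncentral (secSet D d) a e := fun e he =>
    noncentral_of_sep T1 ha P.sep ⟨a₂, P.mema⟩ he
  have hsec2 : secSet (secSet D d) a \ {1} = secSet (secSet D d) a := by
    refine Set.sdiff_singleton_eq_self fun hm => ?_
    obtain ⟨⟨e, he⟩, hme, h1⟩ := hm
    exact (hnon2 e hme).im_ne_one h1
  have hmem2 : ∀ {e} (he : e ∈ nb (secSet D d) a), im he ∈ secSet (secSet D d) a \ {1} := fun he => im_mem (hnon2 _ he)
  have htrans2 : ∀ u ∈ secSet D d, ∀ v ∈ nb (secSet D d) u, ∀ v' ∈ nb (secSet D d) u,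
      ∃ k, k * u * k⁻¹ = u ∧ k * v * k⁻¹ = v' := by
    intro u hu v hv v' hv'
    obtain ⟨g, hg⟩ := T1.trans u hu a ha
    have h1 := hg ▸ conj_mem_nb hgrp.2.1 g hv
    have h2 := hg ▸ conj_mem_nb hgrp.2.1 g hv'
    obtain ⟨k, hk⟩ := P.transitive.trans _ (hmem2 h1) _ (hmem2 h2)
    obtain ⟨⟨k, hkm⟩, rfl⟩ := QuotientGroup.mk_surjective k
    have hka : k * a * k⁻¹ = a := by
      rw [← (RankThree.commute_closure (fun _ hz => hz.2.2) hkm).eq, mul_inv_cancel_right]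
    have h3 : k * (g * v * g⁻¹) * k⁻¹ ∈ nb (secSet D d) a := by
      have := conj_mem_nb hgrp.2.1 k h1; rwa [hka] at this
    have e := im_inj hgrp.1 (hnon2 _ h3) h2 hk
    refine ⟨g⁻¹ * k * g, ?_, ?_⟩
    · rw [show g⁻¹ * k * g * u * (g⁻¹ * k * g)⁻¹ = g⁻¹ * (k * (g * u * g⁻¹) * k⁻¹) * g by group, hg, hka, ← hg]
      group
    · rw [show g⁻¹ * k * g * v * (g⁻¹ * k * g)⁻¹ = g⁻¹ * (k * (g * v * g⁻¹) * k⁻¹) * g by group, e]
      group
  have hfar : ∀ B, FarBlock (secSet D d) B → ∀ p ∈ B, ∀ q ∈ B, p ≠ q →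
      ∀ z ∈ nb (secSet D d) p, z ∈ nb (secSet D d) q → ∀ z' ∈ nb (secSet D d) p, z' ∈ nb (secSet D d) q →
        Commute z z' → z' = z := by
    intro B hB p hp q hq hpq z hzp hzq z' hzp' hzq' hzz
    by_contra hne
    obtain ⟨g, hg⟩ := T1.trans z hzp.1 a ha
    have hBg := hB.conj hgrp.2.1 g
    have tp : g * p * g⁻¹ ∈ nb (secSet D d) a :=
      hg ▸ conj_mem_nb hgrp.2.1 g (⟨hB.sub hp, hzp.2.1.symm, hzp.2.2.symm⟩ : p ∈ nb (secSet D d) z)
    have tq : g * q * g⁻¹ ∈ nb (secSet D d) a :=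
      hg ▸ conj_mem_nb hgrp.2.1 g (⟨hB.sub hq, hzq.2.1.symm, hzq.2.2.symm⟩ : q ∈ nb (secSet D d) z)
    have tw : g * z' * g⁻¹ ∈ nb (secSet D d) a :=
      hg ▸ conj_mem_nb hgrp.2.1 g (⟨hzp'.1, hne, hzz⟩ : z' ∈ nb (secSet D d) z)
    obtain ⟨B₂, hB₂, mp, mq, mne⟩ := hBg.down hgrp hnon2 ⟨p, hp, rfl⟩ ⟨q, hq, rfl⟩
      (fun e => hpq (mul_left_cancel (mul_right_cancel e))) tp tq
    rw [← hsec2] at hB₂
    have wp : im tp ∈ nb (secSet (secSet D d) a \ {1}) (im tw) :=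
      ⟨hmem2 tp, fun e => hzp'.2.1 (mul_left_cancel (mul_right_cancel (im_inj hgrp.1 (hnon2 _ tp) tw e))).symm,
        (im_commute hgrp.1 (hnon2 _ tw) tp).2 (commute_conj_iff.2 hzp'.2.2.symm)⟩
    have wq : im tq ∈ nb (secSet (secSet D d) a \ {1}) (im tw) :=
      ⟨hmem2 tq, fun e => hzq'.2.1 (mul_left_cancel (mul_right_cancel (im_inj hgrp.1 (hnon2 _ tq) tw e))).symm,
        (im_commute hgrp.1 (hnon2 _ tw) tq).2 (commute_conj_iff.2 hzq'.2.2.symm)⟩
    obtain ⟨k, hk⟩ := P.transitive.trans _ (hmem2 tw) _ P.mema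
    have hBk := hB₂.conj P.grp.2.1 k
    have sp := hk ▸ conj_mem_nb P.grp.2.1 k wp
    have sq := hk ▸ conj_mem_nb P.grp.2.1 k wq
    obtain ⟨B₃, hB₃, np, nq, nne⟩ := hBk.down P.grp (fun e he => P.noncentral he) ⟨_, mp, rfl⟩ ⟨_, mq, rfl⟩
      (fun e => mne (mul_left_cancel (mul_right_cancel e))) sp sq
    refine no_block ?_ (hB₃.map P.iso) ⟨_, np, rfl⟩ ⟨_, nq, rfl⟩ fun e => nne (P.iso.injective e)
    rintro _ ⟨x, hx, rfl⟩
    obtain ⟨⟨e, he⟩, hme, rfl⟩ := hB₃.sub hx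
    exact P.img_T (P.noncentral hme)
  -- the subgroup of the common neighbours of a pair
  have hTconj : ∀ k ∈ Subgroup.closure (nb D d ∩ nb D c), ∀ t ∈ nb D d ∩ nb D c, k * t * k⁻¹ ∈ nb D d ∩ nb D c := by
    intro k hk t ht
    have h1 : k * d * k⁻¹ = d := by
      rw [← (RankThree.commute_closure (fun _ hz => hz.1.2.2) hk).eq, mul_inv_cancel_right]
    have h2 : k * c * k⁻¹ = c := by
      rw [← (RankThree.commute_closure (fun _ hz => hz.2.2.2) hk).eq, mul_inv_cancel_right]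
    exact ⟨h1 ▸ conj_mem_nb hD.2.1 k ht.1, h2 ▸ conj_mem_nb hD.2.1 k ht.2⟩
  have hpush : ∀ {x y : G}, x ∈ D → y ∈ D → ¬ Commute x y → ∃ g : G, ∀ u, u ∈ nb D x → u ∈ nb D y →
      g * u * g⁻¹ ∈ nb D d ∩ nb D c := by
    intro x y hx hy hxy
    obtain ⟨g, g1, g2⟩ := exists_pair_conj S hx hy hxy hd hc hdc
    exact ⟨g, fun u hu hu' => ⟨g1 ▸ conj_mem_nb hD.2.1 g hu, g2 ▸ conj_mem_nb hD.2.1 g hu'⟩⟩
  have hpull : ∀ {x y : G}, x ∈ D → y ∈ D → ¬ Commute x y → ∀ g : G, g * x * g⁻¹ = d → g * y * g⁻¹ = c →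
      ∀ w ∈ nb D d ∩ nb D c, g⁻¹ * w * g ∈ nb D x ∩ nb D y := by
    intro x y hx hy hxy g g1 g2 w hw
    have e : ∀ z, g⁻¹ * (g * z * g⁻¹) * g = z := fun z => by group
    have h1 := conj_mem_nb hD.2.1 g⁻¹ hw.1
    have h2 := conj_mem_nb hD.2.1 g⁻¹ hw.2
    rw [inv_inv] at h1 h2
    rw [← g1, e] at h1
    rw [← g2, e] at h2
    exact ⟨h1, h2⟩
  have hw : ∃ p ∈ secSet D d, ∃ q ∈ secSet D d, p ≠ q ∧ Commute p q := by
    obtain ⟨f, hf, -⟩ := exists_of_mem_sec P.mema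
    exact ⟨a, ha, f, hf.1.1, hf.1.2.1.symm, hf.1.2.2⟩
  refine ⟨d, hd, S, hnon, hgrp, ⟨T1.trans, ?_, ?_⟩, h23⟩
  · obtain ⟨p, hp, q, hq, hne, -⟩ := hw
    exact ⟨p, hp, q, hq, hne⟩
  intro B hBE hblock
  by_cases hsub : B.Subsingleton
  · exact Or.inl hsub
  right
  have hblk : ∀ g, ∀ x ∈ B, g * x * g⁻¹ ∈ B → ∀ y ∈ B, g * y * g⁻¹ ∈ B := by
    intro g x hx hgx y hy
    rcases hblock g with he | hdis
    · exact he ▸ ⟨y, hy, rfl⟩
    · exact absurd hgx (Set.disjoint_left.1 hdis ⟨x, hx, rfl⟩)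
  by_cases hcp : ∃ x ∈ B, ∃ y ∈ B, x ≠ y ∧ Commute x y
  · obtain ⟨x, hx, y, hy, hxy, hcxy⟩ := hcp
    have hstep : ∀ u ∈ B, ∀ v ∈ nb (secSet D d) u, v ∈ B := by
      intro u hu v hv
      obtain ⟨g, hg⟩ := T1.trans x (hBE hx) u (hBE hu)
      have h1 : g * y * g⁻¹ ∈ nb (secSet D d) u :=
        hg ▸ conj_mem_nb hgrp.2.1 g (⟨hBE hy, hxy.symm, hcxy⟩ : y ∈ nb (secSet D d) x)
      obtain ⟨k, hku, hkv⟩ := htrans2 u (hBE hu) _ h1 v hv
      have := hblk (k * g) x hx (by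
        rw [show k * g * x * (k * g)⁻¹ = k * (g * x * g⁻¹) * k⁻¹ by group, hg, hku]; exact hu) y hy
      rwa [show k * g * y * (k * g)⁻¹ = k * (g * y * g⁻¹) * k⁻¹ by group, hkv] at this
    refine Set.Subset.antisymm hBE fun v hv => ?_
    by_cases e : v = x
    · exact e ▸ hx
    by_cases hcv : Commute x v
    · exact hstep x hx v ⟨hv, e, hcv⟩
    obtain ⟨z, hzx, hzv⟩ := hcommon x (hBE hx) v hv hcv
    exact hstep z (hstep x hx z hzx) v ⟨hv, hzv.2.1.symm, hzv.2.2.symm⟩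
  exfalso
  push Not at hcp
  have hB : FarBlock (secSet D d) B := ⟨hBE, hcp, hblk⟩
  obtain ⟨p, hp, q, hq, hpq⟩ := (Set.not_subsingleton_iff.1 hsub : ∃ p ∈ B, ∃ q ∈ B, p ≠ q)
  -- a member with far common neighbours
  obtain ⟨x, hx, rfl⟩ := hlift p (hBE hp)
  obtain ⟨y, hy, rfl⟩ := hlift q (hBE hq)
  have hxy : ¬ Commute x y := fun h => hcp _ hp _ hq hpq ((hcomm hx hy).2 h)
  obtain ⟨g, g1, g2⟩ := exists_pair_conj S hx.1 hy.1 hxy hd hc hdc
  have hdx : d ∈ nb D x := ⟨hd, hx.2.1.symm, hx.2.2.symm⟩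
  have hdy : d ∈ nb D y := ⟨hd, hy.2.1.symm, hy.2.2.symm⟩
  have hoT : g * d * g⁻¹ ∈ nb D d ∩ nb D c :=
    ⟨by have := conj_mem_nb hD.2.1 g hdx; rwa [g1] at this,
      by have := conj_mem_nb hD.2.1 g hdy; rwa [g2] at this⟩
  have hto : ∀ u ∈ nb D d ∩ nb D c, u ≠ g * d * g⁻¹ → Commute (g * d * g⁻¹) u →
      ∃ hu : g⁻¹ * u * g ∈ nb D d, im hu ∈ nb (secSet D d) (im hx) ∧ im hu ∈ nb (secSet D d) (im hy) := by
    intro u hu hne hcu
    obtain ⟨h1, h2⟩ := hpull hx.1 hy.1 hxy g g1 g2 u hu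
    have hu' : g⁻¹ * u * g ∈ nb D d :=
      ⟨h1.1, fun e => hne (by rw [← e]; group), by
        rw [← commute_conj_iff (g := g), show g * (g⁻¹ * u * g) * g⁻¹ = u by group]; exact hcu⟩
    exact ⟨hu', ⟨im_mem_set hu', fun e => h1.2.1 (hinj hu' hx e), (hcomm hx hu').2 h1.2.2⟩,
      im_mem_set hu', fun e => h2.2.1 (hinj hu' hy e), (hcomm hy hu').2 h2.2.2⟩
  -- and one without
  obtain ⟨x₀, hx₀, hxa⟩ := hlift a ha
  obtain ⟨y₀, hy₀, hyb⟩ := hlift b hb
  have hxy₀ : ¬ Commute x₀ y₀ := fun h => hab (by rw [← hxa, ← hyb]; exact (hcomm hx₀ hy₀).2 h)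
  have hexists : ∃ u ∈ nb (secSet D d) a ∩ nb (secSet D d) b, ∃ v ∈ nb (secSet D d) a ∩ nb (secSet D d) b,
      Commute u v ∧ v ≠ u := by
    by_contra hno
    push Not at hno
    have hs : Group.IsSolvable ↥(Subgroup.closure (nb (secSet D d) a ∩ nb (secSet D d) b)) := by
      refine solvable_of_far hgrp.1 (fun w hw => hw.1.1) (fun s hs t ht => ?_) hno
      have h1 : s * a * s⁻¹ = a := by rw [← hs.1.2.2.eq, mul_inv_cancel_right]
      have h2 : s * b * s⁻¹ = b := by rw [← hs.2.2.2.eq, mul_inv_cancel_right]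
      exact ⟨h1 ▸ conj_mem_nb hgrp.2.1 s ht.1, h2 ▸ conj_mem_nb hgrp.2.1 s ht.2⟩
    haveI := hs
    exact not_solvable_of_projRefl (n := 7) (by norm_num) hc₃ hL
      (Group.isSolvable_of_surjective (f := QuotientGroup.mk' _) (QuotientGroup.mk'_surjective _))
  obtain ⟨pu, hpu, pv, hpv, huv, huv'⟩ := hexists
  obtain ⟨u₀, hu₀, rfl⟩ := hlift pu hpu.1.1
  obtain ⟨v₀, hv₀, rfl⟩ := hlift pv hpv.1.1
  obtain ⟨g₀, hg₀⟩ := hpush hx₀.1 hy₀.1 hxy₀
  have hin : ∀ {w : G} (hw : w ∈ nb D d), im hw ∈ nb (secSet D d) a ∩ nb (secSet D d) b → w ∈ nb D x₀ ∧ w ∈ nb D y₀ := by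
    intro w hw hm
    rw [← hxa, ← hyb] at hm
    exact ⟨⟨hw.1, fun e => hm.1.2.1 (by subst e; rfl), (hcomm hx₀ hw).1 hm.1.2.2⟩,
      ⟨hw.1, fun e => hm.2.2.1 (by subst e; rfl), (hcomm hy₀ hw).1 hm.2.2.2⟩⟩
  obtain ⟨iu1, iu2⟩ := hin hu₀ hpu
  obtain ⟨iv1, iv2⟩ := hin hv₀ hpv
  refine no_far_link hD.1 (fun w hw => hw.1.1) hTconj hns hoT ?_
    (hg₀ d ⟨hd, hx₀.2.1.symm, hx₀.2.2.symm⟩ ⟨hd, hy₀.2.1.symm, hy₀.2.2.symm⟩) (hg₀ u₀ iu1 iu2)
    (fun e => hu₀.2.1 (mul_left_cancel (mul_right_cancel e))) (commute_conj_iff.2 hu₀.2.2) (hg₀ v₀ iv1 iv2)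
    (fun e => hv₀.2.1 (mul_left_cancel (mul_right_cancel e))) (commute_conj_iff.2 hv₀.2.2)
    (commute_conj_iff.2 ((hcomm hu₀ hv₀).1 huv))
    (fun e => huv' (by have := mul_left_cancel (mul_right_cancel e); subst this; rfl))
  intro u hu hue huc v hv hve hvc huv₁
  obtain ⟨hu', u1, u2⟩ := hto u hu hue huc
  obtain ⟨hv', v1, v2⟩ := hto v hv hve hvc
  have := hfar B hB _ hp _ hq hpq _ u1 u2 _ v1 v2 ((hcomm hu' hv').2 (by
    rw [← commute_conj_iff (g := g), show g * (g⁻¹ * u * g) * g⁻¹ = u by group,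
      show g * (g⁻¹ * v * g) * g⁻¹ = v by group]
    exact huv₁))
  exact mul_left_cancel (mul_right_cancel (hinj hv' hu' this))

end CfsgLib.Recog.FiM24
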