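import Cfsg.Agent.Lib.Recog.FiM24.Common

set_option autoImplicit false
set_option maxRecDepth 20000

/-!
Twelve letters with a lift of Fi23 and a flip: the members of three kinds are kept by every letter (owner: helper13).

The far members are reached through the centraliser of the central member, where the flip turns them into neighbours.
-/

namespace CfsgLib.Recog.FiM24

open Cfsg
open CfsgLib.Recog.FiThree (gg zz)
open CfsgLib.Recog.FiTypes (tr exists_tr gg_eq_tr lp)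
open CfsgLib.Recog.SporBound.Fi22Aut (rv)

attribute [local instance] FiThree.finite_fi23'

universe u v

theorem rv_spec : ∀ x < 9, rv x < 9 ∧ rv (rv x) = x := by decide

theorem one_common : Nat.testBit commonPts 8006 = true := by decide +kernel

/-- A transposition is the central one or conjugate to a or to j in its centraliser. -/
theorem Model.trans_cases {t : Spor.Fi23} (ht : t ∈ FiThree.trans) :
    t = zz ∨ (∃ m ∈ FiThree.hSub, t = m * gg 0 * m⁻¹) ∨ ∃ m ∈ FiThree.hSub, t = m * gg 9 * m⁻¹ := by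
  obtain ⟨g, rfl⟩ := FiThree.mem_trans.1 ht
  rcases FiThree.cover (FiThree.pt_lt g) with h0 | h1 | h2
  · refine Or.inl ?_
    rw [Model.conj_zz_eq (g' := 1) (by rw [h0, FiThree.pt, map_one]; rfl), one_mul, inv_one, mul_one]
  · obtain ⟨m, hm, hh⟩ := FiThree.inDouble_one h1
    refine Or.inr (Or.inl ⟨m, hm, ?_⟩)
    rw [Model.conj_zz_eq (FiThree.pt_eq_iff.2 hh).symm, ← FiThree.ga_zz]
    group
  · obtain ⟨m, hm, hh⟩ := FiThree.inDouble_two h2
    refine Or.inr (Or.inr ⟨m, hm, ?_⟩)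
    rw [Model.conj_zz_eq (FiThree.pt_eq_iff.2 hh).symm, ← FiThree.gj_zz]
    group

/-- Twelve letters with the lift of Fi23 and a flip. -/
structure Sys (G : Type u) [Group G] where
  L : ℕ → G
  iota : Spor.Fi23 →* G
  flip : G
  iota_gg : ∀ x < 10, iota (gg x) = L x * L 11
  d_sq : L 11 * L 11 = 1
  d_comm : ∀ u, Commute (L 11) (iota u)
  k_sq : L 10 * L 10 = 1
  dk : L 11 * L 10 * L 11 = L 10 * L 11 * L 10
  k_near : ∀ c < 31671, Nat.testBit commonPts c = true → Commute (L 10) (iota (tr c) * L 11)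
  k_far : ∀ c < 31671, Nat.testBit commonPts c = false →
    L 10 * (iota (tr c) * L 11) * L 10 = (iota (tr c) * L 11) * L 10 * (iota (tr c) * L 11)
  k_stab : ∀ u ∈ kFix, Commute (iota u) (L 10)
  flip_d : flip * L 11 * flip⁻¹ = iota zz * L 11
  flip_p : flip * (iota zz * L 11) * flip⁻¹ = L 11
  flip_j : flip * L 9 * flip⁻¹ = L 10
  flip_y : ∀ x < 9, flip * L x * flip⁻¹ = L (rv x)

namespace Sys

/-- Two systems side by side. -/
def prod {G : Type u} {H : Type v} [Group G] [Group H] (S : Sys G) (T : Sys H) : Sys (G × H) where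
  L x := (S.L x, T.L x)
  iota := S.iota.prod T.iota
  flip := (S.flip, T.flip)
  iota_gg x hx := Prod.ext (S.iota_gg x hx) (T.iota_gg x hx)
  d_sq := Prod.ext S.d_sq T.d_sq
  d_comm u := Prod.ext (S.d_comm u).eq (T.d_comm u).eq
  k_sq := Prod.ext S.k_sq T.k_sq
  dk := Prod.ext S.dk T.dk
  k_near c hc h := Prod.ext (S.k_near c hc h).eq (T.k_near c hc h).eq
  k_far c hc h := Prod.ext (S.k_far c hc h) (T.k_far c hc h)
  k_stab u hu := Prod.ext (S.k_stab u hu).eq (T.k_stab u hu).eq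
  flip_d := Prod.ext S.flip_d T.flip_d
  flip_p := Prod.ext S.flip_p T.flip_p
  flip_j := Prod.ext S.flip_j T.flip_j
  flip_y x hx := Prod.ext (S.flip_y x hx) (T.flip_y x hx)

variable {G : Type u} [Group G] (S : Sys G)
include S

/-- The neighbour over a transposition. -/
def up (t : Spor.Fi23) : G := S.iota t * S.L 11

/-- A far member. -/
def far (u : Spor.Fi23) : G := S.iota u * S.L 10 * (S.iota u)⁻¹

/-- The three kinds of members. -/
def InU (m : G) : Prop :=
  m = S.L 11 ∨ (∃ t ∈ FiThree.trans, m = S.up t) ∨ ∃ u, m = S.far u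

theorem d_inv : (S.L 11)⁻¹ = S.L 11 := inv_eq_of_mul_eq_one_right S.d_sq

theorem k_inv : (S.L 10)⁻¹ = S.L 10 := inv_eq_of_mul_eq_one_right S.k_sq

theorem up_gg {x : ℕ} (hx : x < 10) : S.up (gg x) = S.L x := by
  rw [up, S.iota_gg x hx, mul_assoc, S.d_sq, mul_one]

theorem conj_up (v t : Spor.Fi23) : S.iota v * S.up t * (S.iota v)⁻¹ = S.up (v * t * v⁻¹) := by
  calc S.iota v * (S.iota t * S.L 11) * (S.iota v)⁻¹ = S.iota v * S.iota t * (S.L 11 * S.iota v⁻¹) := by
        rw [map_inv]; group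
    _ = S.iota (v * t * v⁻¹) * S.L 11 := by rw [(S.d_comm v⁻¹).eq, map_mul, map_mul]; group

theorem conj_far (v u : Spor.Fi23) : S.iota v * S.far u * (S.iota v)⁻¹ = S.far (v * u) := by
  rw [far, far, map_mul]; group

theorem d_fix_up (t : Spor.Fi23) : S.L 11 * S.up t * (S.L 11)⁻¹ = S.up t := by
  have h : Commute (S.L 11) (S.up t) := (S.d_comm t).mul_right (Commute.refl (S.L 11))
  rw [h.eq, mul_inv_cancel_right]

theorem dkd : S.L 11 * S.L 10 * (S.L 11)⁻¹ = S.far (gg 1) := by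
  have h1 : Commute (S.L 10) (S.L 1) := by
    have h := S.k_near 8006 (by norm_num) one_common
    rwa [show tr 8006 = gg 1 from (gg_eq_tr (x := 1) (by norm_num)).symm,
      show S.iota (gg 1) * S.L 11 = S.L 1 from S.up_gg (by norm_num)] at h
  have h2 : Commute (S.L 11) (S.L 1) := by
    have h := (S.d_comm (gg 1)).mul_right (Commute.refl (S.L 11))
    rwa [show S.iota (gg 1) * S.L 11 = S.L 1 from S.up_gg (by norm_num)] at h
  rw [far, S.iota_gg 1 (by norm_num)]
  have h3 : Commute (S.L 1) (S.L 11 * S.L 10 * (S.L 11)⁻¹) :=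
    ((h2.symm.mul_right h1.symm).mul_right h2.symm.inv_right)
  calc S.L 11 * S.L 10 * (S.L 11)⁻¹ = S.L 1 * (S.L 11 * S.L 10 * (S.L 11)⁻¹) * (S.L 1)⁻¹ := by
        rw [h3.eq, mul_inv_cancel_right]
    _ = _ := by group

theorem d_far (u : Spor.Fi23) : S.L 11 * S.far u * (S.L 11)⁻¹ = S.far (u * gg 1) := by
  calc S.L 11 * S.far u * (S.L 11)⁻¹
      = (S.L 11 * S.iota u) * S.L 10 * ((S.L 11 * S.iota u))⁻¹ := by rw [far]; group
    _ = S.iota u * (S.L 11 * S.L 10 * (S.L 11)⁻¹) * (S.iota u)⁻¹ := by rw [(S.d_comm u).eq]; group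
    _ = S.iota u * S.far (gg 1) * (S.iota u)⁻¹ := by rw [S.dkd]
    _ = _ := S.conj_far u _

/-- Conjugation keeping the three kinds. -/
def Keeps (g : G) : Prop := ∀ m, S.InU m → S.InU (g * m * g⁻¹)

theorem keeps_mul {g g' : G} (h : S.Keeps g) (h' : S.Keeps g') : S.Keeps (g * g') := fun m hm => by
  rw [show g * g' * m * (g * g')⁻¹ = g * (g' * m * g'⁻¹) * g⁻¹ by group]
  exact h _ (h' m hm)

theorem keeps_iota (v : Spor.Fi23) : S.Keeps (S.iota v) := by
  rintro m (rfl | ⟨t, ht, rfl⟩ | ⟨u, rfl⟩)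
  · exact Or.inl (by rw [← (S.d_comm v).eq, mul_inv_cancel_right])
  · exact Or.inr (Or.inl ⟨_, Model.conj_mem_trans ht v, S.conj_up v t⟩)
  · exact Or.inr (Or.inr ⟨_, S.conj_far v u⟩)

theorem keeps_d : S.Keeps (S.L 11) := by
  rintro m (rfl | ⟨t, ht, rfl⟩ | ⟨u, rfl⟩)
  · exact Or.inl (by rw [mul_inv_cancel_right])
  · exact Or.inr (Or.inl ⟨t, ht, S.d_fix_up t⟩)
  · exact Or.inr (Or.inr ⟨_, S.d_far u⟩)

theorem keeps_low {x : ℕ} (hx : x < 10) : S.Keeps (S.L x) := by
  rw [← S.up_gg hx]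
  exact S.keeps_mul (S.keeps_iota _) S.keeps_d

/-- An element reversing the letters moves the lift of the centraliser of the central member to itself. -/
theorem reverse_iota {g : G} (gd : g * S.L 11 * g⁻¹ = S.iota zz * S.L 11)
    (gy : ∀ x < 9, g * S.L x * g⁻¹ = S.L (rv x)) :
    ∀ m ∈ FiThree.hSub, ∃ m' ∈ FiThree.hSub, g * S.iota m * g⁻¹ = S.iota m' := by
  have hgen : ∀ x ∈ FiThree.hLetters, ∃ m' ∈ FiThree.hSub, g * S.iota (gg x) * g⁻¹ = S.iota m' := fun x hx => by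
    have hx9 : x < 9 := (show ∀ y ∈ FiThree.hLetters, y < 9 by decide) x hx
    have hr := (rv_spec x hx9).1
    refine ⟨gg (rv x) * zz, mul_mem (FiThree.gg_mem_h ((show ∀ y < 9, y ∈ FiThree.hLetters by decide) _ hr))
      FiThree.zz_mem_h, ?_⟩
    rw [S.iota_gg x (by omega), show g * (S.L x * S.L 11) * g⁻¹ = (g * S.L x * g⁻¹) * (g * S.L 11 * g⁻¹) by group,
      gd, gy x hx9, ← S.up_gg (x := rv x) (by omega), up, map_mul]
    calc S.iota (gg (rv x)) * S.L 11 * (S.iota zz * S.L 11)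
        = S.iota (gg (rv x)) * (S.L 11 * S.iota zz) * S.L 11 := by group
      _ = S.iota (gg (rv x)) * S.iota zz * (S.L 11 * S.L 11) := by rw [(S.d_comm zz).eq]; group
      _ = _ := by rw [S.d_sq, mul_one]
  intro m hm
  induction hm using Subgroup.closure_induction with
  | mem _ hx => obtain ⟨x, hx, rfl⟩ := hx; exact hgen x hx
  | one => exact ⟨1, one_mem _, by rw [map_one, mul_one, mul_inv_cancel]⟩
  | mul a b _ _ ia ib =>
    obtain ⟨a', ha, ea⟩ := ia
    obtain ⟨b', hb, eb⟩ := ib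
    exact ⟨a' * b', mul_mem ha hb, by rw [map_mul, map_mul, ← ea, ← eb]; group⟩
  | inv a _ ia =>
    obtain ⟨a', ha, ea⟩ := ia
    exact ⟨a'⁻¹, inv_mem ha, by rw [map_inv, map_inv, ← ea]; group⟩

theorem flip_up {t : Spor.Fi23} (ht : t ∈ FiThree.trans) : S.InU (S.flip * S.up t * S.flip⁻¹) := by
  rcases Model.trans_cases ht with rfl | ⟨m, hm, rfl⟩ | ⟨m, hm, rfl⟩
  · exact Or.inl S.flip_p
  all_goals
    obtain ⟨m', hm', e⟩ := S.reverse_iota S.flip_d S.flip_y m hm
    rw [← S.conj_up, S.up_gg (by norm_num)]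
  · have e2 : S.flip * (S.iota m * S.L 0 * (S.iota m)⁻¹) * S.flip⁻¹ =
        S.iota m' * S.up (gg (rv 0)) * (S.iota m')⁻¹ := by
      rw [S.up_gg (by decide), ← S.flip_y 0 (by norm_num), ← e]; group
    rw [e2, S.conj_up]
    exact Or.inr (Or.inl ⟨_, Model.conj_mem_trans (Model.gg_mem_trans (by decide)) m', rfl⟩)
  · refine Or.inr (Or.inr ⟨m', ?_⟩)
    rw [far, ← e, ← S.flip_j]; group

theorem keeps_k : S.Keeps (S.L 10) := by
  rintro m (rfl | ⟨t, ht, rfl⟩ | ⟨u, rfl⟩)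
  · refine Or.inr (Or.inr ⟨gg 1, ?_⟩)
    rw [← S.dkd, S.k_inv, S.d_inv, S.dk]
  · obtain ⟨c, hc, rfl⟩ := exists_tr ht
    cases hb : Nat.testBit commonPts c with
    | true =>
      refine Or.inr (Or.inl ⟨_, ht, ?_⟩)
      rw [up, (S.k_near c hc hb).eq, mul_inv_cancel_right]
    | false =>
      refine Or.inr (Or.inr ⟨tr c * gg 1, ?_⟩)
      have e : S.up (tr c) = S.L 11 * (S.iota (tr c))⁻¹ := by
        have ht2 : (tr c)⁻¹ = tr c := by
          obtain ⟨g, hg⟩ := FiThree.mem_trans.1 ht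
          rw [hg, mul_inv_rev, mul_inv_rev, inv_inv, inv_eq_of_mul_eq_one_right FiThree.zz_sq, mul_assoc]
        rw [← map_inv, ht2, up, (S.d_comm _).eq]
      rw [up, S.k_inv, S.k_far c hc hb, ← S.conj_far, ← S.dkd, S.d_inv]
      nth_rw 2 [show S.iota (tr c) * S.L 11 = S.L 11 * (S.iota (tr c))⁻¹ from e]
      group
  · obtain ⟨a, ha, m, hm, b, hb, rfl⟩ := double u
    have hY : S.far (a * m * b) = S.iota a * S.far m * (S.iota a)⁻¹ := by
      rw [S.conj_far, far, far, map_mul _ (a * m) b,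
        show S.iota (a * m) * S.iota b * S.L 10 * (S.iota (a * m) * S.iota b)⁻¹ =
          S.iota (a * m) * (S.iota b * S.L 10) * (S.iota b)⁻¹ * (S.iota (a * m))⁻¹ by group,
        (S.k_stab b hb).eq]
      group
    rw [hY, show S.L 10 * (S.iota a * S.far m * (S.iota a)⁻¹) * (S.L 10)⁻¹ =
      (S.L 10 * S.iota a) * S.far m * (S.L 10 * S.iota a)⁻¹ by group, ← (S.k_stab a ha).eq,
      show S.iota a * S.L 10 * S.far m * (S.iota a * S.L 10)⁻¹ =
        S.iota a * (S.L 10 * S.far m * (S.L 10)⁻¹) * (S.iota a)⁻¹ by group]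
    refine S.keeps_iota a _ ?_
    have gd : S.flip⁻¹ * S.L 11 * S.flip⁻¹⁻¹ = S.iota zz * S.L 11 := by
      refine Eq.trans (congrArg (fun z => S.flip⁻¹ * z * S.flip⁻¹⁻¹) S.flip_p.symm) ?_
      group
    have gy : ∀ x < 9, S.flip⁻¹ * S.L x * S.flip⁻¹⁻¹ = S.L (rv x) := fun x hx => by
      have h := S.flip_y (rv x) (rv_spec x hx).1
      rw [(rv_spec x hx).2] at h
      rw [← h]; group
    obtain ⟨m', -, e⟩ := S.reverse_iota gd gy m hm
    set s := gg 9 * (m' * gg 9 * m'⁻¹) * (gg 9)⁻¹ with hs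
    have e1 : S.L 10 * S.far m * (S.L 10)⁻¹ =
        S.flip * (S.L 9 * S.up (m' * gg 9 * m'⁻¹) * (S.L 9)⁻¹) * S.flip⁻¹ := by
      rw [← S.conj_up, S.up_gg (by norm_num), ← e, far, ← S.flip_j]; group
    have e2 : S.L 9 * S.up (m' * gg 9 * m'⁻¹) * (S.L 9)⁻¹ = S.up s := by
      generalize hu : m' * gg 9 * m'⁻¹ = w
      rw [hs, hu, ← S.conj_up, ← S.up_gg (show 9 < 10 by norm_num), up]
      calc S.iota (gg 9) * S.L 11 * S.up w * (S.iota (gg 9) * S.L 11)⁻¹
          = S.iota (gg 9) * (S.L 11 * S.up w * (S.L 11)⁻¹) * (S.iota (gg 9))⁻¹ := by group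
        _ = _ := by rw [S.d_fix_up]
    rw [e1, e2]
    exact S.flip_up (Model.conj_mem_trans (Model.conj_mem_trans (Model.gg_mem_trans (by norm_num)) m') _)

theorem keeps_letter {x : ℕ} (hx : x < 12) : S.Keeps (S.L x) := by
  rcases (show x < 10 ∨ x = 10 ∨ x = 11 by omega) with h | rfl | rfl
  exacts [S.keeps_low h, S.keeps_k, S.keeps_d]

theorem letter_sq {x : ℕ} (hx : x < 12) : S.L x * S.L x = 1 := by
  rcases (show x < 10 ∨ x = 10 ∨ x = 11 by omega) with h | rfl | rfl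
  · have e : FiThree.gg x * FiThree.gg x = 1 := FiThree.gg_sq x
    rw [← S.up_gg h, up]
    calc S.iota (gg x) * S.L 11 * (S.iota (gg x) * S.L 11)
        = S.iota (gg x) * (S.L 11 * S.iota (gg x)) * S.L 11 := by group
      _ = S.iota (gg x) * S.iota (gg x) * (S.L 11 * S.L 11) := by rw [(S.d_comm _).eq]; group
      _ = 1 := by rw [← map_mul, e, map_one, S.d_sq, one_mul]
  exacts [S.k_sq, S.d_sq]

theorem keeps_closure {g : G} (hg : g ∈ Subgroup.closure (S.L '' {x | x < 12})) : S.Keeps g := by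
  induction hg using Subgroup.closure_induction'' with
  | mem _ hx => obtain ⟨x, hx, rfl⟩ := hx; exact S.keeps_letter hx
  | inv_mem _ hx =>
    obtain ⟨x, hx, rfl⟩ := hx
    rw [inv_eq_of_mul_eq_one_right (S.letter_sq hx)]
    exact S.keeps_letter hx
  | one => intro m hm; rwa [one_mul, inv_one, mul_one]
  | mul a b _ _ ia ib => exact S.keeps_mul ia ib

end Sys

end CfsgLib.Recog.FiM24
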